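import Cfsg.Agent.Components.ZJ.Basic
import Cfsg.Prelude.Def_LocalEven
import Cfsg.Agent.PGroups.Basic

/-!
Elements of small degree acting on a `p`-group, in groups with a normal series
`p`-group, abelian `p'`-group, `p`-group.
-/

set_option linter.style.haveILetI false
set_option linter.unusedSectionVars false

namespace Cfsg.Lib.Degree

open Subgroup
open scoped commutatorElement

/-- A unit `a` with `1 + a + ⋯ + a^(p-1) = 0` centralizes the abelian groups of units of order prime to `p`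
that it normalizes. -/
theorem commute_of_sum_pow_eq_zero {R : Type*} [Ring R] {p : ℕ} [Fact p.Prime] (hp0 : (p : R) = 0)
    {a : Rˣ} (hsum : ∑ i ∈ Finset.range p, (a : R) ^ i = 0) {C : Subgroup Rˣ} [Finite C]
    [IsMulCommutative C] (ha : a ∈ normalizer (C : Set Rˣ)) (hc : (Nat.card C).Coprime p) :
    ∀ r ∈ C, a * r = r * a := by
  classical
  have hp : p.Prime := Fact.out
  have hap : a ^ p = 1 := by
    refine Units.ext ?_
    have h := geom_sum_mul (a : R) p
    rw [hsum, zero_mul] at h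
    rw [Units.val_pow_eq_pow_val, Units.val_one]
    exact (sub_eq_zero.mp h.symm)
  have hcomm : ∀ x ∈ C, ∀ y ∈ C, x * y = y * x := fun x hx y hy =>
    congrArg Subtype.val (mul_comm' (⟨x, hx⟩ : C) ⟨y, hy⟩)
  let D : C →* C :=
    { toFun := fun r => ⟨(r : Rˣ) * (a * (r : Rˣ) * a⁻¹)⁻¹,
        mul_mem r.2 (inv_mem ((mem_normalizer_iff.mp ha _).mp r.2))⟩
      map_one' := Subtype.ext (by simp)
      map_mul' := fun r s => Subtype.ext (by
        simp only [Subgroup.coe_mul]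
        have h1 : (s : Rˣ) * (a * (s : Rˣ) * a⁻¹)⁻¹ ∈ C :=
          mul_mem s.2 (inv_mem ((mem_normalizer_iff.mp ha _).mp s.2))
        have h2 : (a * (r : Rˣ) * a⁻¹)⁻¹ ∈ C := inv_mem ((mem_normalizer_iff.mp ha _).mp r.2)
        calc (r : Rˣ) * s * (a * ((r : Rˣ) * s) * a⁻¹)⁻¹
            = r * ((s * (a * (s : Rˣ) * a⁻¹)⁻¹) * (a * (r : Rˣ) * a⁻¹)⁻¹) := by group
          _ = r * ((a * (r : Rˣ) * a⁻¹)⁻¹ * (s * (a * (s : Rˣ) * a⁻¹)⁻¹)) := by rw [hcomm _ h1 _ h2]
          _ = _ := by group) }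
  set S := D.range with hS
  have hfix : ∀ s ∈ S, a * (s : Rˣ) * a⁻¹ = (s : Rˣ) → s = 1 := by
    rintro _ ⟨r, rfl⟩ hs
    set s := D r with hsdef
    have hsr : a * (r : Rˣ) * a⁻¹ = (s : Rˣ)⁻¹ * (r : Rˣ) := by
      show _ = ((r : Rˣ) * (a * (r : Rˣ) * a⁻¹)⁻¹)⁻¹ * (r : Rˣ)
      group
    have hit : ∀ i : ℕ, a ^ i * (r : Rˣ) * (a ^ i)⁻¹ = ((s : Rˣ)⁻¹) ^ i * (r : Rˣ) := by
      intro i
      induction i with
      | zero => simp
      | succ i ih =>
        have hsi : a * (s : Rˣ)⁻¹ ^ i * a⁻¹ = (s : Rˣ)⁻¹ ^ i := by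
          rw [← conj_pow, show a * (s : Rˣ)⁻¹ * a⁻¹ = (a * (s : Rˣ) * a⁻¹)⁻¹ by group, hs]
        calc a ^ (i + 1) * (r : Rˣ) * (a ^ (i + 1))⁻¹ = a * (a ^ i * r * (a ^ i)⁻¹) * a⁻¹ := by
              rw [pow_succ']; group
          _ = (a * (s : Rˣ)⁻¹ ^ i * a⁻¹) * (a * r * a⁻¹) := by rw [ih]; group
          _ = _ := by rw [hsi, hsr, pow_succ]; exact (mul_assoc _ _ _).symm
    have h1 := hit p
    rw [hap, inv_one, mul_one, one_mul] at h1
    have h2 : ((s : Rˣ)⁻¹) ^ p = 1 := by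
      rwa [eq_comm, mul_eq_right] at h1
    have h3 : orderOf (s : Rˣ) ∣ p := by
      rw [inv_pow, inv_eq_one] at h2
      exact orderOf_dvd_of_pow_eq_one h2
    have h4 : orderOf (s : Rˣ) ∣ Nat.card C := by
      rw [orderOf_coe]; exact orderOf_dvd_natCard _
    exact Subtype.ext (orderOf_eq_one_iff.mp (Nat.eq_one_of_dvd_coprimes hc h4 h3))
  have hinv : ∀ (i : ℕ) (s : S), (a ^ i * ((s : C) : Rˣ) * (a ^ i)⁻¹) ∈ C ∧
      ∀ h : (a ^ i * ((s : C) : Rˣ) * (a ^ i)⁻¹) ∈ C, (⟨_, h⟩ : C) ∈ S := by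
    intro i
    induction i with
    | zero => intro s; simpa using s.2
    | succ i ih =>
      intro s
      obtain ⟨h1, h2⟩ := ih s
      obtain ⟨r, hr⟩ := h2 h1
      have e : a ^ (i + 1) * ((s : C) : Rˣ) * (a ^ (i + 1))⁻¹ =
          a * (a ^ i * ((s : C) : Rˣ) * (a ^ i)⁻¹) * a⁻¹ := by rw [pow_succ']; group
      refine ⟨e ▸ (mem_normalizer_iff.mp ha _).mp h1, fun h => ⟨⟨a * (r : Rˣ) * a⁻¹, (mem_normalizer_iff.mp ha _).mp r.2⟩, ?_⟩⟩
      refine Subtype.ext ?_
      show a * (r : Rˣ) * a⁻¹ * (a * (a * (r : Rˣ) * a⁻¹) * a⁻¹)⁻¹ =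
        a ^ (i + 1) * ((s : C) : Rˣ) * (a ^ (i + 1))⁻¹
      rw [e, show a ^ i * ((s : C) : Rˣ) * (a ^ i)⁻¹ = (D r : Rˣ) from (congrArg Subtype.val hr).symm]
      show _ = a * ((r : Rˣ) * (a * (r : Rˣ) * a⁻¹)⁻¹) * a⁻¹
      group
  haveI : Fintype S := Fintype.ofFinite S
  set T : R := ∑ s : S, (((s : C) : Rˣ) : R)
  have key : ∀ i : ℕ, 0 < i → i < p →
      ∑ s : S, (((s : C) : Rˣ) : R) * (a : R) ^ i * (((s : C) : Rˣ)⁻¹ : Rˣ) = T * (a : R) ^ i := by
    intro i hi hip
    let Di : S → S := fun s => s * (⟨⟨_, (hinv i s).1⟩, (hinv i s).2 (hinv i s).1⟩ : S)⁻¹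
    have hDi : Function.Injective Di := by
      intro s t hst
      set w := t⁻¹ * s
      have e : ((s : C) : Rˣ) * (a ^ i * ((s : C) : Rˣ) * (a ^ i)⁻¹)⁻¹ =
          ((t : C) : Rˣ) * (a ^ i * ((t : C) : Rˣ) * (a ^ i)⁻¹)⁻¹ :=
        congrArg (fun x : S => ((x : C) : Rˣ)) hst
      have e2 : a ^ i * ((w : C) : Rˣ) * (a ^ i)⁻¹ = ((w : C) : Rˣ) := by
        show a ^ i * (((t : C) : Rˣ)⁻¹ * ((s : C) : Rˣ)) * (a ^ i)⁻¹ = ((t : C) : Rˣ)⁻¹ * ((s : C) : Rˣ)
        calc a ^ i * (((t : C) : Rˣ)⁻¹ * ((s : C) : Rˣ)) * (a ^ i)⁻¹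
            = (a ^ i * ((t : C) : Rˣ) * (a ^ i)⁻¹)⁻¹ * (a ^ i * ((s : C) : Rˣ) * (a ^ i)⁻¹) := by group
          _ = ((t : C) : Rˣ)⁻¹ * (((t : C) : Rˣ) * (a ^ i * ((t : C) : Rˣ) * (a ^ i)⁻¹)⁻¹) *
                (a ^ i * ((s : C) : Rˣ) * (a ^ i)⁻¹) := by group
          _ = _ := by rw [← e]; group
      have hcop : (orderOf a).Coprime i := Nat.Coprime.coprime_dvd_left (orderOf_dvd_of_pow_eq_one hap)
        ((Nat.Prime.coprime_iff_not_dvd hp).mpr fun h => by
          have := Nat.le_of_dvd hi h; omega)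
      obtain ⟨j, hj⟩ := exists_pow_eq_self_of_coprime (n := i) hcop.symm
      have e3 : a * ((w : C) : Rˣ) * a⁻¹ = ((w : C) : Rˣ) := by
        rw [← hj]
        have : Commute (a ^ i) ((w : C) : Rˣ) := mul_inv_eq_iff_eq_mul.mp e2
        rw [(this.pow_left j).eq, mul_inv_cancel_right]
      exact (inv_mul_eq_one.mp (Subtype.ext (hfix _ w.2 e3) : t⁻¹ * s = 1)).symm
    rw [Finset.sum_mul]
    refine Fintype.sum_bijective Di (Finite.injective_iff_bijective.mp hDi) _ _ fun s => ?_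
    rw [← Units.val_pow_eq_pow_val, ← Units.val_mul, ← Units.val_mul, ← Units.val_mul]
    congr 1
    show _ = ((s : C) : Rˣ) * (a ^ i * ((s : C) : Rˣ) * (a ^ i)⁻¹)⁻¹ * a ^ i
    group
  have hT : T = (Fintype.card S : R) := by
    have hsplit : (1 : R) + ∑ i ∈ Finset.Ico 1 p, (a : R) ^ i = 0 := by
      rw [← hsum, ← Finset.sum_range_add_sum_Ico _ hp.one_le, Finset.sum_range_one, pow_zero]
    have hE : ∑ i ∈ Finset.Ico 1 p, (a : R) ^ i = -1 := eq_neg_of_add_eq_zero_right hsplit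
    have h1 : ∑ i ∈ Finset.Ico 1 p, ∑ s : S,
        (((s : C) : Rˣ) : R) * (a : R) ^ i * (((s : C) : Rˣ)⁻¹ : Rˣ) = T * -1 := by
      rw [← hE, Finset.mul_sum]
      refine Finset.sum_congr rfl fun i hi => ?_
      rw [Finset.mem_Ico] at hi
      exact key i (by omega) hi.2
    rw [Finset.sum_comm] at h1
    simp only [← Finset.sum_mul, ← Finset.mul_sum, hE, mul_neg, mul_one, neg_mul, Units.mul_inv,
      Finset.sum_neg_distrib, Finset.sum_const, Finset.card_univ, nsmul_eq_mul] at h1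
    exact (neg_injective h1).symm
  intro r hr
  set s : S := ⟨D ⟨r, hr⟩, ⟨⟨r, hr⟩, rfl⟩⟩
  have hs : (((s : C) : Rˣ) : R) * T = T := by
    rw [Finset.mul_sum]
    refine Fintype.sum_equiv (Equiv.mulLeft s) _ _ fun t => ?_
    rw [← Units.val_mul]
    rfl
  rw [hT] at hs
  have hcop : (Fintype.card S).Coprime p := by
    rw [← Nat.card_eq_fintype_card]
    exact hc.coprime_dvd_left (card_subgroup_dvd_card S)
  have hb : (1 : ℤ) = (Fintype.card S : ℤ) * Nat.gcdA (Fintype.card S) p + (p : ℤ) * Nat.gcdB (Fintype.card S) p := by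
    rw [← Nat.gcd_eq_gcd_ab, hcop]; rfl
  have hu : (Fintype.card S : R) * (Nat.gcdA (Fintype.card S) p : R) = 1 := by
    have := congrArg (fun z : ℤ => (z : R)) hb
    push_cast at this
    rw [hp0, zero_mul, add_zero] at this
    exact this.symm
  have hs1 : ((s : C) : Rˣ) = 1 := Units.ext (by
    calc (((s : C) : Rˣ) : R) = ((s : C) : Rˣ) * ((Fintype.card S : R) * (Nat.gcdA (Fintype.card S) p : R)) := by
          rw [hu, mul_one]
      _ = (Fintype.card S : R) * (Nat.gcdA (Fintype.card S) p : R) := by rw [← mul_assoc, hs]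
      _ = _ := by rw [hu, Units.val_one])
  have h2 : r * (a * r * a⁻¹)⁻¹ = 1 := hs1
  rw [mul_inv_eq_one] at h2
  calc a * r = (a * r * a⁻¹) * a := by group
    _ = r * a := by rw [← h2]

open Polynomial in
/-- in characteristic `p`, `1 + a + ⋯ + a^(p-1) = (a-1)^(p-1)` -/
theorem sum_pow_eq {R : Type*} [Ring R] {p : ℕ} [Fact p.Prime] (hp0 : (p : R) = 0) (a : R) :
    ∑ i ∈ Finset.range p, a ^ i = (a - 1) ^ (p - 1) := by
  have hp : p.Prime := Fact.out
  rcases subsingleton_or_nontrivial R with h | h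
  · exact Subsingleton.elim _ _
  haveI : CharP R p := (CharP.charP_iff_prime_eq_zero hp).mpr hp0
  have hpoly : ∑ i ∈ Finset.range p, (X : (ZMod p)[X]) ^ i = (X - 1) ^ (p - 1) := by
    have h1 := geom_sum_mul (X : (ZMod p)[X]) p
    have h2 : (X : (ZMod p)[X]) ^ p - 1 = (X - 1) ^ p := by rw [sub_pow_char, one_pow]
    rw [h2, ← pow_sub_one_mul hp.ne_zero] at h1
    exact mul_right_cancel₀ (by rw [← C_1]; exact X_sub_C_ne_zero 1) h1
  let f := Polynomial.eval₂RingHom' (ZMod.castHom (dvd_refl p) R) a (fun x => by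
    rw [← ZMod.natCast_zmod_val x, map_natCast]; exact Nat.cast_commute _ _)
  have hX : f X = a := eval₂_X (ZMod.castHom (dvd_refl p) R) a
  have := congrArg f hpoly
  simp only [map_sum, map_pow, map_sub, map_one, hX] at this
  exact this

universe u

variable {p : ℕ} [Fact p.Prime]

theorem conj_sub_one_pow_mem {Γ : Type*} [Group Γ] {W : Subgroup Γ} {g : Γ}
    (hg : ∀ x ∈ W, g * x * g⁻¹ ∈ W) :
    ∀ i : ℕ, ∀ x ∈ W, (fun y => g * y * g⁻¹ * y⁻¹)^[i] x ∈ Cfsg.iterCommutator W (zpowers g) i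
  | 0, _, hx => hx
  | i + 1, x, hx => by
    rw [Function.iterate_succ_apply']
    show _ ∈ ⁅Cfsg.iterCommutator W (zpowers g) i, zpowers g⁆
    rw [commutator_comm]
    exact commutator_mem_commutator (mem_zpowers g) (conj_sub_one_pow_mem hg i x hx)

theorem iterCommutator_mono {Γ : Type*} [Group Γ] {W P : Subgroup Γ} (h : W ≤ P) (B : Subgroup Γ) :
    ∀ i, Cfsg.iterCommutator W B i ≤ Cfsg.iterCommutator P B i
  | 0 => h
  | i + 1 => commutator_mono (iterCommutator_mono h B i) le_rfl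

theorem map_iterCommutator {Γ Δ : Type*} [Group Γ] [Group Δ] (f : Γ →* Δ) (W B : Subgroup Γ) :
    ∀ i, (Cfsg.iterCommutator W B i).map f = Cfsg.iterCommutator (W.map f) (B.map f) i
  | 0 => rfl
  | i + 1 => by
    show (⁅_, _⁆ : Subgroup Γ).map f = ⁅_, _⁆
    rw [map_commutator, map_iterCommutator f W B i]

theorem iterCommutator_eq_bot_of_le {Γ : Type*} [Group Γ] {W B : Subgroup Γ} {i j : ℕ} (hij : i ≤ j)
    (h : Cfsg.iterCommutator W B i = ⊥) : Cfsg.iterCommutator W B j = ⊥ := by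
  induction j, hij using Nat.le_induction with
  | base => exact h
  | succ j _ ih =>
    show ⁅_, _⁆ = ⊥
    rw [ih, commutator_bot_left]

/-- a normal series `p`-group, abelian of exponent prime to `p`, `p`-group -/
def PAP (p : ℕ) (X : Type*) [Group X] : Prop :=
  ∃ (A M : Subgroup X) (m : ℕ), A.Normal ∧ M.Normal ∧ IsPGroup p A ∧ m.Coprime p ∧
    (∀ x ∈ M, ∀ y ∈ M, ⁅x, y⁆ ∈ A) ∧ (∀ x ∈ M, x ^ m ∈ A) ∧ ∀ x : X, ∃ k, x ^ p ^ k ∈ M

theorem PAP.of_injective {X Y : Type*} [Group X] [Group Y] (f : Y →* X) (hf : Function.Injective f)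
    (h : PAP p X) : PAP p Y := by
  obtain ⟨A, M, m, hA, hM, hAp, hm, h1, h2, h3⟩ := h
  refine ⟨A.comap f, M.comap f, m, hA.comap f, hM.comap f, hAp.comap_of_injective f hf, hm,
    fun x hx y hy => ?_, fun x hx => ?_, fun x => ?_⟩
  · rw [mem_comap, map_commutatorElement]; exact h1 _ hx _ hy
  · rw [mem_comap, map_pow]; exact h2 _ hx
  · obtain ⟨k, hk⟩ := h3 (f x)
    exact ⟨k, by rwa [mem_comap, map_pow]⟩

theorem PAP.of_surjective {X Y : Type*} [Group X] [Group Y] (f : X →* Y) (hf : Function.Surjective f)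
    (h : PAP p X) : PAP p Y := by
  obtain ⟨A, M, m, hA, hM, hAp, hm, h1, h2, h3⟩ := h
  refine ⟨A.map f, M.map f, m, hA.map f hf, hM.map f hf, hAp.map f, hm, ?_, ?_, fun y => ?_⟩
  · rintro _ ⟨x, hx, rfl⟩ _ ⟨y, hy, rfl⟩
    rw [← map_commutatorElement]; exact mem_map_of_mem f (h1 _ hx _ hy)
  · rintro _ ⟨x, hx, rfl⟩
    rw [← map_pow]; exact mem_map_of_mem f (h2 _ hx)
  · obtain ⟨x, rfl⟩ := hf y
    obtain ⟨k, hk⟩ := h3 x
    exact ⟨k, by rw [← map_pow]; exact mem_map_of_mem f hk⟩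

/-- the `p'`-parts of `g` and of its commutators with `M` centralize `P` -/
theorem centralizes_pPart (n : ℕ) : ∀ {Γ : Type u} [Group Γ] [Finite Γ] (P : Subgroup Γ) [P.Normal],
    Nat.card P = n → IsPGroup p P → ∀ g : Γ, Cfsg.iterCommutator P (zpowers g) (p - 1) = ⊥ →
      ∀ (A M : Subgroup Γ) (m : ℕ), A.Normal → M.Normal → IsPGroup p A → m.Coprime p →
        (∀ x ∈ M, ∀ y ∈ M, ⁅x, y⁆ ∈ A) → (∀ x ∈ M, x ^ m ∈ A) →
        ∀ b : Γ, (orderOf b).Coprime p → (b ∈ zpowers g ∨ ∃ r ∈ M, b ∈ zpowers ⁅g, r⁆) →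
          b ∈ centralizer (P : Set Γ) := by
  induction n using Nat.strong_induction_on with
  | _ n ih =>
  intro Γ _ _ P _ hn hP g hg A M m hA hM hAp hm h1 h2 b hb hbg
  by_cases hPb : P = ⊥
  · rw [hPb]
    exact mem_centralizer_iff.mpr fun y hy => by rw [mem_bot.mp hy]; simp
  haveI := hA
  haveI := hM
  -- a small invariant subgroup fixed by `A`
  have hZn : (P ⊓ centralizer (P : Set Γ) ⊓ centralizer (A : Set Γ)).Normal := inferInstance
  set Z := P ⊓ centralizer (P : Set Γ) ⊓ centralizer (A : Set Γ) with hZ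
  have hZcomm : ∀ x ∈ Z, ∀ y ∈ Z, x * y = y * x := fun x hx y hy =>
    mem_centralizer_iff.mp hy.1.2 x hx.1.1
  let W : Subgroup Γ :=
    { carrier := {x | x ∈ Z ∧ x ^ p = 1}
      one_mem' := ⟨one_mem _, one_pow p⟩
      mul_mem' := fun {x y} hx hy => ⟨mul_mem hx.1 hy.1, by
        have hc : Commute x y := hZcomm x hx.1 y hy.1
        rw [hc.mul_pow, hx.2, hy.2, one_mul]⟩
      inv_mem' := fun {x} hx => ⟨inv_mem hx.1, by rw [inv_pow, hx.2, inv_one]⟩ }
  have hWP : W ≤ P := fun x hx => hx.1.1.1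
  haveI hWn : W.Normal := ⟨fun x hx y =>
    ⟨hZn.conj_mem x hx.1 y, by rw [conj_pow, hx.2, mul_one, mul_inv_cancel]⟩⟩
  haveI hWc : IsMulCommutative W := ⟨⟨fun x y => Subtype.ext (hZcomm x x.2.1 y y.2.1)⟩⟩
  have hWne : W ≠ ⊥ := by
    set Q := P ⊔ A
    have hQ : IsPGroup p Q := hP.to_sup_of_normal_right hAp
    have hcne : P.subgroupOf Q ≠ ⊥ := by
      rw [Ne, subgroupOf_eq_bot, disjoint_iff, inf_eq_left.mpr le_sup_left]
      exact hPb
    haveI : (P.subgroupOf Q).Normal := inferInstance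
    obtain ⟨z, hz1, hz2, hz3⟩ := Cfsg.Lib.PGroups.exists_mem_center_of_normal_ne_bot hQ hcne
    have hzW : (z : Γ) ∈ W := ⟨⟨⟨hz1, mem_centralizer_iff.mpr fun y hy =>
        congrArg Subtype.val (mem_center_iff.mp hz2 ⟨y, mem_sup_left hy⟩)⟩,
        mem_centralizer_iff.mpr fun y hy =>
          congrArg Subtype.val (mem_center_iff.mp hz2 ⟨y, mem_sup_right hy⟩)⟩,
      by rw [← SubmonoidClass.coe_pow, ← hz3, pow_orderOf_eq_one, OneMemClass.coe_one]⟩
    intro hW
    rw [hW, mem_bot] at hzW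
    rw [show z = 1 from Subtype.ext hzW, orderOf_one] at hz3
    exact (Fact.out : p.Prime).ne_one hz3.symm
  -- the image
  have hquot : ∀ x ∈ P, b * x * b⁻¹ * x⁻¹ ∈ W := by
    intro x hx
    set π := QuotientGroup.mk' W
    haveI : (P.map π).Normal := Subgroup.Normal.map inferInstance π (QuotientGroup.mk'_surjective W)
    have hlt : Nat.card (P.map π) < n := by
      have h := relIndex_mul_relIndex ⊥ W P bot_le hWP
      rw [relIndex_bot_left, relIndex_bot_left] at h
      have h' := relIndex_ker (K := P) π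
      rw [QuotientGroup.ker_mk'] at h'
      rw [← hn, ← h, ← h']
      exact lt_mul_of_one_lt_left (Nat.pos_of_ne_zero (index_ne_zero_of_finite (H := W.subgroupOf P)))
        ((one_lt_card_iff_ne_bot W).mpr hWne)
    have hmem := ih _ hlt (P.map π) rfl (hP.map π) (π g)
      (by rw [← MonoidHom.map_zpowers, ← map_iterCommutator, hg, Subgroup.map_bot])
      (A.map π) (M.map π) m (hA.map π (QuotientGroup.mk'_surjective W))
      (hM.map π (QuotientGroup.mk'_surjective W)) (hAp.map π) hm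
      (by
        rintro _ ⟨u, hu, rfl⟩ _ ⟨v, hv, rfl⟩
        rw [← map_commutatorElement]; exact mem_map_of_mem π (h1 _ hu _ hv))
      (by
        rintro _ ⟨u, hu, rfl⟩
        rw [← map_pow]; exact mem_map_of_mem π (h2 _ hu))
      (π b) (hb.coprime_dvd_left (orderOf_map_dvd π b)) (by
        rcases hbg with h | ⟨r, hr, h⟩
        · exact Or.inl (MonoidHom.map_zpowers π g ▸ mem_map_of_mem π h)
        · exact Or.inr ⟨π r, mem_map_of_mem π hr, by
            rw [← map_commutatorElement, ← MonoidHom.map_zpowers]; exact mem_map_of_mem π h⟩)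
    have h4 := mem_centralizer_iff.mp hmem (π x) (mem_map_of_mem π hx)
    rw [← QuotientGroup.eq_one_iff]
    show π (b * x * b⁻¹ * x⁻¹) = 1
    rw [map_mul, map_mul, map_mul, map_inv, map_inv, ← h4, mul_inv_cancel_right, mul_inv_cancel]
  have hbW : ∀ w ∈ W, b * w * b⁻¹ = w := by
    let φ : Γ →* AddMonoid.End (Additive W) :=
      { toFun := fun x => MonoidHom.toAdditive (MulAut.conjNormal (H := W) x).toMonoidHom
        map_one' := AddMonoidHom.ext fun v => by
          show Additive.ofMul (MulAut.conjNormal 1 v.toMul) = v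
          rw [map_one]; rfl
        map_mul' := fun x y => AddMonoidHom.ext fun v => by
          show Additive.ofMul (MulAut.conjNormal (x * y) v.toMul) =
            Additive.ofMul (MulAut.conjNormal x (MulAut.conjNormal y v.toMul))
          rw [map_mul]; rfl }
    letI : CommGroup W := { (inferInstance : Group W) with mul_comm := mul_comm' }
    let ψ : Γ →* (AddMonoid.End (Additive W))ˣ := φ.toHomUnits
    have hval : ∀ (x : Γ) (w : W), ((φ x (Additive.ofMul w)).toMul : Γ) = x * w * x⁻¹ :=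
      fun x w => MulAut.conjNormal_apply x w
    have hker : ∀ x, (∀ w ∈ W, x * w * x⁻¹ = w) → φ x = 1 := fun x hx => AddMonoidHom.ext fun v => by
      exact congrArg Additive.ofMul (a₂ := v.toMul) (Subtype.ext ((hval x v.toMul).trans (hx _ v.toMul.2)))
    have hp0 : (p : AddMonoid.End (Additive W)) = 0 := AddMonoidHom.ext fun v => by
      exact (AddMonoid.End.natCast_apply p v).trans
        (congrArg Additive.ofMul (Subtype.ext v.toMul.2.2 : v.toMul ^ p = 1))
    have hiter : ∀ (i : ℕ) (w : W),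
        ((((φ g - 1) ^ i) (Additive.ofMul w)).toMul : Γ) = (fun y => g * y * g⁻¹ * y⁻¹)^[i] (w : Γ) := by
      intro i
      induction i with
      | zero => intro w; rfl
      | succ i ihi =>
        intro w
        rw [pow_succ', Function.iterate_succ_apply', ← ihi w]
        set v := ((φ g - 1) ^ i) (Additive.ofMul w)
        show (((φ g - 1) v).toMul : Γ) = g * (v.toMul : Γ) * g⁻¹ * (v.toMul : Γ)⁻¹
        show ((φ g v - v).toMul : Γ) = _
        show ((φ g v).toMul : Γ) / (v.toMul : Γ) = _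
        rw [div_eq_mul_inv, show ((φ g v).toMul : Γ) = g * (v.toMul : Γ) * g⁻¹ from hval g v.toMul]
    have hdeg : (φ g - 1) ^ (p - 1) = 0 := AddMonoidHom.ext fun v => by
      have h := conj_sub_one_pow_mem (W := W) (g := g) (fun x hx => hWn.conj_mem x hx g) (p - 1) _ v.toMul.2
      rw [← hiter (p - 1) v.toMul] at h
      have h' := iterCommutator_mono hWP _ _ h
      rw [hg, mem_bot] at h'
      exact congrArg Additive.ofMul (Subtype.ext h' : (((φ g - 1) ^ (p - 1)) v).toMul = (1 : W))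
    have hsum : ∑ i ∈ Finset.range p, ((ψ g : AddMonoid.End (Additive W))) ^ i = 0 := by
      rw [sum_pow_eq hp0]; exact hdeg
    haveI : Finite (Additive W) := Finite.of_equiv W Additive.ofMul
    haveI : Finite (AddMonoid.End (Additive W)) :=
      Finite.of_injective (fun f : AddMonoid.End (Additive W) => (⇑f : Additive W → Additive W))
        (fun f f' h => AddMonoidHom.ext (congrFun h))
    haveI : IsMulCommutative (M.map ψ) := by
      refine ⟨⟨?_⟩⟩
      rintro ⟨_, x, hx, rfl⟩ ⟨_, y, hy, rfl⟩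
      refine Subtype.ext ?_
      show ψ x * ψ y = ψ y * ψ x
      rw [← commutatorElement_eq_one_iff_mul_comm, ← map_commutatorElement]
      exact Units.ext (hker _ fun w hw => by
        rw [mem_centralizer_iff.mp hw.1.2 _ (h1 x hx y hy), mul_inv_cancel_right])
    have hcop : (Nat.card (M.map ψ)).Coprime p := by
      rw [Nat.coprime_comm, (Fact.out : p.Prime).coprime_iff_not_dvd]
      intro hd
      obtain ⟨⟨_, x, hx, rfl⟩, hord⟩ := exists_prime_orderOf_dvd_card' p hd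
      rw [← orderOf_coe] at hord
      have hxm : ψ x ^ m = 1 := by
        rw [← map_pow]
        exact Units.ext (hker _ fun w hw => by
          rw [mem_centralizer_iff.mp hw.1.2 _ (h2 x hx), mul_inv_cancel_right])
      exact (Fact.out : p.Prime).not_dvd_one (hm ▸ Nat.dvd_gcd (hord ▸ orderOf_dvd_of_pow_eq_one hxm) dvd_rfl)
    have hcent := commute_of_sum_pow_eq_zero hp0 hsum
      (le_normalizer_map ψ ⟨g, by rw [normalizer_eq_top]; exact mem_top g, rfl⟩) hcop
    have hψb : ψ b = 1 := by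
      have hgp : ψ g ^ p = 1 := Units.ext (by
        have h := geom_sum_mul (ψ g : AddMonoid.End (Additive W)) p
        rw [hsum, zero_mul] at h
        rw [Units.val_pow_eq_pow_val, Units.val_one]
        exact sub_eq_zero.mp h.symm)
      rcases hbg with h | ⟨r, hr, h⟩
      · refine orderOf_eq_one_iff.mp (Nat.eq_one_of_dvd_coprimes hb (orderOf_map_dvd ψ b) ?_)
        obtain ⟨k, rfl⟩ := h
        refine orderOf_dvd_of_pow_eq_one ?_
        show ψ (g ^ k) ^ p = 1
        rw [map_zpow, ← zpow_natCast, ← zpow_mul, mul_comm, zpow_mul, zpow_natCast, hgp, one_zpow]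
      · obtain ⟨k, rfl⟩ := h
        show ψ (⁅g, r⁆ ^ k) = 1
        rw [map_zpow, map_commutatorElement,
          commutatorElement_eq_one_iff_mul_comm.mpr (hcent _ ⟨r, hr, rfl⟩), one_zpow]
    intro w hw
    have h0 : φ b = 1 := congrArg Units.val hψb
    have := hval b ⟨w, hw⟩
    rw [h0] at this
    exact this.symm
  -- coprime action
  rw [mem_centralizer_iff]
  intro x hx
  set w := b * x * b⁻¹ * x⁻¹ with hw
  have hwW := hquot x hx
  have hit : ∀ i : ℕ, b ^ i * x * (b ^ i)⁻¹ = w ^ i * x := by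
    intro i
    induction i with
    | zero => simp
    | succ i ihi =>
      calc b ^ (i + 1) * x * (b ^ (i + 1))⁻¹ = b * (b ^ i * x * (b ^ i)⁻¹) * b⁻¹ := by
            rw [pow_succ']; group
        _ = (b * w ^ i * b⁻¹) * (b * x * b⁻¹) := by rw [ihi]; group
        _ = w ^ i * (w * x) := by rw [hbW _ (pow_mem hwW i), hw]; group
        _ = _ := by rw [pow_succ]; exact (mul_assoc _ _ _).symm
  have h5 := hit (orderOf b)
  rw [pow_orderOf_eq_one, inv_one, mul_one, one_mul, eq_comm, mul_eq_right] at h5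
  have hw1 : w = 1 := orderOf_eq_one_iff.mp (Nat.eq_one_of_dvd_coprimes hb
    (orderOf_dvd_of_pow_eq_one h5) (orderOf_dvd_of_pow_eq_one hwW.2))
  rw [hw, mul_inv_eq_one] at hw1
  calc x * b = b * x * b⁻¹ * b := by rw [hw1]
    _ = b * x := by group

/-- **small degree implies `O_p`** -/
theorem mem_pCore {Γ : Type u} [Group Γ] [Finite Γ] (hX : PAP p Γ) (P : Subgroup Γ) [P.Normal]
    (hP : IsPGroup p P) {g : Γ} (hg : Cfsg.iterCommutator P (zpowers g) (p - 1) = ⊥) :
    (QuotientGroup.mk g : Γ ⧸ centralizer (P : Set Γ)) ∈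
      Cfsg.pCore p (Γ ⧸ centralizer (P : Set Γ)) := by
  obtain ⟨A, M, m, hA, hM, hAp, hm, h1, h2, h3⟩ := hX
  set π := QuotientGroup.mk' (centralizer (P : Set Γ))
  have hπ : Function.Surjective π := QuotientGroup.mk'_surjective _
  have hpel : ∀ d : Γ, (∀ b ∈ zpowers d, (orderOf b).Coprime p → b ∈ centralizer (P : Set Γ)) →
      ∃ j, π d ^ p ^ j = 1 := by
    intro d hd
    obtain ⟨x, y, -, hy, hxy, ⟨j, hj⟩, hcop⟩ := Cfsg.Lib.Transfer.exists_pPart p d
    refine ⟨j, ?_⟩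
    rw [← hxy, map_mul, show π y = 1 from (QuotientGroup.eq_one_iff y).mpr (hd y hy hcop), mul_one,
      ← map_pow, ← hj, pow_orderOf_eq_one, map_one]
  have hgp : ∃ j, π g ^ p ^ j = 1 := hpel g fun b hb hc =>
    centralizes_pPart _ P rfl hP g hg A M m hA hM hAp hm h1 h2 b hc (Or.inl hb)
  haveI : (A.map π).Normal := hA.map π hπ
  set ρ := QuotientGroup.mk' (A.map π)
  have hρ : Function.Surjective ρ := QuotientGroup.mk'_surjective _
  set M'' := (M.map π).map ρ with hM''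
  haveI : M''.Normal := (hM.map π hπ).map ρ hρ
  have hcm : ρ (π g) ∈ centralizer (SetLike.coe M'') := by
    rw [mem_centralizer_iff]
    rintro _ ⟨_, ⟨r, hr, rfl⟩, rfl⟩
    obtain ⟨j, hj⟩ := hpel ⁅g, r⁆ fun b hb hc =>
      centralizes_pPart _ P rfl hP g hg A M m hA hM hAp hm h1 h2 b hc (Or.inr ⟨r, hr, hb⟩)
    have hdM : ⁅g, r⁆ ∈ M := by
      rw [commutatorElement_def]
      exact mul_mem (hM.conj_mem r hr g) (inv_mem hr)
    have hdm : π ⁅g, r⁆ ^ m ∈ A.map π := by rw [← map_pow]; exact mem_map_of_mem π (h2 _ hdM)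
    obtain ⟨i, hi⟩ := exists_pow_eq_self_of_coprime (n := m) (x := π ⁅g, r⁆)
      (hm.coprime_dvd_right (dvd_refl p) |> fun h => (Nat.Coprime.pow_right j h).coprime_dvd_right
        (orderOf_dvd_of_pow_eq_one hj))
    have hmem : π ⁅g, r⁆ ∈ A.map π := hi ▸ pow_mem hdm i
    have h6 : ρ (π ⁅g, r⁆) = 1 := (QuotientGroup.eq_one_iff _).mpr hmem
    rw [map_commutatorElement, map_commutatorElement, commutatorElement_eq_one_iff_mul_comm] at h6
    exact h6.symm
  set H := centralizer (SetLike.coe M'')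
  haveI : H.Normal := inferInstance
  let θ : H →* _ ⧸ M'' := (QuotientGroup.mk' M'').comp H.subtype
  have hθp : IsPGroup p θ.range := by
    rintro ⟨_, x, rfl⟩
    obtain ⟨y, hy⟩ := hρ (x : _)
    obtain ⟨z, rfl⟩ := hπ y
    obtain ⟨k, hk⟩ := h3 z
    refine ⟨k, Subtype.ext ?_⟩
    show (QuotientGroup.mk' M'') (x : _) ^ p ^ k = 1
    rw [← hy, ← map_pow, ← map_pow, ← map_pow]
    exact (QuotientGroup.eq_one_iff _).mpr ⟨_, ⟨_, hk, rfl⟩, rfl⟩
  haveI : Group.IsNilpotent θ.range := hθp.isNilpotent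
  haveI : Group.IsNilpotent H := Subgroup.isNilpotent_of_ker_le_center θ.rangeRestrict
    (by
      rw [MonoidHom.ker_rangeRestrict]
      intro x hx
      rw [mem_center_iff]
      intro y
      have hx' : Subtype.val x ∈ M'' := (QuotientGroup.eq_one_iff _).mp hx
      exact Subtype.ext ((mem_centralizer_iff.mp y.2 _ hx').symm))
  obtain ⟨j, hj⟩ := hgp
  have hgH : IsPGroup p (zpowers (⟨ρ (π g), hcm⟩ : H)) := by
    refine IsPGroup.iff_orderOf.mpr ?_
    rintro ⟨_, k, rfl⟩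
    obtain ⟨i, -, hi⟩ := (Nat.dvd_prime_pow (Fact.out : p.Prime)).mp (show orderOf (⟨_, ⟨k, rfl⟩⟩ : zpowers (⟨ρ (π g), hcm⟩ : H)) ∣ p ^ j from
      orderOf_dvd_of_pow_eq_one (Subtype.ext (Subtype.ext (by
        show (ρ (π g) ^ k) ^ p ^ j = 1
        rw [← zpow_natCast, ← zpow_mul, mul_comm, zpow_mul, zpow_natCast, ← map_pow, hj, map_one, one_zpow]))))
    exact ⟨i, hi⟩
  obtain ⟨Sy, hSy⟩ := hgH.exists_le_sylow
  haveI : (Sy : Subgroup H).Normal := Sylow.normal_of_normalizerCondition Group.normalizerCondition_of_isNilpotent Sy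
  haveI : (Sy : Subgroup H).Characteristic := Sylow.characteristic_of_normal Sy inferInstance
  have hY : ρ (π g) ∈ Cfsg.pCore p _ := Cfsg.Lib.Components.le_pCore (Sy.2.map H.subtype)
    ⟨_, hSy (mem_zpowers _), rfl⟩
  exact Cfsg.Lib.Components.le_pCore ((Cfsg.Lib.Components.isPGroup_pCore p).comap_of_ker_isPGroup ρ
    (by rw [QuotientGroup.ker_mk']; exact hAp.map π)) (show π g ∈ (Cfsg.pCore p _).comap ρ from hY)

/-- groups of this shape are `p`-stable for odd `p` -/
theorem normalizerPStable {X : Type u} [Group X] [Finite X] (hp : p ≠ 2) (hX : PAP p X) :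
    Cfsg.IsNormalizerPStable p X := by
  intro P hP g hg hquad
  set Γ := normalizer (P : Set X)
  haveI : (P.subgroupOf Γ).Normal := normal_in_normalizer
  have hdeg : Cfsg.iterCommutator (P.subgroupOf Γ) (zpowers (⟨g, hg⟩ : Γ)) (p - 1) = ⊥ := by
    refine iterCommutator_eq_bot_of_le (i := 2) ?_ ((map_eq_bot_iff_of_injective _ Γ.subtype_injective).mp ?_)
    · have := (Fact.out : p.Prime).two_le
      omega
    · rw [map_iterCommutator, MonoidHom.map_zpowers, subgroupOf_map_subtype,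
        inf_eq_left.mpr le_normalizer]
      exact hquad
  have h := mem_pCore (hX.of_injective Γ.subtype Γ.subtype_injective) (P.subgroupOf Γ)
    (hP.comap_subtype) hdeg
  have hle : centralizer ((P.subgroupOf Γ : Subgroup Γ) : Set Γ) ≤ (centralizer (P : Set X)).subgroupOf Γ := by
    intro x hx
    rw [mem_subgroupOf, mem_centralizer_iff]
    intro y hy
    exact congrArg Subtype.val (mem_centralizer_iff.mp hx (⟨y, le_normalizer hy⟩ : Γ) hy)
  let f := QuotientGroup.map (centralizer ((P.subgroupOf Γ : Subgroup Γ) : Set Γ))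
    ((centralizer (P : Set X)).subgroupOf Γ) (MonoidHom.id Γ) (fun x hx => hle hx)
  have hf : Function.Surjective f := by
    intro q
    induction q using QuotientGroup.induction_on with
    | H x => exact ⟨QuotientGroup.mk x, rfl⟩
  haveI : ((Cfsg.pCore p (Γ ⧸ centralizer ((P.subgroupOf Γ : Subgroup Γ) : Set Γ))).map f).Normal :=
    Subgroup.Normal.map inferInstance f hf
  exact Cfsg.Lib.Components.le_pCore ((Cfsg.Lib.Components.isPGroup_pCore p).map f) (mem_map_of_mem f h)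

end Cfsg.Lib.Degree
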