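import Cfsg.Agent.Components.Functor.Sections
import Cfsg.Agent.Components.Functor.Degree
import Cfsg.Agent.Thompson.PComplement

/-!
Thompson's normal `p`-complement criterion in functor form.
-/

set_option linter.style.haveILetI false
set_option linter.unusedSectionVars false

namespace Cfsg.Lib.Functor

open Subgroup
open scoped commutatorElement

universe u

variable {p : ℕ} [Fact p.Prime] {W : ∀ (Q : Type u) [Group Q], Subgroup Q}

/-- the hypothesis on the constrained sections -/
def Critical (p : ℕ) (W : ∀ (Q : Type u) [Group Q], Subgroup Q) (G : Type u) [Group G] : Prop :=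
  ∀ (L : Type u) [Group L] [Finite L], IsSection L G →
    centralizer (Cfsg.pCore p L : Set L) ≤ Cfsg.pCore p L →
    Cfsg.HasNormalPComplement p (L ⧸ Cfsg.pCore p L) →
    ∀ T : Sylow p L, IsCoatom (T : Subgroup L) → (Cfsg.inducedFunctor (G := L) W (T : Subgroup L)).Normal

/-- `N(W T)` has a normal `p`-complement -/
def NormCompl (p : ℕ) (W : ∀ (Q : Type u) [Group Q], Subgroup Q) {G : Type u} [Group G]
    (T : Subgroup G) : Prop :=
  Cfsg.HasNormalPComplement p ↥(normalizer (Cfsg.inducedFunctor W T : Set G))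

theorem normCompl_of_hom (hW : Cfsg.IsCharPFunctor.{u} p W) {G H : Type u} [Group G] [Group H] [Finite G]
    {f : H →* G} (hf : Function.Injective f) {S : Subgroup H} (hS : IsPGroup p S)
    (h : NormCompl p W (S.map f)) : NormCompl p W S := by
  haveI : Finite H := Finite.of_injective f hf
  have h1 : ∀ x ∈ normalizer (Cfsg.inducedFunctor W S : Set H),
      f x ∈ normalizer (Cfsg.inducedFunctor W (S.map f) : Set G) := fun x hx => by
    rw [← map_induced hW hS hf.injOn]
    exact le_normalizer_map f (mem_map_of_mem f hx)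
  exact Cfsg.Lib.Transfer.hasNormalPComplement_of_injective
    (MonoidHom.mk' (fun x => (⟨f x.1, h1 x.1 x.2⟩ : normalizer (Cfsg.inducedFunctor W (S.map f) : Set G)))
      fun a b => Subtype.ext (map_mul f _ _))
    (fun a b hab => Subtype.ext (hf (congrArg Subtype.val hab))) h

theorem normCompl_sylow (hW : Cfsg.IsCharPFunctor.{u} p W) {G : Type u} [Group G] [Finite G]
    {P : Sylow p G} (h : NormCompl p W (P : Subgroup G)) (Q : Sylow p G) :
    NormCompl p W (Q : Subgroup G) := by
  obtain ⟨g, hg⟩ := MulAction.exists_smul_eq G Q P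
  refine normCompl_of_hom hW (f := (MulAut.conj g).toMonoidHom) (MulAut.conj g).injective Q.2 ?_
  rwa [← Cfsg.Lib.Transfer.sylow_smul_coe, hg]

theorem pcompl_main (hW : Cfsg.IsCharPFunctor.{u} p W) (n : ℕ) :
    ∀ (G : Type u) [Group G] [Finite G], Nat.card G = n → Critical p W G → ∀ P : Sylow p G,
      NormCompl p W (P : Subgroup G) → Cfsg.HasNormalPComplement p G := by
  induction n using Nat.strong_induction_on with
  | _ n ih =>
  intro G _ _ hG hcrit P hP
  by_contra hno
  have hsec : ∀ (L : Type u) [Group L], IsSection L G → Critical p W L :=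
    fun L _ hL M _ _ hM => hcrit M (hM.trans hL)
  have ihsub : ∀ (H : Subgroup G), H ≠ ⊤ → ∀ S : Sylow p H, NormCompl p W (S : Subgroup H) →
      Cfsg.HasNormalPComplement p H := fun H hH S hS =>
    ih (Nat.card H) (hG ▸ lt_of_le_of_ne (card_le_card_group H)
      (fun h => hH (H.eq_top_of_card_eq h))) H rfl (hsec H (IsSection.subgroup H)) S hS
  have htop : ∀ K : Subgroup G, K = ⊤ → Cfsg.HasNormalPComplement p K → False := fun K hK h =>
    hno (by subst hK; exact (Cfsg.Lib.Transfer.hasNormalPComplement_congr topEquiv).mp h)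
  obtain ⟨U₁, hU₁, hU₁ne, hU₁no⟩ : ∃ U : Subgroup G, IsPGroup p U ∧ U ≠ ⊥ ∧
      ¬ Cfsg.HasNormalPComplement p ↥(normalizer (U : Set G)) := by
    by_contra h
    push Not at h
    exact hno (Cfsg.Lib.Transfer.hasNormalPComplement_of_normalizers h)
  let μ : Subgroup G → ℕ := fun U =>
    Cfsg.Lib.Thompson.pp p (normalizer (U : Set G)) * (Nat.card G + 1) + Nat.card U
  obtain ⟨U, ⟨hU, hUne, hUno⟩, hUmax⟩ := Set.exists_max_image
    {U : Subgroup G | IsPGroup p U ∧ U ≠ ⊥ ∧
      ¬ Cfsg.HasNormalPComplement p ↥(normalizer (U : Set G))} μ (Set.toFinite _)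
    ⟨U₁, hU₁, hU₁ne, hU₁no⟩
  have hbig : ∀ Q : Subgroup G, IsPGroup p Q → Q ≠ ⊥ →
      (Cfsg.Lib.Thompson.pp p (normalizer (U : Set G)) < Cfsg.Lib.Thompson.pp p (normalizer (Q : Set G)) ∨
        (Cfsg.Lib.Thompson.pp p (normalizer (U : Set G)) ≤ Cfsg.Lib.Thompson.pp p (normalizer (Q : Set G)) ∧
          Nat.card U < Nat.card Q)) →
      Cfsg.HasNormalPComplement p ↥(normalizer (Q : Set G)) := by
    intro Q hQ hQne h
    by_contra hQno
    have hle : μ Q ≤ μ U := hUmax Q ⟨hQ, hQne, hQno⟩
    have hUG : Nat.card U ≤ Nat.card G := card_le_card_group U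
    simp only [μ] at hle
    rcases h with h | ⟨h, h'⟩
    · have := Nat.mul_le_mul_right (Nat.card G + 1) h
      rw [Nat.succ_mul] at this
      omega
    · have := Nat.mul_le_mul_right (Nat.card G + 1) h
      omega
  have hUnorm : normalizer (U : Set G) = ⊤ := by
    by_contra hN
    set N := normalizer (U : Set G) with hNdef
    obtain ⟨S₀⟩ : Nonempty (Sylow p N) := inferInstance
    set S := (S₀ : Subgroup N).map N.subtype with hSdef
    have hS : IsPGroup p S := S₀.2.map _
    obtain ⟨P', hP'⟩ := hS.exists_le_sylow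
    have hH := normCompl_sylow hW hP P'
    have hUS : U ≤ S := by
      haveI : (U.subgroupOf N).Normal := normal_in_normalizer
      intro x hx
      exact ⟨⟨x, le_normalizer hx⟩,
        Cfsg.Lib.Thompson.le_sylow_of_normal (U := U.subgroupOf N) hU.comap_subtype S₀ hx, rfl⟩
    refine hUno (ihsub N hN S₀ (normCompl_of_hom hW N.subtype_injective S₀.2 ?_))
    rcases eq_or_lt_of_le hP' with h | h
    · rw [← hSdef, h]; exact hH
    have hSne : S ≠ ⊥ := fun h' => hUne (le_bot_iff.mp (h' ▸ hUS))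
    set S' := (P' : Subgroup G) ⊓ normalizer (S : Set G) with hS'
    have hlt : Nat.card S < Nat.card S' := lt_of_not_ge fun hle =>
      (Cfsg.Lib.Transfer.lt_inf_normalizer_of_lt P' h).ne
        (eq_of_le_of_card_ge (Cfsg.Lib.Transfer.lt_inf_normalizer_of_lt P' h).le hle)
    have hppS : Cfsg.Lib.Thompson.pp p N = Nat.card S := by
      rw [hSdef, card_subtype, S₀.card_eq_multiplicity]; rfl
    exact hbig _ (hS.to_le (induced_le S)) (induced_ne_bot hW hS hSne) (Or.inl (by
      rw [hppS]
      exact hlt.trans_le (Cfsg.Lib.Thompson.card_le_pp (P'.2.to_le inf_le_left)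
        (inf_le_right.trans (normalizer_le_normalizer_induced hW hS)))))
  haveI hUn : U.Normal := normalizer_eq_top_iff.mp hUnorm
  have hUP : U ≤ (P : Subgroup G) := Cfsg.Lib.Thompson.le_sylow_of_normal hU P
  have hbig' : ∀ Q : Subgroup G, IsPGroup p Q → U < Q →
      (P : Subgroup G) ≤ normalizer (Q : Set G) →
      Cfsg.HasNormalPComplement p ↥(normalizer (Q : Set G)) := fun Q hQ hUQ hPQ =>
    hbig Q hQ (ne_bot_of_gt hUQ) (Or.inr ⟨by
      refine le_trans (Cfsg.Lib.Thompson.pp_le _) (le_trans (le_of_eq P.card_eq_multiplicity.symm)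
        (Cfsg.Lib.Thompson.card_le_pp P.2 hPQ)),
      lt_of_not_ge fun hle => hUQ.ne (eq_of_le_of_card_ge hUQ.le hle)⟩)
  have hmax : ∀ Q : Subgroup G, Q.Normal → IsPGroup p Q → U ≤ Q → Q = U := by
    intro Q hQn hQ hUQ
    by_contra hne
    have h := hbig' Q hQ (lt_of_le_of_ne hUQ (Ne.symm hne)) (by rw [normalizer_eq_top]; exact le_top)
    exact htop _ (normalizer_eq_top Q) h
  have hUPne : U ≠ (P : Subgroup G) := fun h => htop _ (top_le_iff.mp (hUnorm.ge.trans
    (by rw [h]; exact normalizer_le_normalizer_induced hW P.2))) hP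
  -- the quotient by `U`
  set f := QuotientGroup.mk' U with hfdef
  have hfs : Function.Surjective f := QuotientGroup.mk'_surjective U
  let P' : Sylow p (G ⧸ U) := P.mapSurjective hfs
  have hP'e : (P' : Subgroup (G ⧸ U)) = (P : Subgroup G).map f := P.coe_mapSurjective hfs
  have hcomapP : ((P : Subgroup G).map f).comap f = P :=
    comap_map_eq_self (by rwa [hfdef, QuotientGroup.ker_mk'])
  have hP'ne : (P' : Subgroup (G ⧸ U)) ≠ ⊥ := fun h => hUPne (by
    rw [← hcomapP, ← hP'e, h, MonoidHom.comap_bot, hfdef, QuotientGroup.ker_mk'])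
  have hquot : NormCompl p W (P' : Subgroup (G ⧸ U)) := by
    set Q := Cfsg.inducedFunctor W (P' : Subgroup (G ⧸ U)) with hQ
    have hQne : Q ≠ ⊥ := induced_ne_bot hW P'.2 hP'ne
    have hQP : Q ≤ P' := induced_le _
    have hPQ : (P' : Subgroup (G ⧸ U)) ≤ normalizer (Q : Set (G ⧸ U)) :=
      le_normalizer.trans (normalizer_le_normalizer_induced hW P'.2)
    have hX1 : Q.comap f ≤ (P : Subgroup G) := by
      rw [← hcomapP, ← hP'e]; exact comap_mono hQP
    have hUX : U < Q.comap f := by
      refine lt_of_le_of_ne ?_ fun h => hQne ?_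
      · exact (QuotientGroup.ker_mk' U).ge.trans (ker_le_comap f Q)
      · rw [← map_comap_eq_self_of_surjective hfs Q, ← h, hfdef, QuotientGroup.map_mk'_self]
    have hnX : normalizer ((Q.comap f : Subgroup G) : Set G) =
        (normalizer (Q : Set (G ⧸ U))).comap f :=
      (comap_normalizer_eq_of_surjective Q hfs).symm
    have h := hbig' _ (P.2.to_le hX1) hUX (by
      rw [hnX, ← map_le_iff_le_comap, ← hP'e]; exact hPQ)
    refine Cfsg.Lib.Transfer.hasNormalPComplement_of_surjective
      (MonoidHom.mk' (fun x => (⟨f x.1, mem_comap.mp (hnX ▸ x.2)⟩ : normalizer (Q : Set (G ⧸ U))))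
        fun a b => Subtype.ext (map_mul f _ _)) ?_ h
    · rintro ⟨y, hy⟩
      obtain ⟨x, rfl⟩ := hfs y
      refine ⟨⟨x, ?_⟩, rfl⟩
      rw [hnX]; exact hy
  have hlt : Nat.card (G ⧸ U) < n := by
    rw [← hG, card_eq_card_quotient_mul_card_subgroup U]
    exact lt_mul_of_one_lt_right Nat.card_pos ((one_lt_card_iff_ne_bot _).mpr hUne)
  have hcompl := ih _ hlt (G ⧸ U) rfl (hsec _ (IsSection.quotient U)) P' hquot
  obtain ⟨K₀, hK₀n, hK₀c, k, hK₀k⟩ := Cfsg.Lib.Transfer.hasNormalPComplement_iff.mp hcompl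
  haveI := hK₀n
  -- no nontrivial normal `p'`-subgroup
  have hO : ∀ M : Subgroup G, M.Normal → (Nat.card M).Coprime p → M = ⊥ := by
    intro M hMn hMc
    by_contra hMne
    refine hno ?_
    set g := QuotientGroup.mk' M with hgdef
    have hgs : Function.Surjective g := QuotientGroup.mk'_surjective M
    let PM : Sylow p (G ⧸ M) := P.mapSurjective hgs
    have hPMe : (PM : Subgroup (G ⧸ M)) = (P : Subgroup G).map g := P.coe_mapSurjective hgs
    have hinj : Set.InjOn g (P : Subgroup G) := Cfsg.Lib.ZJ.injOn_mk hMc P.2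
    have hN : ∀ Q : Subgroup G, Q ≤ (P : Subgroup G) →
        normalizer (Q.map g : Set (G ⧸ M)) ≤ (normalizer (Q : Set G)).map g := by
      intro Q hQP x hx
      obtain ⟨x, rfl⟩ := hgs x
      obtain ⟨j, hj⟩ := IsPGroup.iff_card.mp (P.2.to_le hQP)
      have hle : Cfsg.Lib.Coprime.conjMap x Q ≤ M ⊔ Q := by
        rintro _ ⟨y, hy, rfl⟩
        have : g (x * y * x⁻¹) ∈ Q.map g := by
          rw [map_mul, map_mul, map_inv]
          exact (mem_normalizer_iff.mp hx _).mp (mem_map_of_mem g hy)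
        rw [← mem_comap, comap_map_eq, hgdef, QuotientGroup.ker_mk', sup_comm] at this
        exact this
      obtain ⟨m, hm, hmQ⟩ := Cfsg.Lib.Coprime.exists_conj_eq_of_coprime
        (le_normalizer_of_normal) (by rw [hj]; exact hMc.pow_right j)
        (Or.inr (by haveI := (P.2.to_le hQP).isNilpotent; infer_instance))
        hle (Cfsg.Lib.Coprime.card_conjMap x Q)
      refine ⟨m⁻¹ * x, Cfsg.Lib.Coprime.conjMap_eq_self_iff.mp ?_, ?_⟩
      · rw [← Cfsg.Lib.Coprime.conjMap_mul, hmQ]
        exact Cfsg.Lib.Coprime.conjMap_inv_conjMap _ _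
      · rw [map_mul, map_inv, hgdef, QuotientGroup.mk'_apply,
          (QuotientGroup.eq_one_iff m).mpr hm, inv_one, one_mul]
    have hlt' : Nat.card (G ⧸ M) < n := by
      rw [← hG, card_eq_card_quotient_mul_card_subgroup M]
      exact lt_mul_of_one_lt_right Nat.card_pos ((one_lt_card_iff_ne_bot _).mpr hMne)
    obtain ⟨L, hLn, hLc, l, hLl⟩ := Cfsg.Lib.Transfer.hasNormalPComplement_iff.mp
      (ih _ hlt' (G ⧸ M) rfl (hsec _ (IsSection.quotient M)) PM (by
        refine Cfsg.Lib.Thompson.hasNormalPComplement_of_le ?_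
          (Cfsg.Lib.Transfer.hasNormalPComplement_of_surjective
            (g.subgroupMap (normalizer (Cfsg.inducedFunctor W (P : Subgroup G) : Set G)))
            (g.subgroupMap_surjective _) hP)
        rw [hPMe, ← map_induced hW P.2 hinj]
        exact hN _ (induced_le _)))
    refine Cfsg.Lib.Transfer.hasNormalPComplement_iff.mpr
      ⟨L.comap g, hLn.comap g, ?_, l, ?_⟩
    · rw [hgdef, Cfsg.Lib.Coprime.card_comap_mk']
      exact Nat.Coprime.mul_left hMc hLc
    · rw [index_comap_of_surjective _ hgs, hLl]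
  -- `U` is self-centralising
  have hCU : centralizer (U : Set G) ≤ U := by
    set C := centralizer (U : Set G) with hCdef
    set D := C ⊓ K₀.comap f with hDdef
    have hDp : ∀ x ∈ D, (orderOf x).Coprime p → x = 1 := by
      obtain ⟨N, hNn, hNc, j, hNj⟩ := Cfsg.Lib.Transfer.hasNormalPComplement_iff.mp
        (Cfsg.Lib.Transfer.hasNormalPComplement_of_frobenius (G := D) (p := p) fun Q hQ y _ _ => by
          intro q hq
          have hqU : (q : G) ∈ U := by
            have hqK : f (q : G) ∈ K₀ := q.2.2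
            obtain ⟨i, hi⟩ := IsPGroup.iff_orderOf.mp hQ ⟨q, hq⟩
            rw [Subgroup.orderOf_mk] at hi
            have h1 : orderOf (f (q : G)) ∣ p ^ i := by
              rw [← hi, ← Subgroup.orderOf_coe]; exact orderOf_map_dvd f _
            have h2 : orderOf (f (q : G)) ∣ Nat.card K₀ := by
              rw [← Subgroup.orderOf_mk _ hqK]; exact orderOf_dvd_natCard _
            have h3 := orderOf_eq_one_iff.mp
              (Nat.eq_one_of_dvd_coprimes (hK₀c.pow_right i) h2 h1)
            rwa [hfdef, QuotientGroup.mk'_apply, QuotientGroup.eq_one_iff] at h3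
          exact Subtype.ext (mem_centralizer_iff.mp y.2.1 _ hqU))
      haveI := hNn
      haveI : D.Normal := inferInstance
      have hNn' : (N.map D.subtype).Normal := ⟨fun x hx g => by
        obtain ⟨y, hy, rfl⟩ := mem_map.mp hx
        refine mem_map.mpr ⟨MulAut.conjNormal g y, ?_, MulAut.conjNormal_apply g y⟩
        rw [Cfsg.Lib.Transfer.mem_iff_coprime_orderOf hNc hNj, MulEquiv.orderOf_eq]
        exact (Cfsg.Lib.Transfer.mem_iff_coprime_orderOf hNc hNj y).mp hy⟩
      have hNbot := hO _ hNn' (by rwa [card_subtype])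
      intro x hx hxc
      have : x ∈ N.map D.subtype := ⟨⟨x, hx⟩, by
        rw [SetLike.mem_coe, Cfsg.Lib.Transfer.mem_iff_coprime_orderOf hNc hNj, Subgroup.orderOf_mk]
        exact hxc, rfl⟩
      rwa [hNbot, mem_bot] at this
    haveI : C.Normal := inferInstance
    have hC : IsPGroup p C := by
      intro c
      obtain ⟨a, b, ha, hb, hab, ⟨i, hi⟩, hcop⟩ := Cfsg.Lib.Transfer.exists_pPart p (c : G)
      have hbC : b ∈ C := zpowers_le.mpr c.2 hb
      have hbK : f b ∈ K₀ := (Cfsg.Lib.Transfer.mem_iff_coprime_orderOf hK₀c hK₀k _).mpr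
        (hcop.coprime_dvd_left (orderOf_map_dvd f b))
      have hb1 := hDp b ⟨hbC, hbK⟩ hcop
      refine ⟨i, Subtype.ext ?_⟩
      rw [SubmonoidClass.coe_pow, OneMemClass.coe_one, ← hab, hb1, mul_one, ← hi,
        pow_orderOf_eq_one]
    exact le_sup_right.trans (hmax (U ⊔ C) inferInstance (hU.to_sup_of_normal_left hC) le_sup_left).le
  -- `U = O_p(G)` and `P` is maximal
  have hUO : Cfsg.pCore p G = U :=
    hmax _ inferInstance (Cfsg.Lib.Components.isPGroup_pCore p) (Cfsg.Lib.Components.le_pCore hU)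
  have hPtop : (P : Subgroup G) ≠ ⊤ := fun h => hno (Cfsg.Lib.Transfer.hasNormalPComplement_of_isPGroup
    (fun x => by
      obtain ⟨j, hj⟩ := P.2 ⟨x, h ▸ mem_top x⟩
      exact ⟨j, congrArg Subtype.val hj⟩))
  have hco : IsCoatom (P : Subgroup G) := by
    refine ⟨hPtop, fun H hPH => ?_⟩
    by_contra hH
    have hHc := ihsub H hH (P.subtype hPH.le) (normCompl_of_hom hW H.subtype_injective (P.subtype hPH.le).2 (by
      rw [Sylow.coe_subtype, map_subgroupOf_eq_of_le hPH.le]; exact hP))
    exact hPH.ne (P.3 (Cfsg.Lib.Thompson.isPGroup_of_hasNormalPComplement hU hCU (hUP.trans hPH.le) hHc)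
      hPH.le).symm
  have hq : Cfsg.HasNormalPComplement p (G ⧸ Cfsg.pCore p G) :=
    (Cfsg.Lib.Transfer.hasNormalPComplement_congr (QuotientGroup.quotientMulEquivOfEq hUO)).mpr hcompl
  have hn := hcrit G (IsSection.refl G) (by rw [hUO]; exact hCU) hq P hco
  haveI := hn
  exact htop _ (normalizer_eq_top _) hP

/-- a group with maximal Sylow subgroup and `L/O_p` having a normal complement is of shape `PAP` -/
theorem pap_of_coatom {L : Type u} [Group L] [Finite L]
    (hq : Cfsg.HasNormalPComplement p (L ⧸ Cfsg.pCore p L)) (T : Sylow p L)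
    (hT : IsCoatom (T : Subgroup L)) : Cfsg.Lib.Degree.PAP p L := by
  set A := Cfsg.pCore p L
  set π := QuotientGroup.mk' A
  have hπ : Function.Surjective π := QuotientGroup.mk'_surjective A
  obtain ⟨K, hKn, hKc, k, hKk⟩ := Cfsg.Lib.Transfer.hasNormalPComplement_iff.mp hq
  haveI := hKn
  set T' := (T : Subgroup L).map π
  have hT'p : IsPGroup p T' := T.2.map π
  have hAT : A ≤ (T : Subgroup L) :=
    Cfsg.Lib.Thompson.le_sylow_of_normal (Cfsg.Lib.Components.isPGroup_pCore p) T
  have hdich : ∀ Q : Subgroup (L ⧸ A), Q ≤ K → T' ≤ normalizer (Q : Set (L ⧸ A)) → Q = ⊥ ∨ Q = K := by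
    intro Q hQK hTQ
    have hQc : (Nat.card Q).Coprime p := hKc.coprime_dvd_left (card_dvd_of_le hQK)
    obtain ⟨r, hr⟩ := IsPGroup.iff_card.mp hT'p
    have hdis : Q ⊓ T' = ⊥ := Cfsg.Lib.Coprime.inf_eq_bot_of_coprime (by rw [hr]; exact hQc.pow_right r)
    have hle : (T : Subgroup L) ≤ (Q ⊔ T').comap π :=
      map_le_iff_le_comap.mp le_sup_right
    rcases eq_or_lt_of_le hle with h | h
    · left
      rw [eq_bot_iff]
      intro x hx
      obtain ⟨y, rfl⟩ := hπ x
      have hy : y ∈ (T : Subgroup L) := h ▸ (mem_sup_left hx : π y ∈ Q ⊔ T')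
      exact hdis ▸ (⟨hx, mem_map_of_mem π hy⟩ : π y ∈ Q ⊓ T')
    · right
      have h2 : Q ⊔ T' = ⊤ := by
        rw [← map_comap_eq_self_of_surjective hπ (Q ⊔ T'), hT.2 _ h, map_top_of_surjective π hπ]
      refine le_antisymm hQK fun x hx => ?_
      obtain ⟨q, hq', t, ht, rfl⟩ := (Cfsg.Lib.Coprime.mem_sup_of_le_normalizer hTQ).mp (h2.ge (mem_top x))
      have htK : t ∈ K := by
        have := mul_mem (inv_mem (hQK hq')) hx
        rwa [inv_mul_cancel_left] at this
      have ht1 : t = 1 := Cfsg.Lib.Coprime.eq_one_of_coprime (N := K) (H := T')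
        (by rw [hr]; exact hKc.pow_right r) htK ht
      rw [ht1, mul_one]; exact hq'
  have hKab : ∀ x ∈ K, ∀ y ∈ K, x * y = y * x := by
    by_cases hK1 : K = ⊥
    · intro x hx y hy
      rw [hK1, mem_bot] at hx hy
      rw [hx, hy]
    obtain ⟨q, hqp, hqd⟩ := Nat.exists_prime_and_dvd (fun h => hK1 (card_eq_one.mp h))
    haveI := Fact.mk hqp
    obtain ⟨r, hr⟩ := IsPGroup.iff_card.mp hT'p
    obtain ⟨Q, hQ⟩ := Cfsg.Lib.Coprime.exists_invariant_sylow (A := T') (K := K) le_normalizer_of_normal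
      (by rw [hr]; exact (hKc.pow_right r).symm) (Or.inl (by haveI := hT'p.isNilpotent; infer_instance)) q
    have hQe : (Q : Subgroup K).map K.subtype = K := by
      refine (hdich _ (map_subtype_le _) hQ).resolve_left fun h => ?_
      exact Q.ne_bot_of_dvd_card hqd ((map_eq_bot_iff_of_injective _ K.subtype_injective).mp h)
    have hKq : IsPGroup q K := hQe ▸ Q.2.map _
    have h := (hdich (K ⊓ centralizer (K : Set (L ⧸ A))) inf_le_left
      (by rw [normalizer_eq_top]; exact le_top)).resolve_left (Cfsg.Lib.Thompson.center_ne_bot hKq hK1)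
    intro x hx y hy
    exact mem_centralizer_iff.mp (inf_eq_left.mp h hy) x hx
  refine ⟨A, K.comap π, Nat.card K, inferInstance, hKn.comap π, Cfsg.Lib.Components.isPGroup_pCore p, hKc,
    fun x hx y hy => ?_, fun x hx => ?_, fun x => ?_⟩
  · rw [← QuotientGroup.eq_one_iff]
    show π ⁅x, y⁆ = 1
    rw [map_commutatorElement, commutatorElement_eq_one_iff_mul_comm]
    exact hKab _ hx _ hy
  · rw [← QuotientGroup.eq_one_iff]
    show π (x ^ Nat.card K) = 1
    rw [map_pow]
    exact congrArg Subtype.val (pow_card_eq_one' (x := (⟨π x, hx⟩ : K)))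
  · refine ⟨k, ?_⟩
    rw [mem_comap, map_pow, ← hKk]
    exact K.pow_index_mem _

/-- transfer of the local hypothesis from the sections `K / R` -/
theorem critical_of_sections (hW : Cfsg.IsCharPFunctor.{u} p W) {G : Type u} [Group G] [Finite G]
    (h : ∀ (K R : Subgroup G) [(R.subgroupOf K).Normal],
      centralizer (Cfsg.pCore p (K ⧸ R.subgroupOf K) : Set (K ⧸ R.subgroupOf K)) ≤
          Cfsg.pCore p (K ⧸ R.subgroupOf K) →
      Cfsg.HasNormalPComplement p ((K ⧸ R.subgroupOf K) ⧸ Cfsg.pCore p (K ⧸ R.subgroupOf K)) →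
      ∀ T : Sylow p (K ⧸ R.subgroupOf K), IsCoatom (T : Subgroup (K ⧸ R.subgroupOf K)) →
        (Cfsg.inducedFunctor W (T : Subgroup (K ⧸ R.subgroupOf K))).Normal) : Critical p W G := by
  intro L _ _ hL hc hq T hT
  obtain ⟨K, R, hR, ⟨e⟩⟩ := hL.exists_quotient
  haveI := hR
  let T' := T.mapSurjective (f := e.symm.toMonoidHom) e.symm.surjective
  obtain ⟨e'⟩ := quotient_pCore_congr (p := p) e.symm
  have hn := h K R (charP_congr e.symm hc)
    ((Cfsg.Lib.Transfer.hasNormalPComplement_congr e').mp hq) T'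
    ((OrderIso.isCoatom_iff e.symm.mapSubgroup (T : Subgroup L)).mpr hT)
  have heq : Cfsg.inducedFunctor W (T : Subgroup L) =
      (Cfsg.inducedFunctor W (T' : Subgroup (K ⧸ R.subgroupOf K))).map e.toMonoidHom := by
    rw [map_induced_equiv hW T'.2 e]
    show _ = Cfsg.inducedFunctor W (((T : Subgroup L).map e.symm.toMonoidHom).map e.toMonoidHom)
    rw [map_map, show e.toMonoidHom.comp e.symm.toMonoidHom = MonoidHom.id L from
      MonoidHom.ext fun x => e.apply_symm_apply x, Subgroup.map_id]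
  rw [heq]
  exact hn.map _ e.surjective

/-- `O_p` is trivial on a minimal normal `p`-subgroup -/
theorem pCore_eq_bot_of_minimal {G : Type u} [Group G] [Finite G] (P : Subgroup G) [P.Normal]
    (hP : IsPGroup p P) (hmin : ∀ N : Subgroup G, N.Normal → N ≤ P → N = ⊥ ∨ N = P) :
    Cfsg.pCore p (G ⧸ centralizer (P : Set G)) = ⊥ := by
  set π := QuotientGroup.mk' (centralizer (P : Set G))
  set B := Cfsg.pCore p (G ⧸ centralizer (P : Set G))
  obtain ⟨S⟩ := (inferInstance : Nonempty (Sylow p G))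
  set D := B.comap π
  have hBS : B ≤ (S : Subgroup G).map π := Cfsg.Lib.Thompson.le_sylow_of_normal
    (Cfsg.Lib.Components.isPGroup_pCore p) (S.mapSurjective (QuotientGroup.mk'_surjective _))
  set E := (S : Subgroup G) ⊓ D
  have hDE : ∀ d ∈ D, ∃ c ∈ centralizer (P : Set G), ∃ s ∈ E, d = c * s := by
    intro d hd
    obtain ⟨s, hs, hsd⟩ := hBS hd
    refine ⟨d * s⁻¹, (QuotientGroup.eq_one_iff _).mp ?_, s,
      ⟨hs, show π s ∈ B by rw [hsd]; exact hd⟩, by group⟩
    show π (d * s⁻¹) = 1
    rw [map_mul, map_inv, hsd, mul_inv_cancel]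
  set F := P ⊓ centralizer (D : Set G)
  rcases hmin F inferInstance inf_le_left with hF | hF
  · rw [eq_bot_iff]
    by_cases hPb : P = ⊥
    · intro x hx
      obtain ⟨y, rfl⟩ := QuotientGroup.mk'_surjective _ x
      rw [mem_bot, QuotientGroup.mk'_apply, QuotientGroup.eq_one_iff, hPb]
      exact mem_centralizer_iff.mpr fun z hz => by rw [mem_bot.mp hz]; simp
    exfalso
    have hQ : IsPGroup p (P ⊔ E : Subgroup G) := hP.to_sup_of_normal_left (S.2.to_le inf_le_left)
    have hcne : P.subgroupOf (P ⊔ E) ≠ ⊥ := by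
      rw [Ne, subgroupOf_eq_bot, disjoint_iff, inf_eq_left.mpr le_sup_left]
      exact hPb
    obtain ⟨z, hz1, hz2, hz3⟩ := Cfsg.Lib.PGroups.exists_mem_center_of_normal_ne_bot hQ hcne
    have hzF : (z : G) ∈ F := by
      refine ⟨hz1, mem_centralizer_iff.mpr fun d hd => ?_⟩
      obtain ⟨c, hc, s, hs, rfl⟩ := hDE d hd
      have h1 : s * (z : G) = (z : G) * s :=
        congrArg Subtype.val (mem_center_iff.mp hz2 ⟨s, mem_sup_right hs⟩)
      calc c * s * (z : G) = c * (s * z) := mul_assoc _ _ _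
        _ = (c * z) * s := by rw [h1, mul_assoc]
        _ = (z : G) * c * s := by rw [(mem_centralizer_iff.mp hc (z : G) hz1).symm]
        _ = (z : G) * (c * s) := mul_assoc _ _ _
    rw [hF, mem_bot] at hzF
    rw [show z = 1 from Subtype.ext hzF, orderOf_one] at hz3
    exact (Fact.out : p.Prime).ne_one hz3.symm
  · rw [eq_bot_iff]
    intro x hx
    obtain ⟨d, rfl⟩ := QuotientGroup.mk'_surjective _ x
    rw [mem_bot, QuotientGroup.mk'_apply, QuotientGroup.eq_one_iff]
    exact mem_centralizer_iff.mpr fun z hz =>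
      (mem_centralizer_iff.mp (inf_eq_left.mp hF hz) d hx).symm

/-- a chief factor of small degree is centralized -/
theorem commutator_le_of_degree {G : Type u} [Group G] [Finite G] (hX : Cfsg.Lib.Degree.PAP p G)
    {U V : Subgroup G} (hUV : Cfsg.IsChiefFactor U V) (hU : IsPGroup p U) {g : G}
    (hg : Cfsg.iterCommutator U (zpowers g) (p - 1) ≤ V) : ⁅U, zpowers g⁆ ≤ V := by
  obtain ⟨hlt, hUn, hVn, hmin⟩ := hUV
  haveI := hUn
  haveI := hVn
  set π := QuotientGroup.mk' V
  have hπ : Function.Surjective π := QuotientGroup.mk'_surjective V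
  haveI : (U.map π).Normal := hUn.map π hπ
  have hker : π.ker = V := QuotientGroup.ker_mk' V
  have hmem := Cfsg.Lib.Degree.mem_pCore (hX.of_surjective π hπ) (U.map π) (hU.map π) (g := π g) (by
    rw [← MonoidHom.map_zpowers, ← Cfsg.Lib.Degree.map_iterCommutator, Subgroup.map_eq_bot_iff, hker]
    exact hg)
  rw [pCore_eq_bot_of_minimal (U.map π) (hU.map π) (fun N hN hNU => ?_), mem_bot,
    QuotientGroup.eq_one_iff] at hmem
  · rw [← hker, ← Subgroup.map_eq_bot_iff, map_commutator, MonoidHom.map_zpowers,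
      commutator_eq_bot_iff_le_centralizer]
    exact le_centralizer_iff.mp (zpowers_le.mpr hmem)
  · rcases hmin (N.comap π) (hN.comap π) (hker.ge.trans (ker_le_comap π N)) (by
      refine (comap_mono hNU).trans ?_
      rw [comap_map_eq, hker, sup_eq_left.mpr hlt.le]) with h | h
    · left
      rw [← map_comap_eq_self_of_surjective hπ N, h, Subgroup.map_eq_bot_iff, hker]
    · right
      rw [← map_comap_eq_self_of_surjective hπ N, h]

end Cfsg.Lib.Functor
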