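import Cfsg.Agent.Transfer.Basic

/-!
A self-centralising subgroup whose automizer is a `p`-group has a `p`-nilpotent normalizer.
-/

set_option linter.style.haveILetI false

namespace Cfsg.Lib.Functor

open Subgroup

variable {G : Type*} [Group G] [Finite G] {p : ℕ} [Fact p.Prime]

theorem normalizer_compl_of_self_central (S : Sylow p G) (T : Subgroup G)
    (hTn : (S : Subgroup G) ≤ normalizer (T : Set G))
    (hC : (S : Subgroup G) ⊓ centralizer (T : Set G) ≤ T)
    (hN : ∀ g ∈ normalizer (T : Set G), (orderOf g).Coprime p → g ∈ centralizer (T : Set G)) :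
    Cfsg.HasNormalPComplement p ↥(normalizer (T : Set G)) := by
  set N := normalizer (T : Set G)
  set C := (centralizer (T : Set G)).subgroupOf N with hCdef
  haveI hCn : C.Normal := ⟨fun x hx n => by
    have hn := n.2
    refine mem_centralizer_iff.mpr fun t ht => ?_
    have h1 := mem_centralizer_iff.mp hx ((n : G)⁻¹ * t * n) ((mem_normalizer_iff''.mp hn t).mp ht)
    show t * ((n : G) * (N.subtype x) * (n : G)⁻¹) = (n : G) * (N.subtype x) * (n : G)⁻¹ * t
    calc t * ((n : G) * (N.subtype x) * (n : G)⁻¹)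
        = (n : G) * ((n : G)⁻¹ * t * n * (N.subtype x)) * (n : G)⁻¹ := by group
      _ = (n : G) * ((N.subtype x) * ((n : G)⁻¹ * t * n)) * (n : G)⁻¹ := by rw [← h1]
      _ = _ := by group⟩
  obtain ⟨Q⟩ : Nonempty (Sylow p C) := inferInstance
  -- the Sylow subgroup of `C` lies in `T`
  have hQT : ∀ x ∈ (Q : Subgroup C), ((x : N) : G) ∈ T := by
    obtain ⟨R, hR⟩ := (Q.2.map C.subtype).exists_le_sylow
    obtain ⟨n, hn⟩ := MulAction.exists_smul_eq N R (S.subtype hTn)
    intro x hx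
    have h5 : n * (x : N) * n⁻¹ ∈ (S.subtype hTn : Subgroup N) := by
      rw [← hn, Cfsg.Lib.Transfer.sylow_smul_coe]
      exact ⟨x, hR ⟨x, hx, rfl⟩, rfl⟩
    rw [Sylow.coe_subtype, mem_subgroupOf] at h5
    have h6 : (n : G) * ((x : N) : G) * (n : G)⁻¹ ∈ T := hC ⟨h5, mem_subgroupOf.mp (hCn.conj_mem _ x.2 n)⟩
    exact (mem_normalizer_iff.mp n.2 _).mpr h6
  have hQZ : ∀ x ∈ (Q : Subgroup C), ∀ c : C, x * c = c * x := fun x hx c =>
    Subtype.ext (Subtype.ext (mem_centralizer_iff.mp c.2 _ (hQT x hx)))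
  have hQc : normalizer ((Q : Subgroup C) : Set C) ≤ centralizer ((Q : Subgroup C) : Set C) := fun c _ =>
    mem_centralizer_iff.mpr fun x hx => hQZ x hx c
  have hK := MonoidHom.ker_transferSylow_isComplement' Q hQc
  set K := (MonoidHom.transferSylow Q hQc).ker
  obtain ⟨hKc, k, hKk⟩ := Cfsg.Lib.Transfer.complement_props hK
  have hmem : ∀ y : N, y ∈ K.map C.subtype ↔ (orderOf y).Coprime p := by
    intro y
    constructor
    · rintro ⟨c, hc, rfl⟩
      have := (Cfsg.Lib.Transfer.mem_iff_coprime_orderOf hKc hKk c).mp hc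
      rwa [← orderOf_coe] at this
    · intro hy
      have hyC : y ∈ C := mem_subgroupOf.mpr (hN y y.2 (by rwa [← orderOf_coe] at hy))
      refine ⟨⟨y, hyC⟩, (Cfsg.Lib.Transfer.mem_iff_coprime_orderOf hKc hKk _).mpr ?_, rfl⟩
      rwa [Subgroup.orderOf_mk]
  haveI : (K.map C.subtype).Normal := ⟨fun y hy n => (hmem _).mpr (by
    rw [show n * y * n⁻¹ = (MulAut.conj n).toMonoidHom y from rfl,
      orderOf_injective _ (MulAut.conj n).injective]
    exact (hmem y).mp hy)⟩
  have hp' : IsPGroup p (N ⧸ K.map C.subtype) := by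
    intro z
    obtain ⟨y, rfl⟩ := QuotientGroup.mk'_surjective _ z
    obtain ⟨a, b, -, -, hab, ⟨i, hi⟩, hb⟩ := Cfsg.Lib.Transfer.exists_pPart p y
    refine ⟨i, ?_⟩
    rw [← hab, map_mul, show QuotientGroup.mk' (K.map C.subtype) b = 1 from
      (QuotientGroup.eq_one_iff b).mpr ((hmem b).mpr hb), mul_one, ← map_pow, ← hi, pow_orderOf_eq_one, map_one]
  refine Cfsg.Lib.Transfer.hasNormalPComplement_iff.mpr ⟨K.map C.subtype, inferInstance, ?_, ?_⟩
  · rwa [card_map_of_injective C.subtype_injective]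
  · exact IsPGroup.iff_card.mp hp'

end Cfsg.Lib.Functor
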