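import Cfsg.Agent.Components.Functor.TransferApply
import Cfsg.Agent.Components.Functor.SelfCentral
import Cfsg.Agent.Components.KInf.Candidates
import Cfsg.Agent.Components.KInf.PCompl
import Cfsg.Agent.Coprime.SchurZassenhaus

/-!
Consequences of control of transfer: normal subgroups of index `p`, and the K-infinity subgroups.
-/

set_option linter.style.haveILetI false
set_option linter.unusedSectionVars false

namespace Cfsg.Lib.Functor

open Subgroup
open scoped commutatorElement

universe u

variable {p : ℕ} [Fact p.Prime]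

theorem index_p_of_pQuotient {G : Type u} [Group G] [Finite G] (N₀ : Subgroup G) [N₀.Normal]
    (hp : IsPGroup p (G ⧸ N₀)) (hne : N₀ ≠ ⊤) : ∃ N : Subgroup G, N.Normal ∧ N.index = p := by
  haveI : Nontrivial (G ⧸ N₀) := Finite.one_lt_card_iff_nontrivial.mp (by
    rw [← index_eq_card]
    exact lt_of_le_of_ne (Nat.pos_of_ne_zero index_ne_zero_of_finite) fun h => hne (index_eq_one.mp h.symm))
  haveI := hp.isNilpotent
  obtain ⟨M, hM⟩ := Cfsg.Lib.Coprime.exists_normal_prime_index (G := G ⧸ N₀)
  obtain ⟨hMn, hq⟩ := hM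
  haveI := hMn
  refine ⟨M.comap (QuotientGroup.mk' N₀), hMn.comap _, ?_⟩
  rw [index_comap_of_surjective _ (QuotientGroup.mk'_surjective N₀)]
  obtain ⟨k, hk⟩ := IsPGroup.iff_card.mp hp
  exact ((Nat.prime_dvd_prime_iff_eq hq Fact.out).mp (hq.dvd_of_dvd_pow (hk ▸ M.index_dvd_card)))

theorem index_p_of_not_le_commutator {G : Type u} [Group G] [Finite G] (S : Sylow p G)
    (h : ¬ (S : Subgroup G) ≤ commutator G) : ∃ N : Subgroup G, N.Normal ∧ N.index = p := by
  obtain ⟨j, hj⟩ := IsPGroup.iff_card.mp S.2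
  have hcop : ((S : Subgroup G).index).Coprime ((focalSubgroup (S : Subgroup G)).relIndex (S : Subgroup G)) := by
    refine Nat.Coprime.coprime_dvd_right ?_
      (((Fact.out : p.Prime).coprime_iff_not_dvd.mpr S.not_dvd_index).symm.pow_right j)
    rw [← hj]
    exact index_dvd_card _
  obtain ⟨N, hNn, hNS, -, -, hNi⟩ :=
    Cfsg.Lib.Transfer.exists_normal_inf_eq (S : Subgroup G) _ (focalSubgroup_le _) le_rfl hcop
  haveI := hNn
  refine index_p_of_pQuotient N ?_ fun htop => h ?_
  · obtain ⟨i, -, hi⟩ := (Nat.dvd_prime_pow (Fact.out : p.Prime)).mp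
      (show (focalSubgroup (S : Subgroup G)).relIndex (S : Subgroup G) ∣ p ^ j from hj ▸ index_dvd_card _)
    exact IsPGroup.of_card (n := i) (by rw [← index_eq_card, hNi, hi])
  · rw [htop, top_inf_eq] at hNS
    exact hNS.le.trans (focalSubgroup_le_commutator _)

theorem index_p_main {W : ∀ (Q : Type u) [Group Q], Subgroup Q} (hW : Cfsg.IsCharPFunctor.{u} p W) (n : ℕ) :
    ∀ (G : Type u) [Group G] [Finite G], Nat.card G = n →
    (∀ (L : Type u) [Group L] [Finite L], IsSection L G → TCtrl p {W} L) → ∀ S : Sylow p G,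
    (S : Subgroup G) ≠ ⊥ →
    (∀ g ∈ normalizer ((S : Subgroup G) : Set G), (orderOf g).Coprime p → g ∈ centralizer ((S : Subgroup G) : Set G)) →
    ∃ N : Subgroup G, N.Normal ∧ N.index = p := by
  induction n using Nat.strong_induction_on with
  | _ n ih =>
  intro G _ _ hG hsec S hS hN
  set Z := Cfsg.inducedFunctor (G := G) W (S : Subgroup G)
  set M := normalizer (Z : Set G)
  have hNM : normalizer ((S : Subgroup G) : Set G) ≤ M := normalizer_le_normalizer_induced hW S.2
  have hSM : (S : Subgroup G) ≤ M := le_normalizer.trans hNM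
  by_cases hMtop : M = ⊤
  · -- the value is normal
    haveI hZn : Z.Normal := normalizer_eq_top_iff.mp hMtop
    have hZne : Z ≠ ⊥ := induced_ne_bot hW S.2 hS
    by_cases hZS : (S : Subgroup G) ≤ Z
    · haveI hSn : (S : Subgroup G).Normal := by
        rw [le_antisymm hZS (induced_le _)]; exact hZn
      have hcompl := normalizer_compl_of_self_central S (S : Subgroup G) le_normalizer inf_le_left hN
      rw [normalizer_eq_top] at hcompl
      obtain ⟨K, hKn, hKc, k, hKk⟩ := Cfsg.Lib.Transfer.hasNormalPComplement_iff.mp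
        ((Cfsg.Lib.Transfer.hasNormalPComplement_congr topEquiv).mp hcompl)
      haveI := hKn
      refine index_p_of_pQuotient K (Cfsg.Lib.Transfer.isPGroup_quotient_of_index K hKk) fun htop => hS ?_
      obtain ⟨j, hj⟩ := IsPGroup.iff_card.mp S.2
      refine Subgroup.eq_bot_of_card_eq _ ?_
      rw [htop, card_top] at hKc
      exact Nat.eq_one_of_dvd_coprimes (hKc.pow_right j) (card_subgroup_dvd_card _) hj.dvd
    set π := QuotientGroup.mk' Z
    have hπ : Function.Surjective π := QuotientGroup.mk'_surjective Z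
    let S' := S.mapSurjective hπ
    have hS' : (S' : Subgroup (G ⧸ Z)) = (S : Subgroup G).map π := rfl
    have hcomap : (S' : Subgroup (G ⧸ Z)).comap π = (S : Subgroup G) := by
      rw [hS']
      exact comap_map_eq_self (by rw [QuotientGroup.ker_mk']; exact induced_le _)
    have hlt : Nat.card (G ⧸ Z) < n := by
      rw [← hG, card_eq_card_quotient_mul_card_subgroup Z]
      exact lt_mul_of_one_lt_right Nat.card_pos ((one_lt_card_iff_ne_bot _).mpr hZne)
    obtain ⟨N, hNn, hNi⟩ := ih _ hlt (G ⧸ Z) rfl (fun L _ _ hL => hsec L (hL.trans (IsSection.quotient Z))) S'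
      (fun h0 => hZS (by rw [← hcomap, h0, MonoidHom.comap_bot, QuotientGroup.ker_mk']))
      (fun g hg hgp => by
        obtain ⟨x, rfl⟩ := hπ g
        have hx : x ∈ normalizer ((S : Subgroup G) : Set G) := by
          rw [← hcomap, ← comap_normalizer_eq_of_surjective _ hπ]; exact hg
        obtain ⟨a, b, -, hb, hab, ⟨i, hi⟩, hcop⟩ := Cfsg.Lib.Transfer.exists_pPart p x
        have hxb : π x = π b := by
          have h1 : orderOf (π a) = 1 := by
            obtain ⟨l, hl⟩ := hb
            have hdvd : orderOf (π a) ∣ p ^ i := hi ▸ orderOf_map_dvd π a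
            have hab' : π a = π x * (π b)⁻¹ := by rw [← hab, map_mul, mul_inv_cancel_right]
            have hcomm : Commute (π x) (π b)⁻¹ := by
              rw [← map_inv, ← hl]
              exact ((Commute.refl x).zpow_right l).inv_right.map π
            refine Nat.eq_one_of_dvd_coprimes (((hgp.mul_left (hcop.coprime_dvd_left
              (orderOf_map_dvd π b))).pow_right i).symm) hdvd ?_
            rw [hab']
            have := hcomm.orderOf_mul_dvd_lcm
            rw [orderOf_inv] at this
            exact this.trans (Nat.lcm_dvd_mul _ _)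
          rw [← hab, map_mul, orderOf_eq_one_iff.mp h1, one_mul]
        rw [hxb, hS']
        refine mem_centralizer_iff.mpr ?_
        rintro _ ⟨s, hs, rfl⟩
        rw [← map_mul, ← map_mul]
        exact congrArg π (mem_centralizer_iff.mp (hN b (zpowers_le.mpr hx hb) hcop) s hs))
    haveI := hNn
    exact ⟨N.comap π, hNn.comap _, by rw [index_comap_of_surjective _ hπ, hNi]⟩
  -- inside the normalizer
  refine index_p_of_not_le_commutator S fun hle => ?_
  obtain ⟨N, hNn, hNi⟩ := ih (Nat.card M) (hG ▸ lt_of_le_of_ne (card_le_card_group M)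
      (fun h => hMtop (M.eq_top_of_card_eq h))) M rfl (fun L _ _ hL => hsec L (hL.trans (IsSection.subgroup M)))
    (S.subtype hSM) (by
      rw [Sylow.coe_subtype, Ne, subgroupOf_eq_bot, disjoint_iff, inf_eq_left.mpr hSM]; exact hS)
    (fun g hg hgp => by
      rw [Sylow.coe_subtype] at hg ⊢
      have hg' : (g : G) ∈ normalizer ((S : Subgroup G) : Set G) := by
        have h1 := le_normalizer_map M.subtype (mem_map_of_mem M.subtype hg)
        rwa [map_subgroupOf_eq_of_le hSM] at h1
      exact mem_centralizer_iff.mpr fun s hs => Subtype.ext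
        (mem_centralizer_iff.mp (hN g hg' (by rwa [orderOf_coe])) s hs))
  haveI := hNn
  haveI hcyc : IsCyclic (M ⧸ N) := isCyclic_of_prime_card (p := p) (by rw [← index_eq_card]; exact hNi)
  have heq := inf_commutator_eq (hsec G (IsSection.refl G)) S
  rw [inf_eq_left.mpr hle] at heq
  have hSN : (S : Subgroup G).subgroupOf M ≤ N := by
    intro s hs
    have h2 : (s : G) ∈ ⁅M, M⁆ := ((show (S : Subgroup G) ≤ _ from heq.le) hs).2
    rw [← map_subtype_commutator M] at h2
    obtain ⟨t, ht, e⟩ := h2
    rw [← (show t = s from Subtype.ext e)]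
    refine (commutator_le.mpr fun a _ b _ => ?_ : ⁅(⊤ : Subgroup M), ⊤⁆ ≤ N) (by rwa [← _root_.commutator_def])
    rw [← QuotientGroup.eq_one_iff, ← QuotientGroup.mk'_apply, map_commutatorElement,
      commutatorElement_eq_one_iff_mul_comm]
    exact mul_comm' _ _
  have h3 : ¬ p ∣ ((S : Subgroup G).subgroupOf M).index := fun hd =>
    S.not_dvd_index (hd.trans (relIndex_dvd_index_of_le hSM))
  exact h3 (hNi.symm.dvd.trans (index_dvd_of_le hSN))

end Cfsg.Lib.Functor

namespace Cfsg.Lib.KInf

open Subgroup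

universe u

variable {p : ℕ} [Fact p.Prime]

theorem iter_le_mono {G : Type u} [Group G] {U V B : Subgroup G} [hV : V.Normal] {i j : ℕ} (hij : i ≤ j)
    (h : Cfsg.iterCommutator U B i ≤ V) : Cfsg.iterCommutator U B j ≤ V := by
  obtain ⟨k, rfl⟩ := Nat.exists_eq_add_of_le hij
  induction k with
  | zero => exact h
  | succ k ih => exact (commutator_mono (ih (Nat.le_add_right i k)) le_rfl).trans (commutator_le_left V B)

theorem exists_degree (hp : 5 ≤ p) {L : Type u} [Group L] [Finite L] (T : Sylow p L)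
    (h : ¬ (Cfsg.inducedFunctor Cfsg.kInfLower (T : Subgroup L)).Normal ∨
      ¬ (Cfsg.inducedFunctor Cfsg.kInfUpper (T : Subgroup L)).Normal) :
    ∃ g : L, g ∈ (T : Subgroup L) ∧ g ∉ Cfsg.pCore p L ∧ ∀ U V : Subgroup L, Cfsg.IsChiefFactor U V →
      U ≤ Cfsg.pCore p L → Cfsg.iterCommutator U (zpowers g) (p - 1) ≤ V := by
  obtain ⟨g, h1, h2, h3, -⟩ := exists_cand_outside T h
  exact ⟨g, h1, h2, fun U V hUV hU => haveI := hUV.2.2.1; iter_le_mono (by omega) (h3 U V hUV hU)⟩

theorem tctrl_lower (hp : 5 ≤ p) (G : Type u) [Group G] [Finite G] :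
    Cfsg.Lib.Functor.TCtrl p {Cfsg.kInfLower} G :=
  Cfsg.Lib.Functor.tctrl_of_degree isCharPFunctor_lower fun _ _ _ _ _ T hn => exists_degree hp T (Or.inl hn)

theorem tctrl_upper (hp : 5 ≤ p) (G : Type u) [Group G] [Finite G] :
    Cfsg.Lib.Functor.TCtrl p {Cfsg.kInfUpper} G :=
  Cfsg.Lib.Functor.tctrl_of_degree isCharPFunctor_upper fun _ _ _ _ _ T hn => exists_degree hp T (Or.inr hn)

theorem index_p (hp : 5 ≤ p) {G : Type u} [Group G] [Finite G] (S : Sylow p G) (hS : (S : Subgroup G) ≠ ⊥)
    (hN : ∀ g ∈ normalizer ((S : Subgroup G) : Set G), (orderOf g).Coprime p →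
      g ∈ centralizer ((S : Subgroup G) : Set G)) : ∃ N : Subgroup G, N.Normal ∧ N.index = p :=
  Cfsg.Lib.Functor.index_p_main isCharPFunctor_lower _ G rfl (fun L _ _ _ => tctrl_lower hp L) S hS hN

end Cfsg.Lib.KInf
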