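import Cfsg.Agent.Components.Functor.Sections
import Cfsg.Agent.Components.Control.Functors
import Cfsg.Agent.Thompson.PComplement
import Cfsg.Agent.Components.CoprimeKer

/-!
Control of strong fusion by functors, reduced to the sections of characteristic `p`.
-/

set_option linter.style.haveILetI false
set_option linter.unusedSectionVars false

namespace Cfsg.Lib.Functor

open Subgroup
open Cfsg.Lib.Control (img Chain StepIn Agree)

universe u

variable {p : ℕ} [Fact p.Prime]

/-- the functors of `𝒲` inside `G` -/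
def ind (𝒲 : Set (∀ (Q : Type u) [Group Q], Subgroup Q)) (G : Type u) [Group G] :
    Set (Subgroup G → Subgroup G) :=
  (fun W => Cfsg.inducedFunctor (G := G) W) '' 𝒲

/-- every fusion in `S` is a chain through the `N(W S)` -/
def CtrlAll (p : ℕ) (𝒲 : Set (∀ (Q : Type u) [Group Q], Subgroup Q)) (G : Type u) [Group G] : Prop :=
  ∀ (S : Sylow p G) (A : Set G) (g : G), A ⊆ (S : Subgroup G) → img g A ⊆ (S : Subgroup G) →
    Agree (ind 𝒲 G) ⊤ (S : Subgroup G) A g

variable {𝒲 : Set (∀ (Q : Type u) [Group Q], Subgroup Q)}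

section hom

variable (h𝒲 : ∀ W ∈ 𝒲, Cfsg.IsCharPFunctor.{u} p W)
include h𝒲

theorem map_agree {G X : Type u} [Group G] [Group X] [Finite X] {f : X →* G} (hf : Function.Injective f)
    {R : Subgroup X} (hR : IsPGroup p R) {A : Set X} {g : X}
    (h : Agree (ind 𝒲 X) ⊤ R A g) : Agree (ind 𝒲 G) f.range (R.map f) (f '' A) (f g) := by
  obtain ⟨c, hc, hcg⟩ := h
  have himg : ∀ (y : X) (B : Set X), f '' img y B = img (f y) (f '' B) := fun y B => by
    rw [img, img, Set.image_image, Set.image_image]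
    exact Set.image_congr fun a _ => by simp
  refine ⟨f c, ?_, ?_⟩
  · clear hcg
    induction hc with
    | one => rw [map_one]; exact Chain.one
    | @mul x c _ hst ih =>
      rw [map_mul]
      refine Chain.mul ih ?_
      obtain ⟨⟨W, ⟨W₀, hW₀, rfl⟩, hx⟩, hB, hxB⟩ := hst
      refine ⟨⟨_, ⟨W₀, hW₀, rfl⟩, ⟨x, rfl⟩, ?_⟩, ?_, ?_⟩
      · show f x ∈ normalizer ((Cfsg.inducedFunctor W₀ (R.map f) : Subgroup G) : Set G)
        rw [← map_induced (h𝒲 W₀ hW₀) hR hf.injOn]
        exact le_normalizer_map f (mem_map_of_mem f hx.2)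
      · rw [← himg, coe_map]
        exact Set.image_mono hB
      · rw [← himg, ← himg, coe_map]
        exact Set.image_mono hxB
  · rintro _ ⟨a, ha, rfl⟩
    rw [← map_inv, ← map_mul, ← map_mul, ← map_inv, ← map_mul, ← map_mul, hcg a ha]

/-- control transported along an isomorphism -/
theorem ctrlAll_congr {G X : Type u} [Group G] [Group X] [Finite G] [Finite X] (e : X ≃* G)
    (h : CtrlAll p 𝒲 X) : CtrlAll p 𝒲 G := by
  intro S A g hA hgA
  set f := e.toMonoidHom
  let S' := S.mapSurjective (f := e.symm.toMonoidHom) e.symm.surjective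
  have hS' : (S' : Subgroup X).map f = (S : Subgroup G) := by
    show ((S : Subgroup G).map e.symm.toMonoidHom).map e.toMonoidHom = _
    rw [map_map, show e.toMonoidHom.comp e.symm.toMonoidHom = MonoidHom.id G from
      MonoidHom.ext fun x => e.apply_symm_apply x, Subgroup.map_id]
  have hA' : f '' (e.symm '' A) = A := by
    rw [Set.image_image]; simp [f]
  obtain ⟨x, rfl⟩ := e.surjective g
  have h1 := map_agree h𝒲 (f := f) e.injective S'.2 (h S' (e.symm '' A) x
    (fun y hy => by
      obtain ⟨a, ha, rfl⟩ := hy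
      exact ⟨a, hA ha, rfl⟩)
    (Cfsg.Lib.Control.img_subset_iff.mpr fun y hy => by
      obtain ⟨a, ha, rfl⟩ := hy
      exact ⟨_, Cfsg.Lib.Control.img_subset_iff.mp hgA a ha, by simp⟩))
  rw [hS', hA'] at h1
  obtain ⟨c, hc, hcg⟩ := h1
  exact ⟨c, hc.mono_step fun y B ⟨⟨W, hW, hy⟩, hB, hyB⟩ => ⟨⟨W, hW, mem_top y, hy.2⟩, hB, hyB⟩, hcg⟩

/-- control in a subgroup, seen inside `G` -/
theorem agree_in_subgroup {G : Type u} [Group G] [Finite G] {H R : Subgroup G} (hRH : R ≤ H)
    (hR : IsPGroup p R) (hnd : ¬ p ∣ R.relIndex H) (h : CtrlAll p 𝒲 H) :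
    ∀ (A : Set G) (y : G), y ∈ H → A ⊆ R → img y A ⊆ R → Agree (ind 𝒲 G) H R A y := by
  intro A y hy hA hyA
  let R' : Sylow p H := (hR.comap_subtype (K := H)).toSylow hnd
  have hR' : (R' : Subgroup H).map H.subtype = R := by
    show (R.subgroupOf H).map H.subtype = R
    rw [subgroupOf_map_subtype, inf_eq_left.mpr hRH]
  have hA' : H.subtype '' (Subtype.val ⁻¹' A : Set H) = A := by
    ext a
    exact ⟨fun ⟨x, hx, e⟩ => e ▸ hx, fun ha => ⟨⟨a, hRH (hA ha)⟩, ha, rfl⟩⟩
  have h1 := map_agree h𝒲 H.subtype_injective R'.2 (h R' (Subtype.val ⁻¹' A) ⟨y, hy⟩ (fun x hx => hA hx)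
    (Cfsg.Lib.Control.img_subset_iff.mpr fun x hx => Cfsg.Lib.Control.img_subset_iff.mp hyA _ hx))
  rw [hR', hA', range_subtype] at h1
  exact h1

/-- control in an overgroup of `S` -/
theorem agree_of_le {G : Type u} [Group G] [Finite G] (S : Sylow p G) {M : Subgroup G}
    (hSM : (S : Subgroup G) ≤ M) (h : CtrlAll p 𝒲 M) {A : Set G} {x : G} (hx : x ∈ M)
    (hA : A ⊆ (S : Subgroup G)) (hxA : img x A ⊆ (S : Subgroup G)) :
    Agree (ind 𝒲 G) ⊤ (S : Subgroup G) A x := by
  obtain ⟨c, hc, hcg⟩ := agree_in_subgroup h𝒲 hSM S.2 (fun hd => S.not_dvd_index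
    (hd.trans (relIndex_dvd_index_of_le hSM |>.trans dvd_rfl))) h A x hx hA hxA
  exact ⟨c, hc.mono_step fun y B ⟨⟨W, hW, hy⟩, hB, hyB⟩ => ⟨⟨W, hW, mem_top y, hy.2⟩, hB, hyB⟩, hcg⟩

theorem ctrl_main (n : ℕ) : ∀ (G : Type u) [Group G] [Finite G], Nat.card G = n →
    (∀ (L : Type u) [Group L] [Finite L], IsSection L G →
      centralizer (Cfsg.pCore p L : Set L) ≤ Cfsg.pCore p L → CtrlAll p 𝒲 L) →
    CtrlAll p 𝒲 G := by
  induction n using Nat.strong_induction_on with
  | _ n ih =>
  intro G _ _ hG hcrit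
  have ihsub : ∀ H : Subgroup G, H ≠ ⊤ → CtrlAll p 𝒲 H := fun H hH =>
    ih (Nat.card H) (hG ▸ lt_of_le_of_ne (card_le_card_group H)
      (fun h => hH (H.eq_top_of_card_eq h))) H rfl fun L _ _ hL => hcrit L (hL.trans (IsSection.subgroup H))
  have ihquot : ∀ (N : Subgroup G) [N.Normal], N ≠ ⊥ → CtrlAll p 𝒲 (G ⧸ N) := fun N _ hN =>
    ih (Nat.card (G ⧸ N)) (by
      rw [← hG, card_eq_card_quotient_mul_card_subgroup N]
      exact lt_mul_of_one_lt_right Nat.card_pos ((one_lt_card_iff_ne_bot _).mpr hN)) (G ⧸ N) rfl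
      fun L _ _ hL => hcrit L (hL.trans (IsSection.quotient N))
  intro S
  set Q := Cfsg.pCore p G
  have hQp : IsPGroup p Q := Cfsg.Lib.Components.isPGroup_pCore p
  have hQS : Q ≤ (S : Subgroup G) := Cfsg.Lib.Thompson.le_sylow_of_normal hQp S
  by_cases hcon : centralizer (Q : Set G) ≤ Q
  · exact hcrit G (IsSection.refl G) hcon S
  by_cases hQ : Q = ⊥
  · -- no normal `p`-subgroup
    have hW : ∀ W ∈ ind 𝒲 G, Cfsg.IsConjugacyFunctor p W := by
      rintro _ ⟨W₀, hW₀, rfl⟩
      exact isConjugacyFunctor_induced (h𝒲 W₀ hW₀)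
    refine Cfsg.Lib.Control.agree_of_local S (ind 𝒲 G)
      {U | U ≤ (S : Subgroup G) ∧ Cfsg.Lib.Control.Good p (S : Subgroup G) U} (fun U hU => hU.1)
      (fun T hT => ?_) (fun U hU => hU.2) (fun W hW' R hR => (hW W hW' R (S.2.to_le hR)).1)
      (fun W hW' R g hR _ => (hW W hW' R (S.2.to_le hR)).2.2 g)
      (fun W hW' U hU hU1 => (hW W hW' _ (S.2.to_le inf_le_left)).2.1 fun h =>
        hU1 (le_bot_iff.mp (h ▸ le_inf hU le_normalizer)))
      (fun U hU hU1 A y hy hA hyA => agree_in_subgroup h𝒲 inf_le_right (S.2.to_le inf_le_left) hU.2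
        (ihsub _ fun htop => hU1 ?_) A y hy hA hyA)
    · obtain ⟨g, hg, hgood⟩ := Cfsg.Lib.Control.exists_good S hT
      exact ⟨_, ⟨hg, hgood⟩, ⟨g, rfl⟩, hgood⟩
    · haveI : U.Normal := normalizer_eq_top_iff.mp htop
      exact le_bot_iff.mp (hQ ▸ Cfsg.Lib.Components.le_pCore (S.2.to_le hU.1))
  by_cases hN : Cfsg.pPrimeCore p G ≠ ⊥
  · -- a normal `p'`-subgroup
    set N := Cfsg.pPrimeCore p G
    have hNc : (Nat.card N).Coprime p := Cfsg.Lib.Components.coprime_card_pPrimeCore p
    set π := QuotientGroup.mk' N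
    have hπ : Function.Surjective π := QuotientGroup.mk'_surjective N
    have hinj := Cfsg.Lib.ZJ.injOn_mk hNc S.2
    let S' := S.mapSurjective hπ
    have hS' : (S' : Subgroup (G ⧸ N)) = (S : Subgroup G).map π := rfl
    intro A g hA hgA
    obtain ⟨cb, hcb, hcbg⟩ := ihquot N hN S' (π '' A) (π g)
      (fun y ⟨a, ha, e⟩ => e ▸ mem_map_of_mem π (hA ha))
      (Cfsg.Lib.Control.img_subset_iff.mpr fun y ⟨a, ha, e⟩ => by
        rw [← e, ← map_inv, ← map_mul, ← map_mul]
        exact mem_map_of_mem π (Cfsg.Lib.Control.img_subset_iff.mp hgA a ha))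
    have key : ∃ c : G, π c = cb ∧ img c A ⊆ (S : Subgroup G) ∧ Chain (StepIn (ind 𝒲 G) ⊤ (S : Subgroup G)) A c := by
      clear hcbg
      induction hcb with
      | one => exact ⟨1, map_one π, by rwa [Cfsg.Lib.Control.img_one], Chain.one⟩
      | @mul x c' _ hst ihc =>
        obtain ⟨c, rfl, hcA, hc⟩ := ihc
        obtain ⟨⟨W, ⟨W₀, hW₀, rfl⟩, hx⟩, -, hxB⟩ := hst
        set Z := Cfsg.inducedFunctor W₀ (S : Subgroup G)
        have hZ : Z.map π = Cfsg.inducedFunctor W₀ (S' : Subgroup (G ⧸ N)) := by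
          rw [hS', ← map_induced (h𝒲 W₀ hW₀) S.2 hinj]
        obtain ⟨x₀, rfl⟩ := hπ x
        obtain ⟨x₁, hx₁, hxx⟩ : ∃ x₁ ∈ normalizer (Z : Set G), π x₁ = π x₀ := by
          haveI hsn : ((Z.map π).subgroupOf (normalizer (Z.map π : Set (G ⧸ N)))).Normal := normal_in_normalizer
          set M := (normalizer (Z.map π : Set (G ⧸ N))).comap π
          have hx₀ : x₀ ∈ M := by rw [mem_comap, hZ]; exact hx.2
          have hZM : Z ≤ M := fun z hz => mem_comap.mpr (le_normalizer (mem_map_of_mem π hz))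
          -- Frattini inside `N Z`
          set L := N ⊔ Z
          have hL : M ≤ normalizer (L : Set G) := by
            have : L = (Z.map π).comap π := by rw [comap_map_eq, QuotientGroup.ker_mk', sup_comm]
            rw [this, ← comap_normalizer_eq_of_surjective _ hπ]
          obtain ⟨j, hj⟩ := IsPGroup.iff_card.mp (S.2.to_le (induced_le (W := W₀) (S : Subgroup G)))
          obtain ⟨m, hm, hmZ⟩ := Cfsg.Lib.Coprime.exists_conj_eq_of_coprime (N := N) (H := Z)
            le_normalizer_of_normal (by rw [hj]; exact hNc.pow_right j)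
            (Or.inr (by haveI := (S.2.to_le (induced_le (W := W₀) (S : Subgroup G))).isNilpotent; infer_instance))
            (K := Cfsg.Lib.Coprime.conjMap x₀ Z)
            (by
              rintro _ ⟨z, hz, rfl⟩
              exact (mem_normalizer_iff.mp (hL hx₀) z).mp (mem_sup_right hz))
            (Cfsg.Lib.Coprime.card_conjMap x₀ Z)
          refine ⟨m⁻¹ * x₀, Cfsg.Lib.Coprime.conjMap_eq_self_iff.mp ?_, ?_⟩
          · rw [← Cfsg.Lib.Coprime.conjMap_mul, hmZ]
            exact Cfsg.Lib.Coprime.conjMap_inv_conjMap _ _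
          · rw [map_mul, map_inv, show π m = 1 from (QuotientGroup.eq_one_iff m).mpr hm, inv_one, one_mul]
        -- move back into `S`
        set M := (N ⊓ normalizer (Z : Set G)) ⊔ (S : Subgroup G)
        have hSZ : (S : Subgroup G) ≤ normalizer (Z : Set G) :=
          le_normalizer.trans (normalizer_le_normalizer_induced (h𝒲 W₀ hW₀) S.2)
        have hX : (closure (img c A)).map (MulAut.conj x₁).toMonoidHom ≤ M := by
          rw [← Cfsg.Lib.Control.closure_img, closure_le]
          refine Cfsg.Lib.Control.img_subset_iff.mpr ?_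
          rintro _ ⟨a, ha, rfl⟩
          have hb := hcA ⟨a, ha, rfl⟩
          set b := c * a * c⁻¹
          obtain ⟨s, hs, hsb⟩ := Cfsg.Lib.Control.img_subset_iff.mp hxB (π b) (by
            refine ⟨π a, ⟨a, ha, rfl⟩, ?_⟩
            simp [b])
          rw [← hxx, ← map_inv, ← map_mul, ← map_mul] at hsb
          have h1 : x₁ * b * x₁⁻¹ * s⁻¹ ∈ N := by
            rw [← QuotientGroup.eq_one_iff]
            show π _ = 1
            rw [map_mul, map_inv, hsb, mul_inv_cancel]
          have h2 : x₁ * b * x₁⁻¹ * s⁻¹ ∈ normalizer (Z : Set G) :=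
            mul_mem (mul_mem (mul_mem hx₁ (hSZ hb)) (inv_mem hx₁)) (inv_mem (hSZ hs))
          have := mul_mem (mem_sup_left ⟨h1, h2⟩ : _ ∈ M) (mem_sup_right hs : s ∈ M)
          rwa [inv_mul_cancel_right] at this
        have hXp : IsPGroup p ((closure (img c A)).map (MulAut.conj x₁).toMonoidHom) :=
          (S.2.to_le ((closure_le _).mpr hcA)).map _
        obtain ⟨T, hT⟩ := (hXp.comap_subtype (K := M)).exists_le_sylow
        obtain ⟨m, hm⟩ := MulAction.exists_smul_eq M T (S.subtype le_sup_right)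
        obtain ⟨r, hr, l, hl, hrl⟩ := (Cfsg.Lib.Coprime.mem_sup_of_le_normalizer' (N := N ⊓ normalizer (Z : Set G))
          (H := (S : Subgroup G)) (Cfsg.Lib.Coprime.le_normalizer_inf le_normalizer_of_normal
            (hSZ.trans le_normalizer))).mp m.2
        have hx₂ : ∀ b ∈ img c A, l * x₁ * b * (l * x₁)⁻¹ ∈ (S : Subgroup G) := by
          intro b hb
          have hbX : x₁ * b * x₁⁻¹ ∈ (closure (img c A)).map (MulAut.conj x₁).toMonoidHom :=
            ⟨b, subset_closure hb, rfl⟩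
          have h5 : m * ⟨x₁ * b * x₁⁻¹, hX hbX⟩ * m⁻¹ ∈
              (S.subtype (le_sup_right : (S : Subgroup G) ≤ M) : Subgroup M) := by
            rw [← hm]
            exact Cfsg.Lib.Transfer.mem_conj_sylow_iff.mpr (hT hbX)
          rw [Sylow.coe_subtype, mem_subgroupOf] at h5
          have h6 := mul_mem (mul_mem (inv_mem hr) h5) hr
          simpa [← hrl, mul_assoc] using h6
        refine ⟨l * x₁ * c, ?_, ?_, Chain.mul hc ⟨⟨_, ⟨W₀, hW₀, rfl⟩, mem_top _, mul_mem hl.2 hx₁⟩, hcA,
          Cfsg.Lib.Control.img_subset_iff.mpr hx₂⟩⟩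
        · rw [map_mul, map_mul, show π l = 1 from (QuotientGroup.eq_one_iff l).mpr hl.1, one_mul, hxx]
        · rw [← Cfsg.Lib.Control.img_img]
          exact Cfsg.Lib.Control.img_subset_iff.mpr hx₂
    obtain ⟨c, hc1, hc2, hc⟩ := key
    refine ⟨c, hc, fun a ha => hinj (hc2 ⟨a, ha, rfl⟩) (Cfsg.Lib.Control.img_subset_iff.mp hgA a ha) ?_⟩
    rw [map_mul, map_mul, map_inv, hc1, map_mul, map_mul, map_inv]
    exact hcbg (π a) ⟨a, ha, rfl⟩
  push Not at hN
  set C := centralizer (Q : Set G)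
  haveI : C.Normal := normal_centralizer
  -- proper subgroups
  have hNS : normalizer ((S : Subgroup G) : Set G) ≠ ⊤ ∧ normalizer (((S : Subgroup G) ⊓ C : Subgroup G) : Set G) ≠ ⊤ := by
    have hcase : normalizer (((S : Subgroup G) ⊓ C : Subgroup G) : Set G) ≠ ⊤ := by
      intro htop
      haveI : ((S : Subgroup G) ⊓ C).Normal := normalizer_eq_top_iff.mp htop
      have hle : (S : Subgroup G) ⊓ C ≤ Q := Cfsg.Lib.Components.le_pCore (S.2.to_le inf_le_left)
      have hzero : ∀ P : Subgroup C, IsPGroup p P → ∀ y ∈ P, ∀ c : C, c * y = y * c := by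
        intro P hP y hy c
        obtain ⟨T, hT⟩ := (hP.map C.subtype).exists_le_sylow
        have hyS : (y : G) ∈ (S : Subgroup G) ⊓ C := by
          obtain ⟨g, hg⟩ := MulAction.exists_smul_eq G T S
          have h1 : g * (y : G) * g⁻¹ ∈ (S : Subgroup G) := by
            rw [← hg, Cfsg.Lib.Transfer.sylow_smul_coe]
            exact ⟨y, hT (mem_map_of_mem _ hy), rfl⟩
          have h2 : g * (y : G) * g⁻¹ ∈ (S : Subgroup G) ⊓ C := ⟨h1, Normal.conj_mem inferInstance _ y.2 g⟩
          have h3 := Normal.conj_mem (inferInstance : ((S : Subgroup G) ⊓ C).Normal) _ h2 g⁻¹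
          simpa [mul_assoc] using h3
        exact Subtype.ext (mem_centralizer_iff.mp c.2 _ (hle hyS)).symm
      obtain ⟨K, hKn, hKc, j, hKj⟩ := Cfsg.Lib.Transfer.hasNormalPComplement_iff.mp
        (Cfsg.Lib.Transfer.hasNormalPComplement_of_frobenius (G := C) (p := p) fun P hP y _ _ q hq =>
          (hzero P hP q hq y).symm)
      haveI := hKn
      have hKn' : (K.map C.subtype).Normal := ⟨fun x hx g => by
        obtain ⟨y, hy, rfl⟩ := mem_map.mp hx
        refine mem_map.mpr ⟨MulAut.conjNormal g y, ?_, MulAut.conjNormal_apply g y⟩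
        rw [Cfsg.Lib.Transfer.mem_iff_coprime_orderOf hKc hKj, MulEquiv.orderOf_eq]
        exact (Cfsg.Lib.Transfer.mem_iff_coprime_orderOf hKc hKj y).mp hy⟩
      have hK : K = ⊥ := by
        have h1 := Cfsg.Lib.Components.le_pPrimeCore (N := K.map C.subtype) (p := p) (by rwa [card_subtype])
        rw [hN, le_bot_iff, map_eq_bot_iff_of_injective _ C.subtype_injective] at h1
        exact h1
      have hCp : IsPGroup p C := IsPGroup.of_card (n := j) (by rw [← hKj, hK, index_bot])
      exact hcon (Cfsg.Lib.Components.le_pCore hCp)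
    refine ⟨fun h => hcase (top_le_iff.mp ?_), hcase⟩
    rw [← h]
    exact Cfsg.Lib.Coprime.le_normalizer_inf le_rfl (le_top.trans (normalizer_eq_top C).ge)
  set M := C ⊔ (S : Subgroup G)
  have hfr := Cfsg.Lib.ZJ.sup_normalizer_inf_eq_top C S
  by_cases hM : M = ⊤
  · -- `G = C S`
    set π := QuotientGroup.mk' Q
    have hπ : Function.Surjective π := QuotientGroup.mk'_surjective Q
    have hker : π.ker = Q := QuotientGroup.ker_mk' Q
    let S' := S.mapSurjective hπ
    have hS' : (S' : Subgroup (G ⧸ Q)) = (S : Subgroup G).map π := rfl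
    have hSc : ((S : Subgroup G).map π).comap π = S := comap_map_eq_self (hker.le.trans hQS)
    have hSne : (S' : Subgroup (G ⧸ Q)) ≠ ⊥ := fun h => hNS.1 (by
      have h1 : (S : Subgroup G) = Q := by rw [← hSc, ← hS', h, MonoidHom.comap_bot, hker]
      rw [h1]; exact normalizer_eq_top Q)
    -- up to `Q`
    have hmodQ : ∀ (A : Set G) (g : G), A ⊆ (S : Subgroup G) → img g A ⊆ (S : Subgroup G) →
        ∃ c : G, img c A ⊆ (S : Subgroup G) ∧ Agree (ind 𝒲 G) ⊤ (S : Subgroup G) A c ∧
          ∀ a ∈ A, π (c * a * c⁻¹) = π (g * a * g⁻¹) := by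
      intro A g hA hgA
      obtain ⟨cb, hcb, hcbg⟩ := ihquot Q hQ S' (π '' A) (π g)
        (fun y ⟨a, ha, e⟩ => e ▸ mem_map_of_mem π (hA ha))
        (Cfsg.Lib.Control.img_subset_iff.mpr fun y ⟨a, ha, e⟩ => by
          rw [← e, ← map_inv, ← map_mul, ← map_mul]
          exact mem_map_of_mem π (Cfsg.Lib.Control.img_subset_iff.mp hgA a ha))
      suffices key : ∃ c : G, π c = cb ∧ img c A ⊆ (S : Subgroup G) ∧ Agree (ind 𝒲 G) ⊤ (S : Subgroup G) A c by
        obtain ⟨c, rfl, hc2, hc⟩ := key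
        refine ⟨c, hc2, hc, fun a ha => ?_⟩
        rw [map_mul, map_mul, map_inv, map_mul, map_mul, map_inv]
        exact hcbg (π a) ⟨a, ha, rfl⟩
      clear hcbg
      induction hcb with
      | one => exact ⟨1, map_one π, by rwa [Cfsg.Lib.Control.img_one], 1, Chain.one, fun _ _ => rfl⟩
      | @mul x c' _ hst ihc =>
        obtain ⟨c, rfl, hcA, hc⟩ := ihc
        obtain ⟨⟨W, ⟨W₀, hW₀, rfl⟩, hx⟩, -, hxB⟩ := hst
        obtain ⟨x, rfl⟩ := hπ x
        set Z := (Cfsg.inducedFunctor W₀ (S' : Subgroup (G ⧸ Q))).comap π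
        have hxZ : x ∈ normalizer (Z : Set G) := by
          rw [← comap_normalizer_eq_of_surjective _ hπ]; exact hx.2
        have hSZ : (S : Subgroup G) ≤ normalizer (Z : Set G) := by
          rw [← comap_normalizer_eq_of_surjective _ hπ, ← map_le_iff_le_comap, ← hS']
          exact le_normalizer.trans (normalizer_le_normalizer_induced (h𝒲 W₀ hW₀) S'.2)
        have hZtop : normalizer (Z : Set G) ≠ ⊤ := fun htop => by
          have hZn : Z.Normal := normalizer_eq_top_iff.mp htop
          have hZS : Z ≤ (S : Subgroup G) := (comap_mono (induced_le _)).trans hSc.le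
          haveI := hZn
          have h1 : Z ≤ Q := Cfsg.Lib.Components.le_pCore (S.2.to_le hZS)
          refine induced_ne_bot (h𝒲 W₀ hW₀) S'.2 hSne ?_
          rw [← map_comap_eq_self_of_surjective hπ (Cfsg.inducedFunctor W₀ (S' : Subgroup (G ⧸ Q))),
            Subgroup.map_eq_bot_iff, hker]
          exact h1
        have hxA : ∀ b ∈ img c A, x * b * x⁻¹ ∈ (S : Subgroup G) := by
          rintro _ ⟨a, ha, rfl⟩
          rw [← hSc, mem_comap, map_mul, map_mul, map_inv]
          exact Cfsg.Lib.Control.img_subset_iff.mp hxB _ ⟨π a, ⟨a, ha, rfl⟩, by simp⟩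
        have hxA' := Cfsg.Lib.Control.img_subset_iff.mpr hxA
        refine ⟨x * c, map_mul π x c, by rw [← Cfsg.Lib.Control.img_img]; exact hxA', ?_⟩
        exact hc.trans (agree_of_le h𝒲 S hSZ (ihsub _ hZtop) hxZ hcA hxA')
    -- downwards over `U ≥ Q`
    have hfix : ∀ U : Subgroup G, Q ≤ U → U ≤ (S : Subgroup G) → ∀ k : G,
        (∀ u ∈ U, π (k * u * k⁻¹) = π u) → Agree (ind 𝒲 G) ⊤ (S : Subgroup G) (U : Set G) k := by
      intro U
      induction hd : Nat.card (S : Subgroup G) - Nat.card U using Nat.strong_induction_on generalizing U with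
      | _ d ihd =>
      intro hQU hUS k hk
      have hkU : ∀ (k : G), (∀ u ∈ U, π (k * u * k⁻¹) = π u) → k ∈ normalizer (U : Set G) := fun k hk => by
        rw [← Cfsg.Lib.Transfer.map_conj_eq_self_iff]
        refine eq_of_le_of_card_ge ?_ (Cfsg.Lib.Transfer.card_map_conj U k).ge
        rintro _ ⟨u, hu, rfl⟩
        have h1 : k * u * k⁻¹ * u⁻¹ ∈ Q := by
          rw [← QuotientGroup.eq_one_iff]
          show π _ = 1
          rw [map_mul, map_inv, hk u hu, mul_inv_cancel]
        have := mul_mem (hQU h1) hu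
        rwa [inv_mul_cancel_right] at this
      have hkN := hkU k hk
      have hkimg : img k (U : Set G) ⊆ (S : Subgroup G) :=
        Cfsg.Lib.Control.img_subset_iff.mpr fun u hu => hUS ((mem_normalizer_iff.mp hkN u).mp hu)
      rcases eq_or_lt_of_le hUS with h | h
      · subst h
        exact agree_of_le h𝒲 S le_normalizer (ihsub _ hNS.1) hkN subset_rfl hkimg
      obtain ⟨a, haS, hagood⟩ := Cfsg.Lib.Control.exists_good S hUS
      obtain ⟨h', hh', hh'N⟩ := Cfsg.Lib.Control.exists_conj_normalizer S rfl hagood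
      set U' := U.map (MulAut.conj a).toMonoidHom
      -- the conjugating element
      set P₁ := (S : Subgroup G) ⊓ normalizer (U : Set G)
      have hUP : U ≤ P₁ := le_inf hUS le_normalizer
      have hbig : Agree (ind 𝒲 G) ⊤ (S : Subgroup G) (P₁ : Set G) h' := by
        have hA : (P₁ : Set G) ⊆ (S : Subgroup G) := fun u hu => hu.1
        have hA' : img h' (P₁ : Set G) ⊆ (S : Subgroup G) := by
          rw [Cfsg.Lib.Control.img_eq_map]; exact fun z hz => (hh'N hz).1
        obtain ⟨c, hcS, hc, hcmod⟩ := hmodQ _ h' hA hA'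
        have hlt : Nat.card U < Nat.card P₁ := Cfsg.Lib.Control.card_lt_normalizer S.2 h
        have hle : Nat.card P₁ ≤ Nat.card (S : Subgroup G) := card_le_of_le inf_le_left
        set P₂ := P₁.map (MulAut.conj c).toMonoidHom
        have hP₂c : Nat.card P₂ = Nat.card P₁ := Cfsg.Lib.Transfer.card_map_conj _ _
        have hP₂S : P₂ ≤ (S : Subgroup G) := fun z hz => hcS hz
        have hQP₂ : Q ≤ P₂ := fun q hq => ⟨c⁻¹ * q * c,
          hUP (hQU (by simpa using Normal.conj_mem inferInstance q hq c⁻¹)), by simp [mul_assoc]⟩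
        have h2 := ihd _ (by omega) P₂ rfl hQP₂ hP₂S (h' * c⁻¹) (by
          rintro _ ⟨u, hu, rfl⟩
          show π (h' * c⁻¹ * (c * u * c⁻¹) * (h' * c⁻¹)⁻¹) = π (c * u * c⁻¹)
          rw [hcmod u hu]
          congr 1
          group)
        have h3 := hc.trans h2
        rwa [inv_mul_cancel_right] at h3
      have hU'S : U' ≤ (S : Subgroup G) := haS
      set k' := h' * k * h'⁻¹
      have hk' : ∀ u ∈ U', π (k' * u * k'⁻¹) = π u := by
        intro u hu
        rw [← hh'] at hu
        obtain ⟨u, hu, rfl⟩ := hu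
        show π (h' * k * h'⁻¹ * (h' * u * h'⁻¹) * (h' * k * h'⁻¹)⁻¹) = π (h' * u * h'⁻¹)
        rw [show h' * k * h'⁻¹ * (h' * u * h'⁻¹) * (h' * k * h'⁻¹)⁻¹ = h' * (k * u * k⁻¹) * h'⁻¹ by group]
        simp only [map_mul, map_inv]
        rw [← map_inv, ← map_mul, ← map_mul π, hk u hu]
      -- the group of such elements
      let D : Subgroup G :=
        { carrier := {x | x ∈ normalizer (U' : Set G) ∧ ∀ u ∈ U', π (x * u * x⁻¹) = π u}
          one_mem' := ⟨one_mem _, fun u _ => by simp⟩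
          mul_mem' := fun {x y} hx hy => ⟨mul_mem hx.1 hy.1, fun u hu => by
            rw [show x * y * u * (x * y)⁻¹ = x * (y * u * y⁻¹) * x⁻¹ by group,
              hx.2 _ ((mem_normalizer_iff.mp hy.1 u).mp hu), hy.2 u hu]⟩
          inv_mem' := fun {x} hx => ⟨inv_mem hx.1, fun u hu => by
            have h1 := hx.2 _ ((mem_normalizer_iff.mp (inv_mem hx.1) u).mp hu)
            rw [← h1]
            congr 1
            group⟩ }
      have hDN : D ≤ normalizer (U' : Set G) := fun x hx => hx.1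
      haveI : (D.subgroupOf (normalizer (U' : Set G))).Normal := ⟨fun x hx y => by
        refine ⟨((y * x * y⁻¹ : normalizer (U' : Set G))).2, fun u hu => ?_⟩
        have h1 : π ((x : G) * ((y : G)⁻¹ * u * (y : G)⁻¹⁻¹) * (x : G)⁻¹) = π ((y : G)⁻¹ * u * (y : G)⁻¹⁻¹) :=
          hx.2 _ ((mem_normalizer_iff.mp (inv_mem y.2) u).mp hu)
        show π ((y : G) * x * (y : G)⁻¹ * u * ((y : G) * x * (y : G)⁻¹)⁻¹) = π u
        rw [show (y : G) * x * (y : G)⁻¹ * u * ((y : G) * x * (y : G)⁻¹)⁻¹ =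
          y * ((x : G) * ((y : G)⁻¹ * u * (y : G)⁻¹⁻¹) * (x : G)⁻¹) * (y : G)⁻¹ by group, map_mul, map_mul, h1,
          ← map_mul, ← map_mul]
        congr 1
        group⟩
      let T : Sylow p (normalizer (U' : Set G)) :=
        ((S.2.to_le (inf_le_left : (S : Subgroup G) ⊓ normalizer (U' : Set G) ≤ S)).comap_subtype
          (K := normalizer (U' : Set G))).toSylow hagood
      have hTS : ∀ s ∈ (T : Subgroup (normalizer (U' : Set G))), (s : G) ∈ (S : Subgroup G) :=
        fun s hs => (mem_subgroupOf.mp hs).1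
      have hkD : k' ∈ D := ⟨by
        rw [← Cfsg.Lib.Transfer.map_conj_eq_self_iff, ← hh', map_map]
        conv_rhs => rw [← Cfsg.Lib.Transfer.map_conj_eq_self_iff.mpr hkN, map_map]
        congr 1
        ext z; simp [k', mul_assoc], hk'⟩
      -- `D` is `C(U')` times a Sylow subgroup
      obtain ⟨a', y, ha', hy', hay, ⟨j, hj⟩, hcop⟩ := Cfsg.Lib.Transfer.exists_pPart p k'
      have hyD : y ∈ D := zpowers_le.mpr hkD hy'
      have hyU : y ∈ centralizer (U' : Set G) := by
        have hyC : y ∈ C := by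
          obtain ⟨c₀, hc₀, s, hs, hcs⟩ := (Cfsg.Lib.Coprime.mem_sup_of_le_normalizer
            (le_normalizer_of_normal)).mp (show y ∈ M by rw [hM]; exact mem_top y)
          have hord : orderOf (QuotientGroup.mk' C y) ∣ orderOf y := orderOf_map_dvd _ y
          obtain ⟨i, hi⟩ := S.2 ⟨s, hs⟩
          have h1 : QuotientGroup.mk' C y = QuotientGroup.mk' C s := by
            rw [← hcs, map_mul, show QuotientGroup.mk' C c₀ = 1 from (QuotientGroup.eq_one_iff c₀).mpr hc₀, one_mul]
          have h2 : QuotientGroup.mk' C y ^ p ^ i = 1 := by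
            rw [h1, ← map_pow, show s ^ p ^ i = 1 from congrArg Subtype.val hi, map_one]
          exact (QuotientGroup.eq_one_iff y).mp (orderOf_eq_one_iff.mp (Nat.eq_one_of_dvd_coprimes
            (hcop.pow_right i) hord (orderOf_dvd_of_pow_eq_one h2)))
        have hQU' : Q ≤ U' := fun q hq => ⟨a⁻¹ * q * a,
          hQU (by simpa using Normal.conj_mem inferInstance q hq a⁻¹), by simp [mul_assoc]⟩
        refine mem_centralizer_iff.mpr fun x hx => ?_
        set w := y * x * y⁻¹ * x⁻¹ with hw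
        have hwQ : w ∈ Q := by
          rw [← QuotientGroup.eq_one_iff]
          show π _ = 1
          rw [map_mul, map_inv, hyD.2 x hx, mul_inv_cancel]
        have hyw : ∀ v ∈ Q, y * v * y⁻¹ = v := fun v hv => by
          rw [← mem_centralizer_iff.mp hyC v hv, mul_inv_cancel_right]
        have hit : ∀ i : ℕ, y ^ i * x * (y ^ i)⁻¹ = w ^ i * x := by
          intro i
          induction i with
          | zero => simp
          | succ i ihi =>
            calc y ^ (i + 1) * x * (y ^ (i + 1))⁻¹ = y * (y ^ i * x * (y ^ i)⁻¹) * y⁻¹ := by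
                  rw [pow_succ']; group
              _ = (y * w ^ i * y⁻¹) * (y * x * y⁻¹) := by rw [ihi]; group
              _ = w ^ i * (w * x) := by rw [hyw _ (pow_mem hwQ i), hw]; group
              _ = _ := by rw [pow_succ]; exact (mul_assoc _ _ _).symm
        have h5 := hit (orderOf y)
        rw [pow_orderOf_eq_one, inv_one, mul_one, one_mul, eq_comm, mul_eq_right] at h5
        obtain ⟨i, hi⟩ := IsPGroup.iff_orderOf.mp hQp ⟨w, hwQ⟩
        rw [Subgroup.orderOf_mk] at hi
        have hw1 : w = 1 := orderOf_eq_one_iff.mp (Nat.eq_one_of_dvd_coprimes (hcop.pow_right i)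
          (orderOf_dvd_of_pow_eq_one h5) hi.dvd)
        rw [hw, mul_inv_eq_one] at hw1
        calc x * y = y * x * y⁻¹ * y := by rw [hw1]
          _ = y * x := by group
      have hwit : ∃ s ∈ (S : Subgroup G), ∀ u ∈ U', s * u * s⁻¹ = k' * u * k'⁻¹ := by
        let N' := normalizer (U' : Set G)
        set D' := D.subgroupOf N'
        have hcc : (centralizer (U' : Set G)).subgroupOf N' ≤ D' := fun x hx => ⟨x.2, fun u hu => by
          rw [← mem_centralizer_iff.mp hx u hu, mul_inv_cancel_right]⟩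
        haveI : ((centralizer (U' : Set G)).subgroupOf N').Normal :=
          (normal_subgroupOf_iff_le_normalizer (Cfsg.Lib.Thompson.centralizer_le_normalizer U')).mpr
            (Cfsg.Lib.Thompson.normalizer_le_normalizer_centralizer U')
        set θ := QuotientGroup.mk' ((centralizer (U' : Set G)).subgroupOf N')
        have hθ : Function.Surjective θ := QuotientGroup.mk'_surjective _
        haveI : (D'.map θ).Normal := Subgroup.Normal.map inferInstance θ hθ
        have hDp : IsPGroup p (D'.map θ) := by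
          rintro ⟨_, d, hd, rfl⟩
          obtain ⟨a₁, b₁, -, hb₁, hab₁, ⟨j₁, hj₁⟩, hcop₁⟩ := Cfsg.Lib.Transfer.exists_pPart p d
          refine ⟨j₁, Subtype.ext ?_⟩
          show θ d ^ p ^ j₁ = 1
          have hb1 : θ b₁ = 1 := by
            refine (QuotientGroup.eq_one_iff _).mpr ?_
            show (b₁ : G) ∈ centralizer (U' : Set G)
            have hbD : (b₁ : G) ∈ D := (zpowers_le.mpr hd : zpowers d ≤ D') hb₁
            have hbC : (b₁ : G) ∈ C := by
              obtain ⟨c₀, hc₀, s, hs, hcs⟩ := (Cfsg.Lib.Coprime.mem_sup_of_le_normalizer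
                (le_normalizer_of_normal)).mp (show (b₁ : G) ∈ M by rw [hM]; exact mem_top _)
              obtain ⟨i, hi⟩ := S.2 ⟨s, hs⟩
              have h1 : QuotientGroup.mk' C (b₁ : G) = QuotientGroup.mk' C s := by
                rw [← hcs, map_mul, show QuotientGroup.mk' C c₀ = 1 from (QuotientGroup.eq_one_iff c₀).mpr hc₀,
                  one_mul]
              have h2 : QuotientGroup.mk' C (b₁ : G) ^ p ^ i = 1 := by
                rw [h1, ← map_pow, show s ^ p ^ i = 1 from congrArg Subtype.val hi, map_one]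
              refine (QuotientGroup.eq_one_iff _).mp (orderOf_eq_one_iff.mp (Nat.eq_one_of_dvd_coprimes
                (hcop₁.pow_right i) ?_ (orderOf_dvd_of_pow_eq_one h2)))
              exact (orderOf_map_dvd (QuotientGroup.mk' C) (b₁ : G)).trans (orderOf_coe b₁).dvd
            have hQU' : Q ≤ U' := fun q hq => ⟨a⁻¹ * q * a,
              hQU (by simpa using Normal.conj_mem inferInstance q hq a⁻¹), by simp [mul_assoc]⟩
            refine mem_centralizer_iff.mpr fun x hx => ?_
            set w := (b₁ : G) * x * (b₁ : G)⁻¹ * x⁻¹ with hw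
            have hwQ : w ∈ Q := by
              rw [← QuotientGroup.eq_one_iff]
              show π _ = 1
              rw [map_mul, map_inv, hbD.2 x hx, mul_inv_cancel]
            have hbw : ∀ v ∈ Q, (b₁ : G) * v * (b₁ : G)⁻¹ = v := fun v hv => by
              rw [← mem_centralizer_iff.mp hbC v hv, mul_inv_cancel_right]
            have hit : ∀ i : ℕ, (b₁ : G) ^ i * x * ((b₁ : G) ^ i)⁻¹ = w ^ i * x := by
              intro i
              induction i with
              | zero => simp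
              | succ i ihi =>
                calc (b₁ : G) ^ (i + 1) * x * ((b₁ : G) ^ (i + 1))⁻¹
                    = b₁ * ((b₁ : G) ^ i * x * ((b₁ : G) ^ i)⁻¹) * (b₁ : G)⁻¹ := by rw [pow_succ']; group
                  _ = ((b₁ : G) * w ^ i * (b₁ : G)⁻¹) * (b₁ * x * (b₁ : G)⁻¹) := by rw [ihi]; group
                  _ = w ^ i * (w * x) := by rw [hbw _ (pow_mem hwQ i), hw]; group
                  _ = _ := by rw [pow_succ]; exact (mul_assoc _ _ _).symm
            have h5 := hit (orderOf (b₁ : G))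
            rw [pow_orderOf_eq_one, inv_one, mul_one, one_mul, eq_comm, mul_eq_right] at h5
            obtain ⟨i, hi⟩ := IsPGroup.iff_orderOf.mp hQp ⟨w, hwQ⟩
            rw [Subgroup.orderOf_mk] at hi
            have hw1 : w = 1 := orderOf_eq_one_iff.mp (Nat.eq_one_of_dvd_coprimes
              ((show (orderOf (b₁ : G)).Coprime p by rw [orderOf_coe]; exact hcop₁).pow_right i)
              (orderOf_dvd_of_pow_eq_one h5) hi.dvd)
            rw [hw, mul_inv_eq_one] at hw1
            calc x * (b₁ : G) = b₁ * x * (b₁ : G)⁻¹ * b₁ := by rw [hw1]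
              _ = b₁ * x := by group
          rw [← hab₁, map_mul, hb1, mul_one, ← map_pow, ← hj₁, pow_orderOf_eq_one, map_one]
        have hle := Cfsg.Lib.Thompson.le_sylow_of_normal hDp (T.mapSurjective hθ)
        obtain ⟨s, hs, hsk⟩ := hle (mem_map_of_mem θ (show (⟨k', hkD.1⟩ : N') ∈ D' from hkD))
        refine ⟨s, hTS s hs, fun u hu => ?_⟩
        have h1 : (⟨k', hkD.1⟩ : N')⁻¹ * s ∈ (centralizer (U' : Set G)).subgroupOf N' :=
          QuotientGroup.eq.mp hsk.symm
        have h2 := mem_centralizer_iff.mp (mem_subgroupOf.mp h1) u hu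
        change u * (k'⁻¹ * (s : G)) = k'⁻¹ * (s : G) * u at h2
        calc (s : G) * u * (s : G)⁻¹ = k' * (k'⁻¹ * s * u) * (s : G)⁻¹ := by group
          _ = _ := by rw [← h2]; group
      obtain ⟨s, hs, hsU⟩ := hwit
      have hkU' : k' ∈ normalizer (U' : Set G) := hkD.1
      have h2 : Agree (ind 𝒲 G) ⊤ (S : Subgroup G) (U' : Set G) k' :=
        (agree_of_le h𝒲 S le_normalizer (ihsub _ hNS.1) (le_normalizer hs) (fun u hu => hU'S hu)
          (Cfsg.Lib.Control.img_subset_iff.mpr fun u hu =>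
            mul_mem (mul_mem hs (hU'S hu)) (inv_mem hs))).congr hsU
      have himg : img h' (U : Set G) = (U' : Set G) := by rw [Cfsg.Lib.Control.img_eq_map, hh']
      have h3 : Agree (ind 𝒲 G) ⊤ (S : Subgroup G) (U : Set G) h' := hbig.mono hUP
      have h4 : img (k' * h') (U : Set G) = (U' : Set G) := by
        rw [← Cfsg.Lib.Control.img_img, himg, Cfsg.Lib.Control.img_eq_map,
          Cfsg.Lib.Transfer.map_conj_eq_self_iff.mpr hkU']
      have h5 := (h3.trans (g' := k') (by rw [himg]; exact h2)).trans (g' := h'⁻¹) (by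
        rw [h4, ← himg]; exact h3.inv)
      rwa [show h'⁻¹ * (k' * h') = k by simp [k', mul_assoc]] at h5
    intro A g hA hgA
    set U := closure A ⊔ Q
    have hUS : U ≤ (S : Subgroup G) := sup_le ((closure_le _).mpr hA) hQS
    have hgU : img g (U : Set G) ⊆ (S : Subgroup G) := by
      rw [Cfsg.Lib.Control.img_eq_map, Subgroup.map_sup]
      refine SetLike.coe_subset_coe.mpr (sup_le ?_ ?_)
      · rw [← Cfsg.Lib.Control.closure_img]; exact (closure_le _).mpr hgA
      · rw [Cfsg.Lib.Transfer.map_conj_eq_self_iff.mpr (by rw [normalizer_eq_top]; exact mem_top g)]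
        exact hQS
    obtain ⟨c, hcS, hc, hcmod⟩ := hmodQ _ g hUS hgU
    set U₂ := U.map (MulAut.conj c).toMonoidHom
    have hQU₂ : Q ≤ U₂ := fun q hq => ⟨c⁻¹ * q * c,
      mem_sup_right (by simpa using Normal.conj_mem inferInstance q hq c⁻¹), by simp [mul_assoc]⟩
    have h2 := hfix U₂ hQU₂ (fun z hz => hcS hz) (g * c⁻¹) (by
      rintro _ ⟨u, hu, rfl⟩
      show π (g * c⁻¹ * (c * u * c⁻¹) * (g * c⁻¹)⁻¹) = π (c * u * c⁻¹)
      rw [hcmod u hu]
      congr 1
      group)
    have h3 := hc.trans h2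
    rw [inv_mul_cancel_right] at h3
    exact h3.mono fun a ha => mem_sup_left (subset_closure ha)
  -- `C S < G`
  intro A g hA hgA
  set N₁ := normalizer (((S : Subgroup G) ⊓ C : Subgroup G) : Set G)
  obtain ⟨n', hn, c, hc, rfl⟩ := mem_sup_of_normal_right.mp ((sup_comm C N₁ ▸ hfr).ge (mem_top g))
  have hSN₁ : (S : Subgroup G) ≤ N₁ :=
    Cfsg.Lib.Coprime.le_normalizer_inf le_normalizer le_normalizer_of_normal
  set X := (closure A).map (MulAut.conj c).toMonoidHom
  have hXM : X ≤ M ⊓ N₁ := by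
    rintro _ ⟨u, hu, rfl⟩
    have huS : u ∈ (S : Subgroup G) := (closure_le _).mpr hA hu
    refine ⟨Subgroup.mul_mem M (Subgroup.mul_mem M (mem_sup_left hc) (mem_sup_right huS)) (Subgroup.inv_mem M (mem_sup_left hc)), ?_⟩
    have h1 : n' * c * u * (n' * c)⁻¹ ∈ (S : Subgroup G) := by
      have : (closure A).map (MulAut.conj (n' * c)).toMonoidHom ≤ (S : Subgroup G) := by
        rw [← Cfsg.Lib.Control.closure_img]; exact (closure_le _).mpr hgA
      exact this ⟨u, hu, rfl⟩
    have h2 := mul_mem (mul_mem (inv_mem hn) (hSN₁ h1)) hn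
    show c * u * c⁻¹ ∈ N₁
    simpa [mul_assoc] using h2
  have hSM' : (S : Subgroup G) ≤ M ⊓ N₁ := le_inf le_sup_right hSN₁
  obtain ⟨T, hT⟩ := (((S.2.to_le ((closure_le _).mpr hA)).map _).comap_subtype (K := M ⊓ N₁)
    : IsPGroup p (X.subgroupOf (M ⊓ N₁))).exists_le_sylow
  obtain ⟨m, hm⟩ := MulAction.exists_smul_eq (M ⊓ N₁ : Subgroup G) T (S.subtype hSM')
  have hmX : ∀ a ∈ A, (m : G) * c * a * ((m : G) * c)⁻¹ ∈ (S : Subgroup G) := by
    intro a ha
    have hx : c * a * c⁻¹ ∈ X := ⟨a, subset_closure ha, rfl⟩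
    have h5 : m * ⟨c * a * c⁻¹, hXM hx⟩ * m⁻¹ ∈ (S.subtype hSM' : Subgroup (M ⊓ N₁ : Subgroup G)) := by
      rw [← hm]
      exact Cfsg.Lib.Transfer.mem_conj_sylow_iff.mpr (hT hx)
    rw [Sylow.coe_subtype, mem_subgroupOf] at h5
    simpa [mul_assoc] using h5
  have hmA := Cfsg.Lib.Control.img_subset_iff.mpr hmX
  have h1 := agree_of_le h𝒲 S le_sup_right (ihsub M hM) (mul_mem m.2.1 (mem_sup_left hc)) hA hmA
  have h2 := agree_of_le h𝒲 S hSN₁ (ihsub N₁ hNS.2) (x := n' * (m : G)⁻¹) (mul_mem hn (inv_mem m.2.2)) hmA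
    (by rw [Cfsg.Lib.Control.img_img, show n' * (m : G)⁻¹ * ((m : G) * c) = n' * c by group]; exact hgA)
  have h3 := h1.trans h2
  rwa [show n' * (m : G)⁻¹ * ((m : G) * c) = n' * c by group] at h3

end hom

/-- the hypothesis transported from the sections `K / R` -/
theorem crit_of_sections (h𝒲 : ∀ W ∈ 𝒲, Cfsg.IsCharPFunctor.{u} p W) {G : Type u} [Group G] [Finite G]
    (h : ∀ (K R : Subgroup G) [(R.subgroupOf K).Normal],
      centralizer (Cfsg.pCore p (K ⧸ R.subgroupOf K) : Set (K ⧸ R.subgroupOf K)) ≤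
          Cfsg.pCore p (K ⧸ R.subgroupOf K) → CtrlAll p 𝒲 (K ⧸ R.subgroupOf K)) :
    ∀ (L : Type u) [Group L] [Finite L], IsSection L G →
      centralizer (Cfsg.pCore p L : Set L) ≤ Cfsg.pCore p L → CtrlAll p 𝒲 L := by
  intro L _ _ hL hc
  obtain ⟨K, R, hR, ⟨e⟩⟩ := hL.exists_quotient
  haveI := hR
  exact ctrlAll_congr h𝒲 e (h K R (charP_congr e.symm hc))

theorem ctrlAll_of_family (h𝒲 : ∀ W ∈ 𝒲, Cfsg.IsCharPFunctor.{u} p W) {G : Type u} [Group G] [Finite G]
    (h : Cfsg.FamilyControlsStrongFusionIn p (ind 𝒲 G) ⊤) : CtrlAll p 𝒲 G :=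
  fun S A g hA hgA => Cfsg.Lib.Control.agree_of_familyControls
    (fun W hW => by obtain ⟨W₀, hW₀, rfl⟩ := hW; exact isConjugacyFunctor_induced (h𝒲 W₀ hW₀))
    le_top S.2 (by rw [relIndex_top_right]; exact S.not_dvd_index) h A g (mem_top g) hA hgA

/-- a normal functor value controls everything -/
theorem ctrlAll_of_normal {W : ∀ (Q : Type u) [Group Q], Subgroup Q} {G : Type u} [Group G] [Finite G]
    (h : ∀ S : Sylow p G, (Cfsg.inducedFunctor W (S : Subgroup G)).Normal) : CtrlAll p {W} G :=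
  fun S A g hA hgA => ⟨g, Chain.single ⟨⟨_, ⟨W, rfl, rfl⟩, mem_top g, by
    rw [normalizer_eq_top_iff.mpr (h S)]; exact mem_top g⟩, hA, hgA⟩, fun _ _ => rfl⟩

theorem controlsStrongFusion_of_ctrlAll {W : ∀ (Q : Type u) [Group Q], Subgroup Q} {G : Type u} [Group G]
    [Finite G] (h : CtrlAll p {W} G) (S : Sylow p G) :
    Cfsg.ControlsStrongFusion p (Cfsg.inducedFunctor W (S : Subgroup G)) := by
  refine ⟨S, induced_le _, fun A hA => ⟨hA, fun g hgA => ?_⟩⟩
  obtain ⟨c, hc, hcg⟩ := h S A g hA hgA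
  rw [show ind ({W} : Set (∀ (Q : Type u) [Group Q], Subgroup Q)) G = {Cfsg.inducedFunctor (G := G) W} from
    Set.image_singleton] at hc
  exact ⟨c, (Cfsg.Lib.Control.chain_singleton hc).2, fun a ha => (hcg a ha).symm⟩

end Cfsg.Lib.Functor
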