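import Cfsg.Agent.Components.Functor.JReplace
import Cfsg.Agent.Components.Misc.ChiefDegree
import Cfsg.Agent.Components.KInf.Candidates
import Cfsg.Agent.Components.Sfour.WeakClosure

/-!
An abelian subgroup of largest order outside `O_p` has degree at most six on the chief factors
below `O_p`.

If `A` acts with degree three or more on `Z = Z(Q)`, `Q` a critical subgroup, the degrees are three
on `Z` and four on `Q / Z`; if `A` is quadratic on `Z` they are two and five.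
-/

set_option linter.style.haveILetI false
set_option linter.unusedSectionVars false

namespace Cfsg.Lib.JDegree

open Subgroup Cfsg.Lib.KInf
open Cfsg.Lib.Fusion (maxAb)
open scoped commutatorElement

universe u

variable {G : Type u} [Group G] [Finite G]

theorem iter_mono_right (M : Subgroup G) {B B' : Subgroup G} (h : B ≤ B') :
    ∀ i, Cfsg.iterCommutator M B i ≤ Cfsg.iterCommutator M B' i
  | 0 => le_rfl
  | i + 1 => commutator_mono (iter_mono_right M h i) h

theorem iter_normalizer' {M B : Subgroup G} (h : B ≤ normalizer (M : Set G)) :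
    ∀ i, B ≤ normalizer ((Cfsg.iterCommutator M B i : Subgroup G) : Set G)
  | 0 => h
  | i + 1 => Cfsg.Lib.Coprime.le_normalizer_commutator_right _ _

theorem iter_succ_le {M B : Subgroup G} (h : B ≤ normalizer (M : Set G)) (i : ℕ) :
    Cfsg.iterCommutator M B (i + 1) ≤ Cfsg.iterCommutator M B i :=
  le_normalizer_iff_commutator_le_left.mp (iter_normalizer' h i)

theorem iter_anti {M B : Subgroup G} (h : B ≤ normalizer (M : Set G)) {i j : ℕ} (hij : i ≤ j) :
    Cfsg.iterCommutator M B j ≤ Cfsg.iterCommutator M B i := by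
  induction j, hij using Nat.le_induction with
  | base => exact le_rfl
  | succ j _ ih => exact (iter_succ_le h j).trans ih

theorem commutator_double {c e y : G} {U : Subgroup G} (hU : IsMulCommutative U) (hce : c * e = e * c)
    (hc : ⁅c, y⁆ ∈ U) (he : ⁅e, y⁆ ∈ U) : ⁅c, ⁅e, y⁆⁆ = ⁅e, ⁅c, y⁆⁆ := by
  have h1 : ⁅c, ⁅e, y⁆⁆ = ⁅c * e, y⁆ * (⁅c, y⁆⁻¹ * ⁅e, y⁆⁻¹) := by
    simp only [commutatorElement_def]; group
  have h2 : ⁅e, ⁅c, y⁆⁆ = ⁅e * c, y⁆ * (⁅e, y⁆⁻¹ * ⁅c, y⁆⁻¹) := by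
    simp only [commutatorElement_def]; group
  rw [h1, h2, hce, comm_of hU (inv_mem hc) (inv_mem he)]

/-- the elements of `Z` sent into `W` by all commutators with `A` -/
def preimg (Z A W : Subgroup G) [Z.Normal] (hZ : IsMulCommutative Z) : Subgroup G where
  carrier := {y | y ∈ Z ∧ ∀ a ∈ A, ⁅a, y⁆ ∈ W}
  one_mem' := ⟨one_mem _, fun a _ => by simp⟩
  mul_mem' := fun {y y'} hy hy' => ⟨mul_mem hy.1 hy'.1, fun a ha => by
    have hz : ⁅a, y'⁆ ∈ Z := commutator_le_right A Z (commutator_mem_commutator ha hy'.1)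
    rw [show ⁅a, y * y'⁆ = ⁅a, y⁆ * (y * ⁅a, y'⁆ * y⁻¹) by simp only [commutatorElement_def]; group,
      comm_of hZ hy.1 hz, mul_inv_cancel_right]
    exact mul_mem (hy.2 a ha) (hy'.2 a ha)⟩
  inv_mem' := fun {y} hy => ⟨inv_mem hy.1, fun a ha => by
    have hz : ⁅a, y⁆ ∈ Z := commutator_le_right A Z (commutator_mem_commutator ha hy.1)
    rw [show ⁅a, y⁻¹⁆ = y⁻¹ * ⁅a, y⁆⁻¹ * y by simp only [commutatorElement_def]; group,
      comm_of hZ (inv_mem hy.1) (inv_mem hz), inv_mul_cancel_right]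
    exact inv_mem (hy.2 a ha)⟩

theorem mem_preimg {Z A W : Subgroup G} [Z.Normal] {hZ : IsMulCommutative Z} {y : G} :
    y ∈ preimg Z A W hZ ↔ y ∈ Z ∧ ∀ a ∈ A, ⁅a, y⁆ ∈ W := Iff.rfl

variable {p : ℕ} [Fact p.Prime]

/-- the configuration -/
structure Cfg (T P Q A : Subgroup G) : Prop where
  hT : IsPGroup p T
  hPT : P ≤ T
  hQP : Q ≤ P
  hPQ : ⁅P, Q⁆ ≤ zc Q
  hA : A ∈ maxAb T
  hAP : ¬ A ≤ P
  hmax : ∀ B ∈ maxAb T, ¬ B ≤ P →
    Nat.card ↥(B ⊓ zc Q) * (Nat.card G + 1) + Nat.card ↥(B ⊓ Q) ≤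
      Nat.card ↥(A ⊓ zc Q) * (Nat.card G + 1) + Nat.card ↥(A ⊓ Q)

theorem exists_cfg {T P Q : Subgroup G} (hT : IsPGroup p T) (hPT : P ≤ T) (hQP : Q ≤ P)
    (hPQ : ⁅P, Q⁆ ≤ zc Q) {A₀ : Subgroup G} (hA₀ : A₀ ∈ maxAb T) (hA₀P : ¬ A₀ ≤ P) :
    ∃ A, Cfg (p := p) T P Q A := by
  obtain ⟨A, ⟨hA, hAP⟩, hmax⟩ := Set.exists_max_image {B | B ∈ maxAb T ∧ ¬ B ≤ P}
    (fun B : Subgroup G => Nat.card ↥(B ⊓ zc Q) * (Nat.card G + 1) + Nat.card ↥(B ⊓ Q))
    (Set.toFinite _) ⟨A₀, hA₀, hA₀P⟩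
  exact ⟨A, hT, hPT, hQP, hPQ, hA, hAP, fun B hB hBP => hmax B ⟨hB, hBP⟩⟩

namespace Cfg

variable {T P Q A : Subgroup G} [P.Normal] [Q.Normal] (hc : Cfg (p := p) T P Q A)
include hc

local notation "Z" => zc Q

theorem zc_normal : (zc Q).Normal := inferInstanceAs (Q ⊓ centralizer (Q : Set G)).Normal

theorem zc_comm : IsMulCommutative ↥(zc Q) :=
  ⟨⟨fun x y => Subtype.ext (mem_centralizer_iff.mp y.2.2 x x.2.1)⟩⟩

theorem zc_le_T : zc Q ≤ T := ((zc_le Q).trans hc.hQP).trans hc.hPT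

theorem Q_le_T : Q ≤ T := hc.hQP.trans hc.hPT

theorem A_norm (N : Subgroup G) [N.Normal] : A ≤ normalizer (N : Set G) := le_normalizer_of_normal

theorem Q_le_centralizer : Q ≤ centralizer (zc Q : Set G) := le_centralizer_iff.mp inf_le_right

theorem cent_le : ∀ W : Subgroup G, W ≤ A ⊓ zc Q → A ⊔ Q ≤ centralizer (W : Set G) := fun _ hW =>
  sup_le ((le_centralizer_self hc.hA.2.1).trans (centralizer_le (hW.trans inf_le_left)))
    (hc.Q_le_centralizer.trans (centralizer_le (hW.trans inf_le_right)))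

/-- an extremal subgroup not inside `A` gives a replaced subgroup inside `P` -/
theorem member_le {U V : Subgroup G} (hU : IsMulCommutative U) (hV : Good A U V) (hVA : ¬ V ≤ A)
    (hUQ : U = zc Q ∨ (A ⊓ Q ≤ U ∧ U ≤ Q)) :
    V ⊔ (A ⊓ centralizer (V : Set G)) ∈ maxAb T ∧ A ⊓ centralizer (V : Set G) ≤ P := by
  have hUQ' : U ≤ Q := hUQ.elim (fun h => h.le.trans (zc_le Q)) (·.2)
  have hUT : U ≤ T := hUQ'.trans hc.Q_le_T
  have hm := Good.member hc.hA hU hUT hV
  refine ⟨hm, le_trans (le_sup_right (a := V)) ?_⟩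
  by_contra hB
  set B := V ⊔ (A ⊓ centralizer (V : Set G))
  have h := hc.hmax B hm hB
  have hVB : V ≤ B := le_sup_left
  have hlt : ∀ {X Y : Subgroup G}, X < Y → Nat.card ↥X < Nat.card ↥Y := fun {X Y} hXY =>
    lt_of_le_of_ne (Nat.le_of_dvd Nat.card_pos (card_dvd_of_le hXY.le))
      fun e => hXY.ne (eq_of_le_of_card_ge hXY.le e.ge)
  have hbound : ∀ X : Subgroup G, Nat.card ↥X < Nat.card G + 1 := fun X =>
    Nat.lt_succ_of_le (Nat.le_of_dvd Nat.card_pos (card_subgroup_dvd_card X))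
  have hnle : ∀ X : Subgroup G, V ≤ X → ¬ B ⊓ X ≤ A ⊓ X := fun X hX hle =>
    hVA ((le_inf hVB hX).trans (hle.trans inf_le_left))
  rcases hUQ with rfl | ⟨hFU, hUQ⟩
  · have h1 : A ⊓ zc Q < B ⊓ zc Q :=
      ⟨le_inf (hV.1.trans hVB) inf_le_right, hnle _ hV.2.1⟩
    have := hlt h1
    have h2 : (Nat.card ↥(A ⊓ zc Q) + 1) * (Nat.card G + 1) ≤ Nat.card ↥(B ⊓ zc Q) * (Nat.card G + 1) :=
      Nat.mul_le_mul_right _ this
    rw [add_mul, one_mul] at h2
    have := hbound (A ⊓ Q)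
    omega
  · have hF : A ⊓ Q ≤ B := ((le_inf inf_le_left hFU).trans hV.1).trans hVB
    have h1 : A ⊓ Q < B ⊓ Q := ⟨le_inf hF inf_le_right, hnle _ (hV.2.1.trans hUQ)⟩
    have h2 : A ⊓ zc Q ≤ B ⊓ zc Q := le_inf ((inf_le_inf_left _ (zc_le Q)).trans hF) inf_le_right
    have := hlt h1
    have h3 : Nat.card ↥(A ⊓ zc Q) * (Nat.card G + 1) ≤ Nat.card ↥(B ⊓ zc Q) * (Nat.card G + 1) :=
      Nat.mul_le_mul_right _ (Nat.le_of_dvd Nat.card_pos (card_dvd_of_le h2))
    omega

theorem le_fixed {W : Subgroup G} (hW : W ≤ zc Q) (h : ⁅W, A⁆ = ⊥) : W ≤ A ⊓ zc Q :=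
  fun x hx => ⟨mem_of_centralizes hc.hA (hc.zc_le_T (hW hx)) (commutator_eq_bot_iff_le_centralizer.mp h hx),
    hW hx⟩

theorem fixed_comm {W : Subgroup G} (hW : W ≤ A) : ⁅W, A⁆ = ⊥ :=
  commutator_eq_bot_iff_le_centralizer.mpr (hW.trans (le_centralizer_self hc.hA.2.1))

/-- the double commutator is a commutator with an element of `A ⊓ P`, modulo the fixed points -/
theorem double_eq {x a b : G} (hx : x ∈ zc Q) (ha : a ∈ A) (hb : b ∈ A) :
    ⁅a, ⁅b, x⁆⁆ ∈ A ⊓ zc Q ∨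
      ∃ d ∈ A ⊓ P, ∃ z ∈ A ⊓ zc Q, ⁅a, ⁅b, x⁆⁆ = ⁅d, x⁆ * z := by
  classical
  haveI := hc.zc_normal
  have hZc := hc.zc_comm
  have hwU : ∀ e ∈ A, ⁅e, x⁆ ∈ zc Q := fun e he =>
    commutator_le_right A (zc Q) (commutator_mem_commutator he hx)
  obtain ⟨hgood, hsurj⟩ := spanOf_spec hc.hA hZc hc.zc_le_T hwU
  set V := spanOf A (zc Q) x with hVdef
  have hmemV : ∀ e ∈ A, ⁅e, x⁆ ∈ V := fun e he => mem_sup_right (subset_closure ⟨e, he, rfl⟩)
  set t := ⁅a, ⁅b, x⁆⁆ with ht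
  have htV : t ∈ V := by
    rw [ht, show ⁅a, ⁅b, x⁆⁆ = ⁅a * b, x⁆ * (⁅a, x⁆⁻¹ * ⁅b, x⁆⁻¹) by
      simp only [commutatorElement_def]; group]
    exact mul_mem (hmemV _ (mul_mem ha hb)) (mul_mem (inv_mem (hmemV a ha)) (inv_mem (hmemV b hb)))
  obtain ⟨c, hcA, z, hz, htc⟩ := hsurj t htV
  by_cases hcP : c ∈ P
  · exact Or.inr ⟨c, ⟨hcA, hcP⟩, z, hz, htc⟩
  refine Or.inl ?_
  by_contra htC
  have hVZ : V ≤ zc Q := hgood.2.1
  have hAV : A ≤ normalizer (V : Set G) := by
    refine fun e he => Cfsg.Lib.Transfer.map_conj_eq_self_iff.mp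
      (eq_of_le_of_card_ge ?_ (Cfsg.Lib.Transfer.card_map_conj _ e).ge)
    rw [map_le_iff_le_comap, hVdef, spanOf, sup_le_iff, closure_le]
    refine ⟨fun y hy => ?_, fun y ⟨e', he', hy⟩ => ?_⟩
    · show e * y * e⁻¹ ∈ V
      rw [comm_of hc.hA.2.1 he hy.1, mul_inv_cancel_right]
      exact hgood.1 hy
    · show e * y * e⁻¹ ∈ V
      rw [hy, show e * ⁅e', x⁆ * e⁻¹ = ⁅e * e', x⁆ * ⁅e, x⁆⁻¹ by simp only [commutatorElement_def]; group]
      exact mul_mem (hmemV _ (mul_mem he he')) (inv_mem (hmemV e he))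
  set X : ℕ → Subgroup G := fun k => Cfsg.iterCommutator V A k
  have hXV : ∀ k, X k ≤ V := fun k => iter_anti hAV (Nat.zero_le k)
  have hXn : ∀ k, A ⊔ zc Q ≤ normalizer (X k : Set G) := fun k =>
    sup_le (iter_normalizer' hAV k)
      (((le_centralizer_self hZc).trans (centralizer_le ((hXV k).trans hVZ))).trans (centralizer_le_normalizer _))
  have ht1 : t ∈ X 1 := by
    show t ∈ ⁅V, A⁆
    rw [commutator_comm]
    exact commutator_mem_commutator ha (hmemV b hb)
  have hck : ∀ k, ⁅X k, zpowers c⁆ ≤ X (k + 2) := by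
    intro k
    induction k with
    | zero =>
      have hbase : ∀ y ∈ V, ⁅c, y⁆ ∈ X 2 := by
        have h1 : V ≤ preimg (zc Q) (zpowers c) (X 2) hZc := by
          rw [hVdef, spanOf, sup_le_iff, closure_le]
          refine ⟨fun y hy => mem_preimg.mpr ⟨hy.2, fun e he => ?_⟩, fun y ⟨e, he, hy⟩ => ?_⟩
          · rw [commutatorElement_eq_one_iff_mul_comm.mpr
              (comm_of hc.hA.2.1 (zpowers_le.mpr hcA he) hy.1)]
            exact one_mem _
          · refine mem_preimg.mpr ⟨hy ▸ hwU e he, fun e' he' => ?_⟩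
            obtain ⟨k, rfl⟩ := mem_zpowers_iff.mp he'
            subst hy
            -- reduce to the generator
            have hgen : ⁅c, ⁅e, x⁆⁆ ∈ X 2 := by
              rw [commutator_double hZc (comm_of hc.hA.2.1 hcA he) (hwU c hcA) (hwU e he)]
              have hcx : ⁅c, x⁆ = t * z⁻¹ := by rw [htc, mul_inv_cancel_right]
              rw [hcx, show ⁅e, t * z⁻¹⁆ = ⁅e, t⁆ * (t * ⁅e, z⁻¹⁆ * t⁻¹) by
                simp only [commutatorElement_def]; group,
                commutatorElement_eq_one_iff_mul_comm.mpr (comm_of hc.hA.2.1 he (inv_mem hz.1)), mul_one,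
                mul_inv_cancel, mul_one]
              show ⁅e, t⁆ ∈ ⁅X 1, A⁆
              rw [commutator_comm]
              exact commutator_mem_commutator he ht1
            let D : Subgroup G :=
              { carrier := {g | g ∈ A ∧ ⁅g, ⁅e, x⁆⁆ ∈ X 2}
                one_mem' := ⟨one_mem _, by simp⟩
                mul_mem' := fun {g g'} hg hg' => ⟨mul_mem hg.1 hg'.1, by
                  rw [show ⁅g * g', ⁅e, x⁆⁆ = g * ⁅g', ⁅e, x⁆⁆ * g⁻¹ * ⁅g, ⁅e, x⁆⁆ by
                    simp only [commutatorElement_def]; group]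
                  exact mul_mem ((mem_normalizer_iff.mp (iter_normalizer' hAV 2 hg.1) _).mp hg'.2) hg.2⟩
                inv_mem' := fun {g} hg => ⟨inv_mem hg.1, by
                  rw [show ⁅g⁻¹, ⁅e, x⁆⁆ = g⁻¹ * ⁅g, ⁅e, x⁆⁆⁻¹ * g⁻¹⁻¹ by
                    simp only [commutatorElement_def]; group]
                  exact (mem_normalizer_iff.mp (iter_normalizer' hAV 2 (inv_mem hg.1)) _).mp (inv_mem hg.2)⟩ }
            exact ((zpowers_le (H := D)).mpr ⟨hcA, hgen⟩ (zpow_mem (mem_zpowers c) k)).2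
        exact fun y hy => (mem_preimg.mp (h1 hy)).2 c (mem_zpowers c)
      show ⁅V, zpowers c⁆ ≤ X 2
      rw [commutator_comm]
      have h1 : zpowers c ≤ normalizer (X 2 : Set G) :=
        zpowers_le.mpr (iter_normalizer' hAV 2 hcA)
      refine commutator_le.mpr fun g hg y hy => ?_
      let D : Subgroup G :=
        { carrier := {g | g ∈ A ∧ ⁅g, y⁆ ∈ X 2}
          one_mem' := ⟨one_mem _, by simp⟩
          mul_mem' := fun {g g'} hg hg' => ⟨mul_mem hg.1 hg'.1, by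
            rw [show ⁅g * g', y⁆ = g * ⁅g', y⁆ * g⁻¹ * ⁅g, y⁆ by
              simp only [commutatorElement_def]; group]
            exact mul_mem ((mem_normalizer_iff.mp (iter_normalizer' hAV 2 hg.1) _).mp hg'.2) hg.2⟩
          inv_mem' := fun {g} hg => ⟨inv_mem hg.1, by
            rw [show ⁅g⁻¹, y⁆ = g⁻¹ * ⁅g, y⁆⁻¹ * g⁻¹⁻¹ by simp only [commutatorElement_def]; group]
            exact (mem_normalizer_iff.mp (iter_normalizer' hAV 2 (inv_mem hg.1)) _).mp (inv_mem hg.2)⟩ }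
      exact ((zpowers_le (H := D)).mpr ⟨hcA, hbase y hy⟩ hg).2
    | succ k ih =>
      have hcA' : zpowers c ≤ A := zpowers_le.mpr hcA
      refine rotate (((hXV k).trans hVZ).trans (le_sup_right.trans (hXn _)))
        (le_sup_left.trans (hXn _)) (hcA'.trans (le_sup_left.trans (hXn _))) ?_ ?_
      · rw [commutator_comm A, hc.fixed_comm hcA', commutator_bot_left]
        exact bot_le
      · rw [commutator_comm (zpowers c)]
        exact commutator_mono ih le_rfl
  obtain ⟨n₀, hn₀⟩ := exists_iter_eq_bot hc.hT ((hVZ).trans hc.zc_le_T)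
  have hexn : ∃ n, X n = ⊥ := ⟨n₀, le_bot_iff.mp ((iter_mono_right V hc.hA.1 n₀).trans hn₀.le)⟩
  set n := Nat.find hexn
  have hn : X n = ⊥ := Nat.find_spec hexn
  by_cases hn2 : n ≤ 2
  · refine htC (hc.le_fixed ((hXV 1).trans hVZ) ?_ ht1)
    exact le_bot_iff.mp ((iter_anti hAV hn2).trans hn.le)
  obtain ⟨m, hm⟩ : ∃ m, n = m + 3 := ⟨n - 3, by omega⟩
  have hW : ⁅A, X m⁆ ≤ zc Q := by
    rw [commutator_comm]
    exact (hXV (m + 1)).trans hVZ
  have hg2 := good_commutator hc.hA hZc hc.zc_le_T hW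
  have hnA : ¬ (A ⊓ zc Q) ⊔ ⁅A, X m⁆ ≤ A := fun h => by
    have h1 : X (m + 1) ≤ A := by
      show ⁅X m, A⁆ ≤ A
      rw [commutator_comm]
      exact le_sup_right.trans h
    exact Nat.find_min hexn (m := m + 2) (by omega) (le_bot_iff.mp ((commutator_mono h1 le_rfl).trans (hc.fixed_comm le_rfl).le))
  refine hcP ((hc.member_le hZc hg2 hnA (Or.inl rfl)).2 ⟨hcA, ?_⟩)
  refine zpowers_le.mp (le_centralizer_iff.mp (sup_le ?_ ?_))
  · exact (inf_le_left.trans (le_centralizer_self hc.hA.2.1)).trans (centralizer_le (zpowers_le.mpr hcA))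
  · rw [← commutator_eq_bot_iff_le_centralizer, commutator_comm A]
    refine le_bot_iff.mp (((hck (m + 1)).trans ?_))
    rw [show m + 1 + 2 = n by omega, hn]

/-- degree three on the layers of `Z` centralized by `P` -/
theorem cubic {U V : Subgroup G} [U.Normal] [V.Normal] (hU : U ≤ zc Q) (hV : V ≤ zc Q) (hUP : ⁅U, P⁆ ≤ V) :
    Cfsg.iterCommutator U A 3 ≤ V := by
  haveI := hc.zc_normal
  have hZc := hc.zc_comm
  have h2 : ⁅U, A⁆ ≤ preimg (zc Q) A (V ⊔ (A ⊓ zc Q)) hZc := by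
    rw [commutator_comm]
    refine commutator_le.mpr fun b hb x hx => mem_preimg.mpr
      ⟨commutator_le_right A (zc Q) (commutator_mem_commutator hb (hU hx)), fun a ha => ?_⟩
    rcases hc.double_eq (hU hx) ha hb with h | ⟨d, hd, z, hz, h⟩
    · exact mem_sup_right h
    · rw [h]
      refine mul_mem (mem_sup_left (hUP ?_)) (mem_sup_right hz)
      rw [commutator_comm]
      exact commutator_mem_commutator hd.2 hx
  have h3 : V ⊔ (A ⊓ zc Q) ≤ preimg (zc Q) A V hZc := by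
    refine sup_le (fun y hy => mem_preimg.mpr ⟨hV hy, fun a ha => ?_⟩)
      (fun y hy => mem_preimg.mpr ⟨hy.2, fun a ha => ?_⟩)
    · exact commutator_le_right A V (commutator_mem_commutator ha hy)
    · rw [commutatorElement_eq_one_iff_mul_comm.mpr (comm_of hc.hA.2.1 ha hy.1)]
      exact one_mem _
  show ⁅⁅⁅U, A⁆, A⁆, A⁆ ≤ V
  have h4 : ⁅⁅U, A⁆, A⁆ ≤ V ⊔ (A ⊓ zc Q) := by
    rw [commutator_comm]
    exact commutator_le.mpr fun a ha y hy => (mem_preimg.mp (h2 hy)).2 a ha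
  rw [commutator_comm]
  exact commutator_le.mpr fun a ha y hy => (mem_preimg.mp (h3 (h4 hy))).2 a ha

theorem le_member {V : Subgroup G} (hm : V ⊔ (A ⊓ centralizer (V : Set G)) ∈ maxAb T) {X : Subgroup G}
    (hXQ : X ≤ Q) (h1 : X ≤ centralizer (V : Set G)) (h2 : ⁅X, A ⊓ centralizer (V : Set G)⁆ = ⊥) {x : G}
    (hx : x ∈ X) : ∃ v ∈ V, ∃ k ∈ A, v * k = x ∧ (v ∈ Q → k ∈ Q) := by
  have hc' : X ≤ centralizer ((V ⊔ (A ⊓ centralizer (V : Set G)) : Subgroup G) : Set G) :=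
    le_centralizer_iff.mp (sup_le (le_centralizer_iff.mp h1)
      (le_centralizer_iff.mp (commutator_eq_bot_iff_le_centralizer.mp h2)))
  have hx' : x ∈ ((V ⊔ (A ⊓ centralizer (V : Set G)) : Subgroup G) : Set G) :=
    mem_of_centralizes hm (hc.Q_le_T (hXQ hx)) (hc' hx)
  rw [coe_mul_of_right_le_normalizer_left _ _ (inf_le_right.trans (centralizer_le_normalizer _))] at hx'
  obtain ⟨v, hv, k, hk, hvk⟩ := hx'
  refine ⟨v, hv, k, hk.1, hvk, fun hvQ => ?_⟩
  have : k = v⁻¹ * x := by rw [← hvk]; group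
  rw [this]
  exact mul_mem (inv_mem hvQ) (hXQ hx)

theorem comm_PQ {W : Subgroup G} (hW : W ≤ P) : ⁅W, Q⁆ ≤ zc Q := (commutator_mono hW le_rfl).trans hc.hPQ

/-- degree four on `Q` modulo `Z` when `A` is not quadratic on `Z` -/
theorem degree_four (h : ⁅⁅zc Q, A⁆, A⁆ ≠ ⊥) : Cfsg.iterCommutator Q A 4 ≤ zc Q := by
  haveI := hc.zc_normal
  have hZc := hc.zc_comm
  have hg := good_commutator hc.hA hZc hc.zc_le_T (W := zc Q) (commutator_le_right A (zc Q))
  set E := (A ⊓ zc Q) ⊔ ⁅A, zc Q⁆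
  have hEA : ¬ E ≤ A := fun hle => h (by
    refine le_bot_iff.mp ((commutator_mono ?_ le_rfl).trans (hc.fixed_comm (W := A) le_rfl).le)
    rw [commutator_comm]
    exact le_sup_right.trans hle)
  obtain ⟨hm, hKP⟩ := hc.member_le hZc hg hEA (Or.inl rfl)
  set K := A ⊓ centralizer (E : Set G) with hK
  have hEZ : E ≤ zc Q := hg.2.1
  -- `[Z, K]` is fixed by `A`
  have hZK : ⁅zc Q, K⁆ ≤ A ⊓ zc Q := by
    refine hc.le_fixed (commutator_le_left _ _) (commutator_commutator_eq_bot_of_rotate ?_ ?_)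
    · rw [hc.fixed_comm inf_le_left, commutator_bot_left]
    · rw [commutator_eq_bot_iff_le_centralizer]
      exact (le_sup_right : ⁅A, zc Q⁆ ≤ E).trans (le_centralizer_iff.mp inf_le_right)
  have hnormC : A ⊔ Q ≤ normalizer ((A ⊓ zc Q : Subgroup G) : Set G) :=
    (hc.cent_le _ le_rfl).trans (centralizer_le_normalizer _)
  have hKQ : ⁅K, Q⁆ ≤ zc Q := hc.comm_PQ hKP
  have hKQD : ⁅⁅K, Q⁆, A ⊓ P⁆ ≤ A ⊓ zc Q := by
    refine rotate (inf_le_left.trans (le_sup_left.trans hnormC)) (le_sup_right.trans hnormC)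
      (inf_le_left.trans (le_sup_left.trans hnormC)) ?_ ?_
    · refine le_trans (commutator_mono ?_ le_rfl) hZK
      rw [commutator_comm]
      exact hc.comm_PQ inf_le_right
    · rw [show ⁅A ⊓ P, K⁆ = ⊥ from le_bot_iff.mp
        ((commutator_mono inf_le_left inf_le_left).trans (hc.fixed_comm le_rfl).le), commutator_bot_left]
      exact bot_le
  -- double commutators of `[K, Q]` are fixed
  have hdd : ⁅⁅⁅K, Q⁆, A⁆, A⁆ ≤ A ⊓ zc Q := by
    have h2 : ⁅⁅K, Q⁆, A⁆ ≤ preimg (zc Q) A (A ⊓ zc Q) hZc := by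
      rw [commutator_comm]
      refine commutator_le.mpr fun b hb v hv => mem_preimg.mpr
        ⟨commutator_le_right A (zc Q) (commutator_mem_commutator hb (hKQ hv)), fun a ha => ?_⟩
      rcases hc.double_eq (hKQ hv) ha hb with h | ⟨d, hd, z, hz, h⟩
      · exact h
      · rw [h]
        refine mul_mem (hKQD ?_) hz
        rw [commutator_comm]
        exact commutator_mem_commutator hd hv
    rw [commutator_comm]
    exact commutator_le.mpr fun a ha y hy => (mem_preimg.mp (h2 hy)).2 a ha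
  set Y : ℕ → Subgroup G := fun k => Cfsg.iterCommutator ⁅K, Q⁆ A k
  have hAn : A ≤ normalizer ((⁅K, Q⁆ : Subgroup G) : Set G) := fun a ha => by
    have h1 : A ≤ normalizer (K : Set G) :=
      ((le_centralizer_self hc.hA.2.1).trans (centralizer_le inf_le_left)).trans (centralizer_le_normalizer _)
    refine Cfsg.Lib.Transfer.map_conj_eq_self_iff.mp ?_
    rw [map_commutator, Cfsg.Lib.Transfer.map_conj_eq_self_iff.mpr (h1 ha),
      Cfsg.Lib.Transfer.map_conj_eq_self_iff.mpr (hc.A_norm Q ha)]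
  have hYZ : ∀ k, Y k ≤ zc Q := fun k => (iter_anti hAn (Nat.zero_le k)).trans hKQ
  have hYn : ∀ k, A ⊔ Q ≤ normalizer (Y k : Set G) := fun k =>
    sup_le (iter_normalizer' hAn k)
      ((hc.Q_le_centralizer.trans (centralizer_le (hYZ k))).trans (centralizer_le_normalizer _))
  set X : ℕ → Subgroup G := fun k => Cfsg.iterCommutator Q A k
  have hXQ : ∀ k, X k ≤ Q := fun k => iter_anti (hc.A_norm Q) (Nat.zero_le k)
  have hKX : ∀ k, ⁅K, X k⁆ ≤ Y k := by
    intro k
    induction k with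
    | zero => exact le_rfl
    | succ k ih =>
      rw [commutator_comm]
      refine rotate ((hXQ k).trans (le_sup_right.trans (hYn _))) (le_sup_left.trans (hYn _))
        (inf_le_left.trans (le_sup_left.trans (hYn _))) ?_ (commutator_mono ih le_rfl)
      rw [commutator_comm A, hc.fixed_comm inf_le_left, commutator_bot_left]
      exact bot_le
  have hX3K : ⁅X 3, K⁆ = ⊥ := by
    rw [commutator_comm]
    exact le_bot_iff.mp ((hKX 3).trans ((commutator_mono hdd le_rfl).trans (hc.fixed_comm inf_le_left).le))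
  show ⁅X 3, A⁆ ≤ zc Q
  refine commutator_le.mpr fun x hx a ha => ?_
  obtain ⟨v, hv, k, hk, rfl, -⟩ := hc.le_member hm (hXQ 3)
    ((hXQ 3).trans (hc.Q_le_centralizer.trans (centralizer_le hEZ))) hX3K hx
  rw [show ⁅v * k, a⁆ = v * ⁅k, a⁆ * v⁻¹ * ⁅v, a⁆ by simp only [commutatorElement_def]; group,
    commutatorElement_eq_one_iff_mul_comm.mpr (comm_of hc.hA.2.1 hk ha), mul_one, mul_inv_cancel, one_mul]
  exact commutator_le_left (zc Q) A (commutator_mem_commutator (hEZ hv) ha)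

/-- degree five on `Q` when `A` is quadratic on `Z` -/
theorem degree_five (h : ⁅⁅zc Q, A⁆, A⁆ = ⊥) : Cfsg.iterCommutator Q A 5 = ⊥ := by
  classical
  haveI := hc.zc_normal
  set X : ℕ → Subgroup G := fun k => Cfsg.iterCommutator Q A k
  have hXQ : ∀ k, X k ≤ Q := fun k => iter_anti (hc.A_norm Q) (Nat.zero_le k)
  have hZA : ⁅zc Q, A⁆ ≤ A ⊓ zc Q := hc.le_fixed (commutator_le_left _ _) h
  have hnC : A ⊔ Q ≤ normalizer ((A ⊓ zc Q : Subgroup G) : Set G) :=
    (hc.cent_le _ le_rfl).trans (centralizer_le_normalizer _)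
  have hnbot : ∀ W : Subgroup G, W ≤ normalizer ((⊥ : Subgroup G) : Set G) := fun W => by
    rw [normalizer_eq_top]; exact le_top
  -- subgroups of `A` commuting with `Q` modulo `Z`
  have small : ∀ W : Subgroup G, W ≤ A → ⁅W, Q⁆ ≤ zc Q →
      ∀ s, (1 ≤ s → ⁅W, X s⁆ ≤ A ⊓ zc Q) ∧ (2 ≤ s → ⁅W, X s⁆ = ⊥) := by
    intro W hWA hWQ s
    induction s with
    | zero => exact ⟨fun h => absurd h (by omega), fun h => absurd h (by omega)⟩
    | succ s ih =>
      refine ⟨fun _ => ?_, fun hs => le_bot_iff.mp ?_⟩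
      · rw [commutator_comm]
        refine rotate ((hXQ s).trans (le_sup_right.trans hnC)) (le_sup_left.trans hnC)
          (hWA.trans (le_sup_left.trans hnC)) ?_ ?_
        · rw [commutator_comm A, hc.fixed_comm hWA, commutator_bot_left]
          exact bot_le
        · exact (commutator_mono ((commutator_mono le_rfl (hXQ s)).trans hWQ) le_rfl).trans hZA
      · rw [commutator_comm]
        refine rotate (hnbot _) (hnbot _) (hnbot _) ?_ ?_
        · rw [commutator_comm A, hc.fixed_comm hWA, commutator_bot_left]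
        · exact (commutator_mono (ih.1 (by omega)) le_rfl).trans (hc.fixed_comm inf_le_left).le
  obtain ⟨n₀, hn₀⟩ := exists_iter_eq_bot hc.hT hc.Q_le_T
  have hexn : ∃ n, X n = ⊥ := ⟨n₀, le_bot_iff.mp ((iter_mono_right Q hc.hA.1 n₀).trans hn₀.le)⟩
  set n := Nat.find hexn
  have hn : X n = ⊥ := Nat.find_spec hexn
  by_contra h5
  have hn6 : 6 ≤ n := by
    by_contra hlt
    exact h5 (le_bot_iff.mp ((iter_anti (hc.A_norm Q) (show n ≤ 5 by omega)).trans hn.le))
  obtain ⟨m, hm⟩ : ∃ m, n = m + 3 := ⟨n - 3, by omega⟩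
  have hlast : X (m + 2) ≤ A ⊓ Q := fun x hx => ⟨mem_of_centralizes hc.hA (hc.Q_le_T (hXQ _ hx))
    (commutator_eq_bot_iff_le_centralizer.mp (show ⁅X (m + 2), A⁆ = ⊥ from by rw [← hn, hm]; rfl) hx),
    hXQ _ hx⟩
  have hFQ : ⁅A ⊓ Q, Q⁆ ≤ zc Q := hc.comm_PQ (inf_le_right.trans hc.hQP)
  have hF := small (A ⊓ Q) inf_le_left hFQ
  set Y := X (m + 1)
  have hYA : ⁅Y, A⁆ ≤ A ⊓ Q := hlast
  have hQQ : ∀ s, ⁅Y, X s⁆ ≤ zc Q := fun s =>
    (commutator_mono ((hXQ _).trans hc.hQP) (hXQ s)).trans hc.hPQ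
  have hY : ∀ s, (2 ≤ s → ⁅Y, X s⁆ ≤ A ⊓ zc Q) ∧ (3 ≤ s → ⁅Y, X s⁆ = ⊥) := by
    intro s
    induction s with
    | zero => exact ⟨fun h => absurd h (by omega), fun h => absurd h (by omega)⟩
    | succ s ih =>
      refine ⟨fun hs => ?_, fun hs => le_bot_iff.mp ?_⟩
      · rw [commutator_comm]
        refine rotate ((hXQ s).trans (le_sup_right.trans hnC)) (le_sup_left.trans hnC)
          ((hXQ _).trans (le_sup_right.trans hnC)) ?_ ?_
        · rw [commutator_comm A]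
          exact (commutator_mono hYA le_rfl).trans ((hF s).1 (by omega))
        · exact (commutator_mono (hQQ s) le_rfl).trans hZA
      · rw [commutator_comm]
        refine rotate (hnbot _) (hnbot _) (hnbot _) ?_ ?_
        · rw [commutator_comm A]
          exact (commutator_mono hYA le_rfl).trans ((hF s).2 (by omega)).le
        · exact (commutator_mono (ih.1 (by omega)) le_rfl).trans (hc.fixed_comm inf_le_left).le
  have hY3 : Y ≤ X 3 := iter_anti (hc.A_norm Q) (show 3 ≤ m + 1 by omega)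
  have hYY : IsMulCommutative ↥Y := comm_of_le_centralizer
    (commutator_eq_bot_iff_le_centralizer.mp
      (le_bot_iff.mp ((commutator_mono le_rfl hY3).trans ((hY 3).2 le_rfl).le)))
  have hUc : IsMulCommutative ↥((A ⊓ Q) ⊔ Y) := by
    refine abelian_sup (abelian_of_le hc.hA.2.1 inf_le_left) hYY ?_
    rw [← commutator_eq_bot_iff_le_centralizer, commutator_comm]
    exact (hF (m + 1)).2 (by omega)
  set U := (A ⊓ Q) ⊔ Y with hU
  have hUQ : U ≤ Q := sup_le inf_le_right (hXQ _)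
  have hFU : A ⊓ U = A ⊓ Q :=
    le_antisymm (inf_le_inf_left _ hUQ) (le_inf inf_le_left le_sup_left)
  have hW : ⁅A, X m⁆ = Y := commutator_comm _ _
  have hg := good_commutator hc.hA hUc (hUQ.trans hc.Q_le_T) (W := X m) (hW ▸ le_sup_right)
  rw [hFU, hW, ← hU] at hg
  have hUA : ¬ U ≤ A := fun hle =>
    Nat.find_min hexn (m := m + 2) (by omega)
      (le_bot_iff.mp ((commutator_mono (le_sup_right.trans hle) le_rfl).trans (hc.fixed_comm le_rfl).le))
  obtain ⟨hm', hKP⟩ := hc.member_le hUc hg hUA (Or.inr ⟨le_sup_left, hUQ⟩)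
  set K := A ⊓ centralizer (U : Set G)
  have hX3K : ⁅X 3, K⁆ = ⊥ := by
    rw [commutator_comm]
    exact (small K inf_le_left (hc.comm_PQ hKP) 3).2 (by omega)
  have hX3U : X 3 ≤ centralizer (U : Set G) := by
    refine le_centralizer_iff.mp (sup_le ?_ ?_)
    · exact commutator_eq_bot_iff_le_centralizer.mp ((hF 3).2 (by omega))
    · exact commutator_eq_bot_iff_le_centralizer.mp ((hY 3).2 le_rfl)
  have hX3 : X 3 ≤ U := fun x hx => by
    obtain ⟨v, hv, k, hk, rfl, hkQ⟩ := hc.le_member hm' (hXQ 3) hX3U hX3K hx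
    exact mul_mem hv (mem_sup_left ⟨hk, hkQ (hUQ hv)⟩)
  have hX4 : X 4 ≤ A ⊓ Q := by
    show ⁅X 3, A⁆ ≤ A ⊓ Q
    refine commutator_le.mpr fun x hx a ha => ?_
    have hx' : x ∈ ((U : Subgroup G) : Set G) := hX3 hx
    rw [hU, sup_comm, coe_mul_of_right_le_normalizer_left _ _ ?hn] at hx'
    case hn =>
      refine le_trans ?_ (centralizer_le_normalizer _)
      rw [← commutator_eq_bot_iff_le_centralizer]
      exact (hF (m + 1)).2 (by omega)
    obtain ⟨y, hy, f, hf, rfl⟩ := hx'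
    rw [show ⁅y * f, a⁆ = y * ⁅f, a⁆ * y⁻¹ * ⁅y, a⁆ by simp only [commutatorElement_def]; group,
      commutatorElement_eq_one_iff_mul_comm.mpr (comm_of hc.hA.2.1 hf.1 ha), mul_one, mul_inv_cancel,
      one_mul]
    exact hYA (commutator_mem_commutator hy ha)
  exact h5 (le_bot_iff.mp ((commutator_mono hX4 le_rfl).trans (hc.fixed_comm inf_le_left).le))

end Cfg

theorem chief_centralized {P U V : Subgroup G} [P.Normal] (hP : IsPGroup p P) (hUV : Cfsg.IsChiefFactor U V)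
    (hUP : U ≤ P) : ⁅U, P⁆ ≤ V := by
  obtain ⟨hlt, hUn, hVn, hmin⟩ := hUV
  haveI := hUn
  haveI := hVn
  rcases hmin (⁅U, P⁆ ⊔ V) inferInstance le_sup_right (sup_le (commutator_le_left U P) hlt.le) with h | h
  · exact le_sup_left.trans h.le
  · exfalso
    set π := QuotientGroup.mk' V with hπ
    have hst : ∀ n, Cfsg.iterCommutator (U.map π) (P.map π) n = U.map π := by
      intro n
      induction n with
      | zero => rfl
      | succ n ih =>
        show ⁅Cfsg.iterCommutator (U.map π) (P.map π) n, P.map π⁆ = _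
        rw [ih, ← map_commutator]
        conv_rhs => rw [← h, Subgroup.map_sup, hπ, QuotientGroup.map_mk'_self, sup_bot_eq]
    obtain ⟨n, hn⟩ := exists_iter_eq_bot hP hUP
    have := hst n
    rw [← iter_map, hn, Subgroup.map_bot] at this
    rw [eq_comm, Subgroup.map_eq_bot_iff, hπ, QuotientGroup.ker_mk'] at this
    exact hlt.not_ge this

/-- an element of degree six outside `O_p` when `J(S)` is not normal -/
theorem exists_degree_six (S : Sylow p G)
    (hn : ¬ (Cfsg.thompsonSubgroupAOf (S : Subgroup G)).Normal) :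
    ∃ g : G, g ∈ (S : Subgroup G) ∧ g ∉ Cfsg.pCore p G ∧
      ∀ U V : Subgroup G, Cfsg.IsChiefFactor U V → U ≤ Cfsg.pCore p G →
        Cfsg.iterCommutator U (zpowers g) 6 ≤ V := by
  obtain ⟨Q, hQn, hQP, -, hPQ, hCQ⟩ := Cfsg.Lib.KInf.exists_critical_image (G := G) p
  haveI := hQn
  set P := Cfsg.pCore p G
  have hPp : IsPGroup p P := Cfsg.Lib.Components.isPGroup_pCore p
  have hPS : P ≤ (S : Subgroup G) := Cfsg.Lib.Thompson.le_sylow_of_normal hPp S
  obtain ⟨A₀, hA₀, hA₀P⟩ := Cfsg.Lib.JWeak.exists_not_le (p := p) (H := ⊤) le_top S.2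
    (by rw [relIndex_top_right]; exact S.not_dvd_index)
    (fun h => hn (normalizer_eq_top_iff.mp (top_le_iff.mp h)))
  have hA₀P' : ¬ A₀ ≤ P := fun h => hA₀P (by
    rw [Cfsg.pCoreOf, show (⊤ : Subgroup G).subtype = (Subgroup.topEquiv : ↥(⊤ : Subgroup G) ≃* G).toMonoidHom from rfl,
      Cfsg.Lib.Components.pCore_map_equiv]
    exact h)
  obtain ⟨A, hc⟩ := exists_cfg S.2 hPS hQP hPQ hA₀ hA₀P'
  haveI := hc.zc_normal
  obtain ⟨g, hgA, hgP⟩ := SetLike.not_le_iff_exists.mp hc.hAP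
  have hgB : zpowers g ≤ A := zpowers_le.mpr hgA
  refine ⟨g, hc.hA.1 hgA, hgP, fun U V hUV hUP => ?_⟩
  by_cases hq : ⁅⁅zc Q, A⁆, A⁆ = ⊥
  · refine Cfsg.Lib.Misc.ChiefDegree.degree_chief hPp hQP hPQ hCQ g (i := 5) (j := 2) (by norm_num)
      (by norm_num) (fun U' V' _ hU' => ?_) (fun U' V' _ hU' => ?_) hUV hUP
    · refine le_trans ?_ bot_le
      refine (Cfsg.Lib.Degree.iterCommutator_mono hU' _ 5).trans ?_
      exact (iter_mono_right Q hgB 5).trans (hc.degree_five hq).le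
    · refine le_trans ?_ bot_le
      refine (Cfsg.Lib.Degree.iterCommutator_mono hU' _ 2).trans ?_
      exact (iter_mono_right (zc Q) hgB 2).trans hq.le
  · have hcub : ∀ U' V' : Subgroup G, Cfsg.IsChiefFactor U' V' → U' ≤ zc Q →
        Cfsg.iterCommutator U' (zpowers g) 3 ≤ V' := fun U' V' h hU' => by
      haveI := h.2.1
      haveI := h.2.2.1
      exact (iter_mono_right U' hgB 3).trans (hc.cubic hU' (h.1.le.trans hU')
        (chief_centralized hPp h ((hU'.trans (zc_le Q)).trans hQP)))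
    refine Cfsg.Lib.Misc.ChiefDegree.degree_chief hPp hQP hPQ hCQ g (i := 4) (j := 3) (by norm_num)
      (by norm_num) (fun U' V' h hU' => ?_) hcub hUV hUP
    obtain ⟨hlt, hUn, hVn, hmin⟩ := id h
    haveI := hUn
    haveI := hVn
    rcases hmin ((U' ⊓ zc Q) ⊔ V') inferInstance le_sup_right (sup_le inf_le_left hlt.le) with h' | h'
    · refine le_trans (le_inf (Cfsg.Lib.Misc.ChiefDegree.iter_le_self U' _ 4) ?_) (le_sup_left.trans h'.le)
      exact ((Cfsg.Lib.Degree.iterCommutator_mono hU' _ 4).trans (iter_mono_right Q hgB 4)).trans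
        (hc.degree_four hq)
    · refine Cfsg.Lib.Misc.ChiefDegree.iter_le_of_le (show 3 ≤ 4 by norm_num)
        (iter_le_of_le_sup g h'.ge ?_)
      refine ((iter_mono_right _ hgB 3).trans (hc.cubic (U := U' ⊓ zc Q) (V := V' ⊓ zc Q) inf_le_right
        inf_le_right ?_)).trans inf_le_left
      exact le_inf ((commutator_mono inf_le_left le_rfl).trans (chief_centralized hPp h (hU'.trans hQP)))
        ((commutator_mono inf_le_right le_rfl).trans (commutator_le_left (zc Q) P))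

end Cfsg.Lib.JDegree
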