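import Cfsg.Agent.Fusion.Replacement
import Cfsg.Agent.Coprime.Sylow

/-!
Extremal subgroups of an abelian group `U` with respect to an abelian subgroup `A` of largest order
(the replacement of Thompson and Timmesfeld).
-/

set_option linter.style.haveILetI false
set_option linter.unusedSectionVars false

namespace Cfsg.Lib.JDegree

open Subgroup
open Cfsg.Lib.Fusion (maxAb)
open scoped commutatorElement

universe u

variable {G : Type u} [Group G] [Finite G]

/-- the three subgroup lemma modulo a subgroup normalized by all three -/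
theorem rotate {X Y W N : Subgroup G} (hX : X ≤ normalizer (N : Set G)) (hY : Y ≤ normalizer (N : Set G))
    (hW : W ≤ normalizer (N : Set G)) (h1 : ⁅⁅Y, W⁆, X⁆ ≤ N) (h2 : ⁅⁅W, X⁆, Y⁆ ≤ N) :
    ⁅⁅X, Y⁆, W⁆ ≤ N := by
  set H := normalizer (N : Set G)
  haveI : (N.subgroupOf H).Normal := normal_subgroupOf_of_le_normalizer le_rfl
  set π := QuotientGroup.mk' (N.subgroupOf H)
  have key : ∀ A B C : Subgroup G, A ≤ H → B ≤ H → C ≤ H →
      (⁅⁅A, B⁆, C⁆ ≤ N ↔
        ⁅⁅(A.subgroupOf H).map π, (B.subgroupOf H).map π⁆, (C.subgroupOf H).map π⁆ = ⊥) := by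
    intro A B C hA hB hC
    rw [← map_commutator, ← map_commutator, Subgroup.map_eq_bot_iff, QuotientGroup.ker_mk',
      show N.subgroupOf H = N.comap H.subtype from rfl, ← map_le_iff_le_comap, map_commutator, map_commutator,
      map_subgroupOf_eq_of_le hA, map_subgroupOf_eq_of_le hB, map_subgroupOf_eq_of_le hC]
  exact (key X Y W hX hY hW).mpr
    (commutator_commutator_eq_bot_of_rotate ((key Y W X hY hW hX).mp h1) ((key W X Y hW hX hY).mp h2))

theorem comm_of {H : Subgroup G} (hH : IsMulCommutative H) {x y : G} (hx : x ∈ H) (hy : y ∈ H) :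
    x * y = y * x :=
  congrArg Subtype.val (hH.is_comm.comm ⟨x, hx⟩ ⟨y, hy⟩)

theorem le_centralizer_self {H : Subgroup G} (hH : IsMulCommutative H) : H ≤ centralizer (H : Set G) :=
  fun _ hx => mem_centralizer_iff.mpr fun _ hy => comm_of hH hy hx

theorem comm_of_le_centralizer {H : Subgroup G} (h : H ≤ centralizer (H : Set G)) : IsMulCommutative H :=
  ⟨⟨fun x y => Subtype.ext (mem_centralizer_iff.mp (h y.2) x x.2)⟩⟩

theorem abelian_sup {H K : Subgroup G} (hH : IsMulCommutative H) (hK : IsMulCommutative K)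
    (hHK : K ≤ centralizer (H : Set G)) : IsMulCommutative ↥(H ⊔ K) := by
  refine comm_of_le_centralizer (sup_le ?_ ?_)
  · exact le_centralizer_iff.mp (sup_le (le_centralizer_self hH) hHK)
  · exact le_centralizer_iff.mp (sup_le (le_centralizer_iff.mp hHK) (le_centralizer_self hK))

theorem abelian_of_le {H K : Subgroup G} (hK : IsMulCommutative K) (h : H ≤ K) : IsMulCommutative H :=
  comm_of_le_centralizer fun _ hx => mem_centralizer_iff.mpr fun _ hy => comm_of hK (h hy) (h hx)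

section

variable {T A : Subgroup G} (hA : A ∈ maxAb T)
include hA

/-- a maximal abelian subgroup is self-centralizing -/
theorem mem_of_centralizes {x : G} (hxT : x ∈ T) (hx : x ∈ centralizer (A : Set G)) : x ∈ A := by
  have hab : IsMulCommutative ↥(A ⊔ zpowers x) :=
    abelian_sup hA.2.1 inferInstance (zpowers_le.mpr hx)
  have h := hA.2.2 _ (sup_le hA.1 (zpowers_le.mpr hxT)) hab
  have he : A = A ⊔ zpowers x := eq_of_le_of_card_ge le_sup_left h
  rw [he]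
  exact mem_sup_right (mem_zpowers x)

/-- `V` is extremal in `U` with respect to `A` -/
def Good (A U V : Subgroup G) : Prop :=
  A ⊓ U ≤ V ∧ V ≤ U ∧
    Nat.card ↥A * Nat.card ↥(A ⊓ U) ≤ Nat.card ↥V * Nat.card ↥(A ⊓ centralizer (V : Set G))

variable {U : Subgroup G} (hU : IsMulCommutative U) (hUT : U ≤ T)
include hU hUT

theorem card_eq_of {V : Subgroup G} (h1 : A ⊓ U ≤ V) (h2 : V ≤ U) :
    IsMulCommutative ↥(V ⊔ (A ⊓ centralizer (V : Set G))) ∧
    V ⊔ (A ⊓ centralizer (V : Set G)) ≤ T ∧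
    Nat.card ↥(V ⊔ (A ⊓ centralizer (V : Set G))) * Nat.card ↥(A ⊓ U) =
      Nat.card ↥V * Nat.card ↥(A ⊓ centralizer (V : Set G)) := by
  have hinf : V ⊓ (A ⊓ centralizer (V : Set G)) = A ⊓ U :=
    le_antisymm (le_inf (inf_le_right.trans inf_le_left) (inf_le_left.trans h2))
      (le_inf h1 (le_inf inf_le_left (inf_le_right.trans ((le_centralizer_self hU).trans (centralizer_le h2)))))
  refine ⟨abelian_sup (abelian_of_le hU h2) (abelian_of_le hA.2.1 inf_le_left) inf_le_right,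
    sup_le (h2.trans hUT) (inf_le_left.trans hA.1), ?_⟩
  rw [← hinf]
  exact Cfsg.Lib.Coprime.card_sup_mul_card_inf (inf_le_right.trans (centralizer_le_normalizer _))

theorem card_le {V : Subgroup G} (h1 : A ⊓ U ≤ V) (h2 : V ≤ U) :
    Nat.card ↥V * Nat.card ↥(A ⊓ centralizer (V : Set G)) ≤ Nat.card ↥A * Nat.card ↥(A ⊓ U) := by
  obtain ⟨hab, hle, hc⟩ := card_eq_of hA hU hUT h1 h2
  rw [← hc]
  exact Nat.mul_le_mul_right _ (hA.2.2 _ hle hab)

theorem Good.member {V : Subgroup G} (h : Good A U V) :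
    V ⊔ (A ⊓ centralizer (V : Set G)) ∈ maxAb T := by
  obtain ⟨hab, hle, hc⟩ := card_eq_of hA hU hUT h.1 h.2.1
  refine ⟨hle, hab, fun B hB hB' => (hA.2.2 B hB hB').trans ?_⟩
  have := h.2.2
  rw [← hc] at this
  exact Nat.le_of_mul_le_mul_right this Nat.card_pos

theorem good_bot : Good A U (A ⊓ U) := by
  refine ⟨le_rfl, inf_le_right, ?_⟩
  have h : A ⊓ centralizer ((A ⊓ U : Subgroup G) : Set G) = A :=
    inf_eq_left.mpr ((le_centralizer_self hA.2.1).trans (centralizer_le inf_le_left))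
  rw [h, mul_comm]

theorem good_sup {V W : Subgroup G} (hV : Good A U V) (hW : Good A U W) : Good A U (V ⊔ W) := by
  refine ⟨hV.1.trans le_sup_left, sup_le hV.2.1 hW.2.1, ?_⟩
  have hWn : W ≤ normalizer (V : Set G) :=
    ((hW.2.1.trans (le_centralizer_self hU)).trans (centralizer_le hV.2.1)).trans (centralizer_le_normalizer _)
  have hVW := Cfsg.Lib.Coprime.card_sup_mul_card_inf hWn
  have hKn : A ⊓ centralizer (W : Set G) ≤ normalizer ((A ⊓ centralizer (V : Set G) : Subgroup G) : Set G) :=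
    (inf_le_left.trans ((le_centralizer_self hA.2.1).trans (centralizer_le inf_le_left))).trans
      (centralizer_le_normalizer _)
  have hK := Cfsg.Lib.Coprime.card_sup_mul_card_inf hKn
  have hKle : (A ⊓ centralizer (V : Set G)) ⊔ (A ⊓ centralizer (W : Set G)) ≤
      A ⊓ centralizer ((V ⊓ W : Subgroup G) : Set G) :=
    sup_le (inf_le_inf_left _ (centralizer_le inf_le_left)) (inf_le_inf_left _ (centralizer_le inf_le_right))
  have hKge : (A ⊓ centralizer (V : Set G)) ⊓ (A ⊓ centralizer (W : Set G)) ≤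
      A ⊓ centralizer ((V ⊔ W : Subgroup G) : Set G) :=
    le_inf (inf_le_left.trans inf_le_left)
      (le_centralizer_iff.mp (sup_le (le_centralizer_iff.mp (inf_le_left.trans inf_le_right))
        (le_centralizer_iff.mp (inf_le_right.trans inf_le_right))))
  have h0 := card_le hA hU hUT (V := V ⊓ W) (le_inf hV.1 hW.1) (inf_le_left.trans hV.2.1)
  have hc1 := Nat.le_of_dvd Nat.card_pos (card_dvd_of_le hKle)
  have hc2 := Nat.le_of_dvd Nat.card_pos (card_dvd_of_le hKge)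
  have hpos : 0 < Nat.card ↥A * Nat.card ↥(A ⊓ U) := Nat.mul_pos Nat.card_pos Nat.card_pos
  refine Nat.le_of_mul_le_mul_right ?_ hpos
  calc Nat.card ↥A * Nat.card ↥(A ⊓ U) * (Nat.card ↥A * Nat.card ↥(A ⊓ U))
      ≤ (Nat.card ↥V * Nat.card ↥(A ⊓ centralizer (V : Set G))) *
          (Nat.card ↥W * Nat.card ↥(A ⊓ centralizer (W : Set G))) := Nat.mul_le_mul hV.2.2 hW.2.2
    _ = (Nat.card ↥(V ⊔ W) * Nat.card ↥((A ⊓ centralizer (V : Set G)) ⊓ (A ⊓ centralizer (W : Set G)))) *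
          (Nat.card ↥(V ⊓ W) *
            Nat.card ↥((A ⊓ centralizer (V : Set G)) ⊔ (A ⊓ centralizer (W : Set G)))) := by
        rw [mul_mul_mul_comm, ← hVW, ← hK]; ring
    _ ≤ (Nat.card ↥(V ⊔ W) * Nat.card ↥(A ⊓ centralizer ((V ⊔ W : Subgroup G) : Set G))) *
          (Nat.card ↥A * Nat.card ↥(A ⊓ U)) :=
        Nat.mul_le_mul (Nat.mul_le_mul_left _ hc2) ((Nat.mul_le_mul_left _ hc1).trans h0)

/-- the subgroup belonging to one element -/
def spanOf (A U : Subgroup G) (w : G) : Subgroup G := (A ⊓ U) ⊔ closure {z | ∃ a ∈ A, z = ⁅a, w⁆}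

/-- one element gives an extremal subgroup, all of which is `⁅A, w⁆ (A ⊓ U)` -/
theorem spanOf_spec {w : G} (hw : ∀ a ∈ A, ⁅a, w⁆ ∈ U) :
    Good A U (spanOf A U w) ∧
      ∀ z ∈ spanOf A U w, ∃ a ∈ A, ∃ f ∈ A ⊓ U, z = ⁅a, w⁆ * f := by
  classical
  set V := spanOf A U w with hVdef
  set K := A ⊓ centralizer (V : Set G)
  have hV1 : A ⊓ U ≤ V := le_sup_left
  have hV2 : V ≤ U := sup_le inf_le_right ((closure_le _).mpr fun z ⟨a, ha, e⟩ => e ▸ hw a ha)
  have hmemV : ∀ a ∈ A, ⁅a, w⁆ ∈ V := fun a ha => mem_sup_right (subset_closure ⟨a, ha, rfl⟩)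
  have hUc : ∀ {x y : G}, x ∈ U → y ∈ U → x * y = y * x := fun hx hy => comm_of hU hx hy
  -- equal values force the quotient into `K`
  have hker : ∀ a ∈ A, ∀ b ∈ A, ∀ f ∈ A ⊓ U, ⁅a, w⁆ = ⁅b, w⁆ * f → a⁻¹ * b ∈ K := by
    intro a ha b hb f hf hab
    have hfix : ∀ e ∈ A, a⁻¹ * b ∈ centralizer ({⁅e, w⁆} : Set G) := by
      intro e he
      have hcj : ∀ c ∈ A, c * ⁅e, w⁆ * c⁻¹ = (e * ⁅c, w⁆ * e⁻¹) * ⁅e, w⁆ * ⁅c, w⁆⁻¹ := by
        intro c hc
        have h1 : e * c = c * e := comm_of hA.2.1 he hc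
        calc c * ⁅e, w⁆ * c⁻¹ = ⁅c * e, w⁆ * ⁅c, w⁆⁻¹ := by simp only [commutatorElement_def]; group
          _ = ⁅e * c, w⁆ * ⁅c, w⁆⁻¹ := by rw [h1]
          _ = (e * ⁅c, w⁆ * e⁻¹) * ⁅e, w⁆ * ⁅c, w⁆⁻¹ := by simp only [commutatorElement_def]; group
      have heU : ∀ c ∈ A, e * ⁅c, w⁆ * e⁻¹ ∈ U := fun c hc => by
        have h : e * ⁅c, w⁆ * e⁻¹ = ⁅e * c, w⁆ * ⁅e, w⁆⁻¹ := by simp only [commutatorElement_def]; group
        rw [h]
        exact mul_mem (hw _ (mul_mem he hc)) (inv_mem (hw e he))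
      have hef : e * f * e⁻¹ = f := by rw [comm_of hA.2.1 he hf.1, mul_inv_cancel_right]
      have hfe : f * ⁅e, w⁆ = ⁅e, w⁆ * f := hUc hf.2 (hw e he)
      have heq : a * ⁅e, w⁆ * a⁻¹ = b * ⁅e, w⁆ * b⁻¹ := by
        rw [hcj a ha, hcj b hb, hab,
          show e * (⁅b, w⁆ * f) * e⁻¹ = (e * ⁅b, w⁆ * e⁻¹) * (e * f * e⁻¹) by group, hef,
          mul_assoc (e * ⁅b, w⁆ * e⁻¹) f, hfe]
        group
      refine mem_centralizer_singleton_iff.mpr ?_
      calc a⁻¹ * b * ⁅e, w⁆ = a⁻¹ * (b * ⁅e, w⁆ * b⁻¹) * b := by group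
        _ = a⁻¹ * (a * ⁅e, w⁆ * a⁻¹) * b := by rw [heq]
        _ = ⁅e, w⁆ * (a⁻¹ * b) := by group
    refine mem_inf.mpr ⟨mul_mem (inv_mem ha) hb, ?_⟩
    have hle : V ≤ centralizer ({a⁻¹ * b} : Set G) := by
      refine sup_le (fun x hx => mem_centralizer_singleton_iff.mpr
        (comm_of hA.2.1 hx.1 (mul_mem (inv_mem ha) hb))) ((closure_le _).mpr ?_)
      rintro z ⟨e, he, rfl⟩
      exact mem_centralizer_singleton_iff.mpr (mem_centralizer_singleton_iff.mp (hfix e he)).symm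
    exact mem_centralizer_iff.mpr fun x hx => mem_centralizer_singleton_iff.mp (hle hx)
  let val : ↥A × ↥(A ⊓ U) → ↥V := fun q =>
    ⟨⁅(q.1 : G), w⁆ * q.2, mul_mem (hmemV _ q.1.2) (hV1 q.2.2)⟩
  have hrep : ∀ v : Set.range val, ∃ q, val q = v := fun v => v.2
  choose rep hrep using hrep
  have hmem : ∀ q : ↥A × ↥(A ⊓ U),
      ((rep ⟨val q, q, rfl⟩).1 : G)⁻¹ * (q.1 : G) ∈ K := by
    intro q
    set r := rep ⟨val q, q, rfl⟩ with hr
    have h : ⁅(r.1 : G), w⁆ * r.2 = ⁅(q.1 : G), w⁆ * q.2 := congrArg Subtype.val (hrep ⟨val q, q, rfl⟩)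
    refine hker _ r.1.2 _ q.1.2 ((q.2 : G) * (r.2 : G)⁻¹) (mul_mem q.2.2 (inv_mem r.2.2)) ?_
    rw [← mul_assoc, ← h, mul_inv_cancel_right]
  let Φ : ↥A × ↥(A ⊓ U) → Set.range val × ↥K := fun q => (⟨val q, q, rfl⟩, ⟨_, hmem q⟩)
  have hΦ : Function.Injective Φ := by
    intro q q' h
    have h1 : (Φ q).1 = (Φ q').1 := congrArg Prod.fst h
    have h2 : ((rep (Φ q).1).1 : G)⁻¹ * (q.1 : G) = ((rep (Φ q').1).1 : G)⁻¹ * (q'.1 : G) :=
      congrArg (fun z : Set.range val × ↥K => (z.2 : G)) h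
    rw [← h1] at h2
    have h3 : q.1 = q'.1 := Subtype.ext (mul_left_cancel h2)
    have h4 : ⁅(q.1 : G), w⁆ * q.2 = ⁅(q'.1 : G), w⁆ * q'.2 := congrArg Subtype.val (congrArg Subtype.val h1)
    rw [h3] at h4
    exact Prod.ext h3 (Subtype.ext (mul_left_cancel h4))
  have hcount : Nat.card ↥A * Nat.card ↥(A ⊓ U) ≤ Nat.card (Set.range val) * Nat.card ↥K := by
    rw [← Nat.card_prod, ← Nat.card_prod]
    exact Nat.card_le_card_of_injective Φ hΦ
  have hrange : Nat.card (Set.range val) ≤ Nat.card ↥V :=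
    Nat.card_le_card_of_injective _ Subtype.val_injective
  have hgood : Good A U V := ⟨hV1, hV2, hcount.trans (Nat.mul_le_mul_right _ hrange)⟩
  refine ⟨hgood, fun z hz => ?_⟩
  have hfull : Set.range val = Set.univ := by
    refine Set.eq_of_subset_of_ncard_le (Set.subset_univ _) ?_
    rw [Set.ncard_univ, ← Nat.card_coe_set_eq]
    exact Nat.le_of_mul_le_mul_right ((card_le hA hU hUT hV1 hV2).trans hcount) Nat.card_pos
  obtain ⟨q, hq⟩ : (⟨z, hz⟩ : ↥V) ∈ Set.range val := hfull ▸ Set.mem_univ _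
  exact ⟨q.1, q.1.2, q.2, q.2.2, (congrArg Subtype.val hq).symm⟩

/-- commutators with `A` give extremal subgroups -/
theorem good_commutator {W : Subgroup G} (hW : ⁅A, W⁆ ≤ U) : Good A U ((A ⊓ U) ⊔ ⁅A, W⁆) := by
  obtain ⟨V, ⟨hV, hVle⟩, hmax⟩ := WellFounded.has_min (wellFounded_gt (α := Subgroup G))
    {V | Good A U V ∧ V ≤ (A ⊓ U) ⊔ ⁅A, W⁆} ⟨A ⊓ U, good_bot hA hU hUT, le_sup_left⟩
  suffices h : (A ⊓ U) ⊔ ⁅A, W⁆ ≤ V by rwa [le_antisymm hVle h] at hV
  refine sup_le hV.1 (commutator_le.mpr fun a ha w hw => ?_)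
  have hwU : ∀ e ∈ A, ⁅e, w⁆ ∈ U := fun e he => hW (commutator_mem_commutator he hw)
  have hg := good_sup hA hU hUT hV (spanOf_spec hA hU hUT hwU).1
  have hle : V ⊔ spanOf A U w ≤ (A ⊓ U) ⊔ ⁅A, W⁆ := sup_le hVle (sup_le le_sup_left
    ((closure_le _).mpr fun z ⟨e, he, h⟩ => h ▸ mem_sup_right (commutator_mem_commutator he hw)))
  have he : V = V ⊔ spanOf A U w := eq_of_le_of_not_lt le_sup_left fun h => hmax _ ⟨hg, hle⟩ h
  rw [he]
  exact mem_sup_right (mem_sup_right (subset_closure ⟨a, ha, rfl⟩))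

end

end Cfsg.Lib.JDegree
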