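import Cfsg.Agent.Components.Functor.JDegree
import Cfsg.Agent.Components.Functor.IndexP
import Cfsg.Agent.Transfer.Tate
import Cfsg.Agent.Transfer.Control

/-!
`N(J(S))` controls transfer for `p ≥ 7`, and determines the largest `p`-factor group.
-/

set_option linter.style.haveILetI false
set_option linter.unusedSectionVars false

namespace Cfsg.Lib.JDegree

open Subgroup
open scoped commutatorElement

universe u

variable {p : ℕ} [Fact p.Prime]

theorem map_thompsonA_le {Q R : Type u} [Group Q] [Group R] (φ : Q ≃* R) :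
    (Cfsg.thompsonSubgroupA Q).map φ.toMonoidHom ≤ Cfsg.thompsonSubgroupA R := by
  rw [Cfsg.thompsonSubgroupA, map_le_iff_le_comap]
  refine sSup_le fun A hA => map_le_iff_le_comap.mp (le_sSup ?_)
  haveI := hA.1
  refine ⟨Subgroup.map_isMulCommutative A _, fun B hB => ?_⟩
  haveI := hB
  have h := hA.2 (B.map φ.symm.toMonoidHom) (Subgroup.map_isMulCommutative B _)
  rwa [card_map_of_injective (f := φ.symm.toMonoidHom) φ.symm.injective,
    ← card_map_of_injective (K := A) (f := φ.toMonoidHom) φ.injective] at h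

theorem isCharPFunctor_thompsonA :
    Cfsg.IsCharPFunctor.{u} p (fun Q [Group Q] => Cfsg.thompsonSubgroupA Q) := by
  refine ⟨fun Q _ _ _ _ hbot => ?_, fun Q R _ _ _ _ φ => le_antisymm (map_thompsonA_le φ) ?_⟩
  · obtain ⟨x, hx⟩ := exists_ne (1 : Q)
    obtain ⟨A, hA, hmax⟩ := Set.exists_max_image {A : Subgroup Q | IsMulCommutative A}
      (fun A : Subgroup Q => Nat.card A) (Set.toFinite _) ⟨zpowers x, (inferInstance : IsMulCommutative (zpowers x))⟩
    have hAbot : A ≤ (⊥ : Subgroup Q) := hbot ▸ le_sSup (show A ∈ Cfsg.maxAbelianSubgroups Q from ⟨hA, hmax⟩)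
    have h := hmax (zpowers x) (show IsMulCommutative (zpowers x) from inferInstance)
    rw [le_bot_iff.mp hAbot, card_bot] at h
    exact absurd h (not_le.mpr ((one_lt_card_iff_ne_bot _).mpr fun e => hx (zpowers_eq_bot.mp e)))
  · intro x hx
    exact ⟨φ.symm x, map_thompsonA_le φ.symm ⟨x, hx, rfl⟩, φ.apply_symm_apply x⟩

theorem tctrl (hp : 7 ≤ p) (G : Type u) [Group G] [Finite G] :
    Cfsg.Lib.Functor.TCtrl p {fun (Q : Type u) [Group Q] => Cfsg.thompsonSubgroupA Q} G :=
  Cfsg.Lib.Functor.tctrl_of_degree isCharPFunctor_thompsonA fun L _ _ _ _ T hn => by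
    obtain ⟨g, h1, h2, h3⟩ := exists_degree_six T hn
    exact ⟨g, h1, h2, fun U V hUV hU => haveI := hUV.2.2.1; Cfsg.Lib.KInf.iter_le_mono (by omega) (h3 U V hUV hU)⟩

/-- control of transfer by an overgroup of a Sylow subgroup determines the `p`-factor group -/
theorem quotient_equiv {G : Type u} [Group G] [Finite G] (S : Sylow p G) {M : Subgroup G}
    (hSM : (S : Subgroup G) ≤ M) (h : (S : Subgroup G) ⊓ commutator G ≤ ⁅M, M⁆) :
    Nonempty (G ⧸ Cfsg.pResidual p G ≃* ↥M ⧸ Cfsg.pResidual p ↥M) := by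
  set K := Cfsg.pResidual p G
  set RM := Cfsg.pResidual p ↥M
  have hK : Cfsg.pResidual p ↥K = ⊤ := by
    rw [eq_top_iff, ← Subgroup.map_le_map_iff_of_injective K.subtype_injective,
      ← MonoidHom.range_eq_map, range_subtype]
    refine (closure_le _).2 fun x hx => ?_
    refine ⟨⟨x, Cfsg.Lib.Transfer.mem_pResidual_of_coprime hx⟩, subset_closure ?_, rfl⟩
    show (orderOf (⟨x, _⟩ : ↥K)).Coprime p
    rw [← Subgroup.orderOf_coe]
    exact hx
  have hRK : RM ≤ K.subgroupOf M := map_le_iff_le_comap.mp (Cfsg.Lib.Transfer.pResidual_map_le M.subtype)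
  set ι : ↥(S : Subgroup G) →* ↥M := inclusion hSM
  set R₀ : Subgroup ↥(S : Subgroup G) := RM.comap ι
  have hR₀ : R₀ ≤ K.subgroupOf (S : Subgroup G) := fun x hx => mem_subgroupOf.mpr (hRK hx :)
  have hsup : RM ⊔ ((S : Subgroup G).subgroupOf M) = ⊤ := by
    have := Cfsg.Lib.Transfer.pResidual_sup_sylow (S.subtype hSM)
    rwa [Sylow.coe_subtype] at this
  set f : ↥(S : Subgroup G) →* ↥M ⧸ RM := (QuotientGroup.mk' RM).comp ι
  have hf : Function.Surjective f := by
    intro q
    obtain ⟨m, rfl⟩ := QuotientGroup.mk'_surjective RM q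
    obtain ⟨r, hr, t, ht, rfl⟩ := mem_sup_of_normal_left.mp (hsup.ge (mem_top m))
    refine ⟨⟨t, ht⟩, ?_⟩
    show QuotientGroup.mk' RM (ι ⟨t, ht⟩) = QuotientGroup.mk' RM (r * t)
    rw [map_mul, show QuotientGroup.mk' RM r = 1 from (QuotientGroup.eq_one_iff r).mpr hr, one_mul]
    rfl
  have hQF : K.subgroupOf (S : Subgroup G) ≤ frattini ↥(S : Subgroup G) ⊔ R₀ := by
    intro x hx
    have h1 : (x : G) ∈ commutator G :=
      focalSubgroup_le_commutator _ (Cfsg.Lib.Transfer.pResidual_inf_le_focal S ⟨hx, x.2⟩)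
    have h2 : (x : G) ∈ ⁅M, M⁆ := h ⟨x.2, h1⟩
    rw [← map_subtype_commutator M] at h2
    obtain ⟨m, hm, he⟩ := h2
    have hmx : m = ι x := Subtype.ext he
    subst hmx
    have h3 : f x ∈ (commutator ↥(S : Subgroup G)).map f := by
      rw [_root_.commutator_def, map_commutator, map_top_of_surjective f hf]
      have := mem_map_of_mem (QuotientGroup.mk' RM) hm
      rwa [_root_.commutator_def, map_commutator,
        map_top_of_surjective _ (QuotientGroup.mk'_surjective RM)] at this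
    have h4 : x ∈ commutator ↥(S : Subgroup G) ⊔ f.ker := by
      rw [← comap_map_eq]
      exact h3
    refine sup_le_sup (Cfsg.Lib.PGroups.commutator_le_frattini S.2) (fun y hy => ?_) h4
    exact (QuotientGroup.eq_one_iff (ι y)).mp hy
  have hR := Cfsg.Lib.Transfer.subgroupOf_sylow_eq_of_le_frattini_sup S K hK R₀ hR₀ hQF
  have hker : K.subgroupOf M = RM := by
    refine le_antisymm (fun m hm => ?_) hRK
    obtain ⟨r, hr, t, ht, rfl⟩ := mem_sup_of_normal_left.mp (hsup.ge (mem_top m))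
    refine mul_mem hr ?_
    have htK : t ∈ K.subgroupOf M := by
      have := mul_mem (inv_mem (hRK hr)) hm
      rwa [inv_mul_cancel_left] at this
    exact (hR.ge (mem_subgroupOf.mpr htK : (⟨(t : G), ht⟩ : ↥(S : Subgroup G)) ∈ K.subgroupOf (S : Subgroup G)) :)
  set φ : ↥M →* G ⧸ K := (QuotientGroup.mk' K).comp M.subtype
  have hφ : Function.Surjective φ := by
    intro q
    obtain ⟨g, rfl⟩ := QuotientGroup.mk'_surjective K q
    obtain ⟨k, hk, t, ht, rfl⟩ := mem_sup_of_normal_left.mp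
      ((Cfsg.Lib.Transfer.pResidual_sup_sylow S).ge (mem_top g))
    refine ⟨⟨t, hSM ht⟩, ?_⟩
    show QuotientGroup.mk' K t = QuotientGroup.mk' K (k * t)
    rw [map_mul, show QuotientGroup.mk' K k = 1 from (QuotientGroup.eq_one_iff k).mpr hk, one_mul]
  have hkerφ : φ.ker = RM := by
    ext m
    rw [← hker]
    exact QuotientGroup.eq_one_iff (m : G)
  exact ⟨(QuotientGroup.quotientKerEquivOfSurjective φ hφ).symm.trans
    (QuotientGroup.quotientMulEquivOfEq hkerφ)⟩

theorem main {G : Type u} [Group G] [Finite G] (hp : 7 ≤ p) (S : Sylow p G) :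
    Nonempty (G ⧸ Cfsg.pResidual p G ≃*
      ↥(normalizer (Cfsg.thompsonSubgroupAOf (S : Subgroup G) : Set G)) ⧸
        Cfsg.pResidual p ↥(normalizer (Cfsg.thompsonSubgroupAOf (S : Subgroup G) : Set G))) := by
  have h := Cfsg.Lib.Functor.inf_commutator_eq (tctrl hp G) S
  refine quotient_equiv S ?_ ((h.le.trans inf_le_right :))
  exact le_normalizer.trans (Cfsg.Lib.Functor.normalizer_le_normalizer_induced isCharPFunctor_thompsonA S.2)

end Cfsg.Lib.JDegree
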