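import Cfsg.Agent.Components.Functor.TransferApply

/-!
A minimal failure of control of transfer by functors.
-/

set_option linter.style.haveILetI false
set_option linter.unusedSectionVars false

namespace Cfsg.Lib.Functor

open Subgroup
open scoped commutatorElement
open Cfsg.Lib.Control (tgtIn)

universe u

variable {p : ℕ} [Fact p.Prime] {𝒲 : Set (∀ (Q : Type u) [Group Q], Subgroup Q)}

theorem crit_map (h𝒲 : ∀ W ∈ 𝒲, Cfsg.IsCharPFunctor.{u} p W) {G X : Type u} [Group G] [Group X] [Finite G]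
    [Finite X] (e : X ≃* G) {S : Subgroup X} (hS : IsPGroup p S)
    (h : Cfsg.pCore p X ⊓ commutator X ≤ tgtIn (ind 𝒲 X) ⊤ S) :
    Cfsg.pCore p G ⊓ commutator G ≤ tgtIn (ind 𝒲 G) ⊤ (S.map e.toMonoidHom) := by
  have h2 := (map_mono (f := e.toMonoidHom) h).trans
    ((map_tgt h𝒲 (f := e.toMonoidHom) e.injective hS).trans Cfsg.Lib.Control.tgtIn_le_top)
  rw [map_inf _ _ _ e.injective, map_pCore, _root_.commutator_def, map_commutator,
    map_top_of_surjective e.toMonoidHom e.surjective] at h2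
  rw [_root_.commutator_def]
  exact h2

/-- control in the proper sections reduces everything to `O_p` -/
theorem tctrl_of_proper_sections (h𝒲 : ∀ W ∈ 𝒲, Cfsg.IsCharPFunctor.{u} p W) {G : Type u} [Group G] [Finite G]
    (hsec : ∀ (K R : Subgroup G) [(R.subgroupOf K).Normal], (K = ⊤ → R ≠ ⊥) →
      TCtrl p 𝒲 (K ⧸ R.subgroupOf K))
    (S : Sylow p G)
    (h : centralizer (Cfsg.pCore p G : Set G) ≤ Cfsg.pCore p G →
      Cfsg.pCore p G ⊓ commutator G ≤ tgtIn (ind 𝒲 G) ⊤ (S : Subgroup G)) : TCtrl p 𝒲 G := by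
  refine ctrlT_main h𝒲 _ G rfl fun L _ _ hL hc _ T => ?_
  obtain ⟨K, R, hR, ⟨e⟩⟩ := hL.exists_quotient
  haveI := hR
  have hQT : Cfsg.pCore p L ≤ (T : Subgroup L) :=
    Cfsg.Lib.Thompson.le_sylow_of_normal (Cfsg.Lib.Components.isPGroup_pCore p) T
  by_cases hKR : K = ⊤ → R ≠ ⊥
  · exact (inf_le_inf_right _ hQT).trans (tctrl_congr h𝒲 e (hsec K R hKR) T)
  push Not at hKR
  obtain ⟨rfl, rfl⟩ := hKR
  let f : G ≃* L := Subgroup.topEquiv.symm.trans
    ((QuotientGroup.quotientBot.symm.trans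
      (QuotientGroup.quotientMulEquivOfEq (Subgroup.bot_subgroupOf ⊤).symm)).trans e)
  let T' := T.mapSurjective (f := f.symm.toMonoidHom) f.symm.surjective
  obtain ⟨g, hg⟩ := MulAction.exists_smul_eq G S T'
  have h1 := crit_map h𝒲 ((MulAut.conj g).trans f) S.2 (h (charP_congr f.symm hc))
  rwa [show (S : Subgroup G).map ((MulAut.conj g).trans f).toMonoidHom = (T : Subgroup L) by
    rw [show ((MulAut.conj g).trans f).toMonoidHom = f.toMonoidHom.comp (MulAut.conj g).toMonoidHom from rfl,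
      ← map_map, ← Cfsg.Lib.Transfer.sylow_smul_coe, hg]
    exact mapSurjective_coe_symm f T] at h1

/-- the structure of a minimal failure -/
theorem minimal_failure (h𝒲 : ∀ W ∈ 𝒲, Cfsg.IsCharPFunctor.{u} p W) (hne : 𝒲.Nonempty) {G : Type u} [Group G]
    [Finite G] (S : Sylow p G)
    (hsec : ∀ (K R : Subgroup G) [(R.subgroupOf K).Normal], (K = ⊤ → R ≠ ⊥) →
      TCtrl p 𝒲 (K ⧸ R.subgroupOf K))
    (hG : ¬ TCtrl p 𝒲 G) (T M : Subgroup G) (hT : T = tgtIn (ind 𝒲 G) ⊤ (S : Subgroup G))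
    (hM : M = normalizer ((T ⊓ Cfsg.pCore p G : Subgroup G) : Set G)) :
    centralizer (Cfsg.pCore p G : Set G) ≤ Cfsg.pCore p G ∧
      (M ≠ ⊤ ∧ ∀ H : Subgroup G, (S : Subgroup G) ≤ H → H ≠ ⊤ → H ≤ M) ∧
      (⁅Cfsg.pCore p G, M⁆ ≤ Cfsg.pCore p G ⊓ ⁅M, M⁆ ∧
        Cfsg.pCore p G ⊓ ⁅M, M⁆ ≤ Cfsg.pCore p G ⊓ T) ∧
      ∀ u : G, u ∈ (S : Subgroup G) → u ∉ Cfsg.pCore p G → ∃ U V : Subgroup G,
        Cfsg.IsChiefFactor U V ∧ U ≤ Cfsg.pCore p G ∧ ¬ Cfsg.iterCommutator U (zpowers u) (p - 1) ≤ V := by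
  set Q := Cfsg.pCore p G
  have hcharP : centralizer (Q : Set G) ≤ Q :=
    Classical.byContradiction fun h => hG (tctrl_of_proper_sections h𝒲 hsec S fun h' => absurd h' h)
  have hQ : ¬ Q ⊓ commutator G ≤ T :=
    fun h => hG (tctrl_of_proper_sections h𝒲 hsec S fun _ => hT ▸ h)
  have hQS : Q ≤ (S : Subgroup G) :=
    Cfsg.Lib.Thompson.le_sylow_of_normal (Cfsg.Lib.Components.isPGroup_pCore p) S
  have hsub : ∀ H : Subgroup G, (S : Subgroup G) ≤ H → H ≠ ⊤ → (S : Subgroup G) ⊓ ⁅H, H⁆ ≤ T := by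
    intro H hSH hH
    have hn : ((⊥ : Subgroup G).subgroupOf H).Normal := by rw [Subgroup.bot_subgroupOf]; infer_instance
    have h1 : TCtrl p 𝒲 H := tctrl_congr h𝒲
      ((QuotientGroup.quotientMulEquivOfEq (Subgroup.bot_subgroupOf H)).trans QuotientGroup.quotientBot)
      (hsec H ⊥ fun h => absurd h hH)
    rw [hT]
    exact (transfer_in_subgroup h𝒲 hSH S.2 (fun hd => S.not_dvd_index
      (hd.trans (relIndex_dvd_index_of_le hSH))) h1).trans Cfsg.Lib.Control.tgtIn_le_top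
  have hS' : ⁅(S : Subgroup G), (S : Subgroup G)⁆ ≤ T := by
    obtain ⟨W, hW⟩ := hne
    have hSN : (S : Subgroup G) ≤ normalizer ((Cfsg.inducedFunctor W (S : Subgroup G) : Subgroup G) : Set G) :=
      le_normalizer.trans (normalizer_le_normalizer_induced (h𝒲 W hW) S.2)
    rw [hT]
    refine le_trans (le_of_le_of_eq (le_inf (commutator_le_self _) (commutator_mono hSN hSN)) ?_)
      (le_iSup₂ (f := fun (W : Subgroup G → Subgroup G) (_ : W ∈ ind 𝒲 G) =>
        (S : Subgroup G) ⊓ ⁅⊤ ⊓ normalizer ((W (S : Subgroup G) : Subgroup G) : Set G),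
          ⊤ ⊓ normalizer ((W (S : Subgroup G) : Subgroup G) : Set G)⁆) _ ⟨W, hW, rfl⟩)
    rw [top_inf_eq]
  -- a group containing `S` whose derived group meets `S` inside `T` fixes `T ⊓ Q`
  have hfix : ∀ H : Subgroup G, (S : Subgroup G) ≤ H → (S : Subgroup G) ⊓ ⁅H, H⁆ ≤ T →
      ∀ q ∈ Q, ∀ x ∈ H, ⁅q, x⁆ ∈ T ⊓ Q := by
    intro H hSH hHT q hq x hx
    have hqQ : ⁅q, x⁆ ∈ Q := by
      rw [show ⁅q, x⁆ = q * (x * q⁻¹ * x⁻¹) by simp only [commutatorElement_def]; group]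
      exact mul_mem hq (Normal.conj_mem inferInstance _ (inv_mem hq) x)
    exact ⟨hHT ⟨hQS hqQ, commutator_mem_commutator (hSH (hQS hq)) hx⟩, hqQ⟩
  have hnorm : ∀ H : Subgroup G, (S : Subgroup G) ≤ H → (S : Subgroup G) ⊓ ⁅H, H⁆ ≤ T → H ≤ M := by
    intro H hSH hHT
    rw [hM, le_normalizer_iff_commutator_le_right, commutator_comm, commutator_le]
    exact fun q hq x hx => hfix H hSH hHT q hq.2 x hx
  have hS_T : (S : Subgroup G) ⊓ ⁅(S : Subgroup G), (S : Subgroup G)⁆ ≤ T := inf_le_right.trans hS'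
  have hSM : (S : Subgroup G) ≤ M := hnorm _ le_rfl hS_T
  have hne' : normalizer ((S : Subgroup G) : Set G) ≠ ⊤ := by
    intro h
    obtain ⟨W, hW⟩ := hne
    refine hQ ?_
    rw [hT]
    refine le_trans (le_of_le_of_eq (inf_le_inf_right _ hQS) ?_)
      (le_iSup₂ (f := fun (W : Subgroup G → Subgroup G) (_ : W ∈ ind 𝒲 G) =>
        (S : Subgroup G) ⊓ ⁅⊤ ⊓ normalizer ((W (S : Subgroup G) : Subgroup G) : Set G),
          ⊤ ⊓ normalizer ((W (S : Subgroup G) : Subgroup G) : Set G)⁆) _ ⟨W, hW, rfl⟩)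
    rw [eq_top_iff.mpr (h.ge.trans (normalizer_le_normalizer_induced (h𝒲 W hW) S.2)), top_inf_eq,
      ← _root_.commutator_def]
  have hMne : M ≠ ⊤ := by
    intro h
    haveI hn : (T ⊓ Q).Normal := normalizer_eq_top_iff.mp (hM ▸ h)
    refine hQ ((Cfsg.Lib.Control.inf_commutator_le_of_central S hS' hQS fun q hq g => ?_))
    set π := QuotientGroup.mk' (T ⊓ Q)
    haveI hQn : (Q.map π).Normal := (inferInstance : Q.Normal).map π (QuotientGroup.mk'_surjective _)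
    haveI : (centralizer ((Q.map π : Subgroup _) : Set (G ⧸ (T ⊓ Q)))).Normal := normal_centralizer
    set C := (centralizer ((Q.map π : Subgroup _) : Set (G ⧸ (T ⊓ Q)))).comap π
    have hC : ∀ g : G, g ∈ C ↔ ∀ q ∈ Q, ⁅q, g⁆ ∈ T ⊓ Q := by
      intro g
      rw [mem_comap, mem_centralizer_iff]
      constructor
      · intro hg q hq
        rw [← QuotientGroup.eq_one_iff (N := T ⊓ Q)]
        show π ⁅q, g⁆ = 1
        rw [map_commutatorElement, commutatorElement_eq_one_iff_mul_comm]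
        exact hg _ (mem_map_of_mem π hq)
      · rintro hg _ ⟨q, hq, rfl⟩
        rw [← commutatorElement_eq_one_iff_mul_comm, ← map_commutatorElement]
        exact (QuotientGroup.eq_one_iff _).mpr (hg q hq)
    have hSC : (S : Subgroup G) ≤ C := fun s hs => (hC s).mpr fun q hq => hfix _ le_rfl hS_T q hq s hs
    have hNC : normalizer ((S : Subgroup G) : Set G) ≤ C := fun s hs => (hC s).mpr fun q hq =>
      hfix _ le_normalizer (hsub _ le_normalizer hne') q hq s hs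
    have hfr := Cfsg.Lib.ZJ.sup_normalizer_inf_eq_top C S
    rw [inf_eq_left.mpr hSC, sup_eq_left.mpr hNC] at hfr
    exact ((hC g).mp (hfr ▸ mem_top g) q hq).1
  have hQM : Q ≤ M := hQS.trans hSM
  have hMT : (S : Subgroup G) ⊓ ⁅M, M⁆ ≤ T := hsub M hSM hMne
  refine ⟨hcharP, ⟨hMne, fun H hSH hH => hnorm H hSH (hsub H hSH hH)⟩,
    ⟨le_inf (commutator_le.mpr fun q hq x hx => (hfix M hSM hMT q hq x hx).2) (commutator_mono hQM le_rfl),
      le_inf inf_le_left ((inf_le_inf_right _ hQS).trans hMT)⟩, fun u hu huQ => ?_⟩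
  by_contra hno
  push Not at hno
  exact hQ (Cfsg.Lib.Control.inf_commutator_le_of_degree S hS' (fun H hH hSH => hsub H hSH hH) hu huQ hno)

theorem tgtIn_top_eq {G : Type u} [Group G] (R : Subgroup G) :
    tgtIn (ind 𝒲 G) ⊤ R = ⨆ W ∈ 𝒲, R ⊓ ⁅normalizer ((Cfsg.inducedFunctor (G := G) W R : Subgroup G) : Set G),
      normalizer ((Cfsg.inducedFunctor (G := G) W R : Subgroup G) : Set G)⁆ := by
  simp only [tgtIn, ind, iSup_image, top_inf_eq]

end Cfsg.Lib.Functor
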