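import Cfsg.Agent.Components.ZJ.Functor
import Cfsg.Prelude.Def_ConjugacyFunctors

/-!
Functors on `p`-groups inside a group; sections.
-/

set_option linter.style.haveILetI false
set_option linter.unusedSectionVars false

namespace Cfsg.Lib.Functor

open Subgroup

universe u

variable {p : ℕ} {W : ∀ (Q : Type u) [Group Q], Subgroup Q}
variable {G H : Type u} [Group G] [Group H]

theorem induced_le (T : Subgroup G) : Cfsg.inducedFunctor W T ≤ T := map_subtype_le _

theorem induced_ne_bot (hW : Cfsg.IsCharPFunctor.{u} p W) {T : Subgroup G} [Finite T] (hT : IsPGroup p T)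
    (hne : T ≠ ⊥) : Cfsg.inducedFunctor W T ≠ ⊥ := fun h =>
  hW.1 T hT ((nontrivial_iff_ne_bot T).mpr hne) ((map_eq_bot_iff_of_injective _ T.subtype_injective).mp h)

theorem map_induced (hW : Cfsg.IsCharPFunctor.{u} p W) {T : Subgroup G} [Finite T] (hT : IsPGroup p T)
    {f : G →* H} (hf : Set.InjOn f T) :
    (Cfsg.inducedFunctor W T).map f = Cfsg.inducedFunctor W (T.map f) := by
  let e : T ≃* (T.map f : Subgroup H) := MulEquiv.ofBijective (f.subgroupMap T)
    ⟨fun a b h => Subtype.ext (hf a.2 b.2 (congrArg Subtype.val h)), f.subgroupMap_surjective T⟩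
  rw [Cfsg.inducedFunctor, Cfsg.inducedFunctor, ← hW.2 T (T.map f : Subgroup H) hT e, map_map, map_map]
  rfl

theorem map_induced_equiv (hW : Cfsg.IsCharPFunctor.{u} p W) {T : Subgroup G} [Finite T] (hT : IsPGroup p T)
    (e : G ≃* H) :
    (Cfsg.inducedFunctor W T).map e.toMonoidHom = Cfsg.inducedFunctor W (T.map e.toMonoidHom) :=
  map_induced hW hT e.injective.injOn

theorem isConjugacyFunctor_induced [Finite G] (hW : Cfsg.IsCharPFunctor.{u} p W) :
    Cfsg.IsConjugacyFunctor p (Cfsg.inducedFunctor (G := G) W) := fun _ hP =>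
  ⟨induced_le _, induced_ne_bot hW hP, fun g => (map_induced_equiv hW hP (MulAut.conj g)).symm⟩

theorem normalizer_le_normalizer_induced [Finite G] (hW : Cfsg.IsCharPFunctor.{u} p W) {T : Subgroup G}
    (hT : IsPGroup p T) : normalizer (T : Set G) ≤ normalizer (Cfsg.inducedFunctor W T : Set G) := fun g hg => by
  rw [← Cfsg.Lib.Transfer.map_conj_eq_self_iff, map_induced_equiv hW hT (MulAut.conj g),
    Cfsg.Lib.Transfer.map_conj_eq_self_iff.mpr hg]

/-- `L` is a homomorphic image of a subgroup of `G` -/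
def IsSection (L G : Type u) [Group L] [Group G] : Prop :=
  ∃ (K : Subgroup G) (f : K →* L), Function.Surjective f

theorem IsSection.refl (G : Type u) [Group G] : IsSection G G :=
  ⟨⊤, (⊤ : Subgroup G).subtype, fun x => ⟨⟨x, mem_top x⟩, rfl⟩⟩

theorem IsSection.trans {L M : Type u} [Group L] [Group M] (h : IsSection L M) (h' : IsSection M G) :
    IsSection L G := by
  obtain ⟨K, f, hf⟩ := h
  obtain ⟨K', f', hf'⟩ := h'
  let e := (K.comap f').equivMapOfInjective K'.subtype K'.subtype_injective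
  refine ⟨(K.comap f').map K'.subtype, (f.comp (f'.subgroupComap K)).comp e.symm.toMonoidHom, fun l => ?_⟩
  obtain ⟨⟨k, hk⟩, rfl⟩ := hf l
  obtain ⟨x, rfl⟩ := hf' k
  exact ⟨e ⟨x, hk⟩, by simp; rfl⟩

theorem IsSection.subgroup (K : Subgroup G) : IsSection K G :=
  ⟨K, MonoidHom.id K, fun x => ⟨x, rfl⟩⟩

theorem IsSection.quotient (N : Subgroup G) [N.Normal] : IsSection (G ⧸ N) G :=
  ⟨⊤, (QuotientGroup.mk' N).comp (⊤ : Subgroup G).subtype, fun x => by
    obtain ⟨y, rfl⟩ := QuotientGroup.mk'_surjective N x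
    exact ⟨⟨y, mem_top y⟩, rfl⟩⟩

theorem IsSection.of_surjective {f : G →* H} (hf : Function.Surjective f) : IsSection H G :=
  ⟨⊤, f.comp (⊤ : Subgroup G).subtype, fun x => by
    obtain ⟨y, rfl⟩ := hf x
    exact ⟨⟨y, mem_top y⟩, rfl⟩⟩

theorem IsSection.exists_quotient {L : Type u} [Group L] (h : IsSection L G) :
    ∃ (K R : Subgroup G) (_ : (R.subgroupOf K).Normal), Nonempty (K ⧸ R.subgroupOf K ≃* L) := by
  obtain ⟨K, f, hf⟩ := h
  have h0 : (f.ker.map K.subtype).subgroupOf K = f.ker := comap_map_eq_self_of_injective K.subtype_injective _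
  haveI : ((f.ker.map K.subtype).subgroupOf K).Normal := by rw [h0]; infer_instance
  exact ⟨K, f.ker.map K.subtype, inferInstance,
    ⟨(QuotientGroup.quotientMulEquivOfEq h0).trans (QuotientGroup.quotientKerEquivOfSurjective f hf)⟩⟩

theorem IsSection.finite [Finite G] {L : Type u} [Group L] (h : IsSection L G) : Finite L := by
  obtain ⟨K, f, hf⟩ := h
  exact Finite.of_surjective f hf

theorem isSection_quotient (K R : Subgroup G) [(R.subgroupOf K).Normal] :
    IsSection (K ⧸ R.subgroupOf K) G :=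
  ⟨K, QuotientGroup.mk' _, QuotientGroup.mk'_surjective _⟩

variable [Finite G] [Finite H] [Fact p.Prime]

theorem map_pCore (e : G ≃* H) : (Cfsg.pCore p G).map e.toMonoidHom = Cfsg.pCore p H := by
  refine le_antisymm (Cfsg.Lib.ZJ.map_pCore_le (f := e.toMonoidHom) e.surjective) ?_
  intro y hy
  have h := Cfsg.Lib.ZJ.map_pCore_le (p := p) (f := e.symm.toMonoidHom) e.symm.surjective (mem_map_of_mem _ hy)
  exact ⟨_, h, e.apply_symm_apply y⟩

theorem charP_congr (e : G ≃* H) (h : centralizer (Cfsg.pCore p G : Set G) ≤ Cfsg.pCore p G) :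
    centralizer (Cfsg.pCore p H : Set H) ≤ Cfsg.pCore p H := by
  rw [← map_pCore e, ← Cfsg.Lib.ZJ.map_centralizer_equiv e]
  exact map_mono h

theorem quotient_pCore_congr (e : G ≃* H) :
    Nonempty (G ⧸ Cfsg.pCore p G ≃* H ⧸ Cfsg.pCore p H) :=
  ⟨QuotientGroup.congr _ _ e (map_pCore e)⟩

end Cfsg.Lib.Functor
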