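import Cfsg.Agent.Components.Functor.IndexP
import Cfsg.Agent.Chars.Burnside

/-!
Groups whose Sylow subgroups are self-normalizing.
-/

set_option linter.style.haveILetI false

namespace Cfsg.Lib.KInf

open Subgroup

universe u

theorem card_two_three {n : ℕ} (hn : n ≠ 0) (h : ∀ q : ℕ, q.Prime → q ∣ n → q = 2 ∨ q = 3) :
    ∃ a b, n = 2 ^ a * 3 ^ b := by
  obtain ⟨a, m, hm, hnm⟩ := Nat.exists_eq_pow_mul_and_not_dvd hn 2 (by norm_num)
  have hm0 : m ≠ 0 := fun h0 => hm (h0 ▸ dvd_zero 2)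
  refine ⟨a, _, hnm.trans (congrArg (2 ^ a * ·) (Nat.eq_prime_pow_of_unique_prime_dvd hm0 fun {d} hd hdm =>
    (h d hd (hnm ▸ hdm.mul_left _)).resolve_left fun h2 => hm (h2 ▸ hdm)))⟩

theorem isPGroup_of_self_normalizing (n : ℕ) : ∀ (G : Type u) [Group G] [Finite G], Nat.card G = n →
    (∀ q : ℕ, q.Prime → q ∣ Nat.card G → ∀ Q : Sylow q G, normalizer ((Q : Subgroup G) : Set G) = Q) →
    ∃ q : ℕ, q.Prime ∧ IsPGroup q G := by
  induction n using Nat.strong_induction_on with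
  | _ n ih =>
  intro G _ _ hG h
  rcases subsingleton_or_nontrivial G with hsub | hnt
  · exact ⟨2, Nat.prime_two, fun g => ⟨0, Subsingleton.elim _ _⟩⟩
  obtain ⟨M, ⟨hMn, hMne⟩, hMmin⟩ := Set.exists_min_image {M : Subgroup G | M.Normal ∧ M ≠ ⊥}
    (fun M => Nat.card M) (Set.toFinite _) ⟨⊤, inferInstance, top_ne_bot⟩
  haveI := hMn
  by_cases hM : M = ⊤
  · -- no proper normal subgroup
    have hsimple : ∀ N : Subgroup G, N.Normal → N ≠ ⊤ → N = ⊥ := fun N hN hne => by
      by_contra hb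
      exact hne (top_le_iff.mp (le_of_eq ((hM.symm.trans (eq_of_le_of_card_ge (hM.ge.trans' le_top)
        (hMmin N ⟨hN, hb⟩)).symm))))
    have hprime : (∃ q : ℕ, q.Prime ∧ ∃ N : Subgroup G, N.Normal ∧ N.index = q) → ∃ q : ℕ, q.Prime ∧ IsPGroup q G := by
      rintro ⟨q, hq, N, hN, hNi⟩
      haveI : Fact q.Prime := ⟨hq⟩
      have hN1 : N = ⊥ := hsimple N hN fun hNt => hq.ne_one (by rw [← hNi, hNt, index_top])
      rw [hN1, index_bot] at hNi
      exact ⟨q, hq, IsPGroup.of_card (n := 1) (by rw [hNi, pow_one])⟩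
    by_cases h5 : ∀ q : ℕ, q.Prime → q ∣ Nat.card G → q = 2 ∨ q = 3
    · haveI := Cfsg.Lib.Chars.burnside_isSolvable 2 3 Nat.prime_two Nat.prime_three G
        (card_two_three Nat.card_pos.ne' h5)
      obtain ⟨N, hN, hNi⟩ := Cfsg.Lib.Coprime.exists_normal_prime_index (G := G)
      exact hprime ⟨_, hNi, N, hN, rfl⟩
    push Not at h5
    obtain ⟨q, hq, hqG, h2, h3⟩ := h5
    haveI : Fact q.Prime := ⟨hq⟩
    have hq5 : 5 ≤ q := by
      by_contra hlt
      have := hq.two_le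
      interval_cases q <;> first | omega | (exact absurd hq (by decide))
    obtain ⟨Q⟩ := (inferInstance : Nonempty (Sylow q G))
    refine hprime ⟨q, hq, index_p hq5 Q (Q.ne_bot_of_dvd_card hqG) fun g hg hgp => ?_⟩
    rw [h q hq hqG Q] at hg
    obtain ⟨k, hk⟩ := IsPGroup.iff_orderOf.mp Q.2 ⟨g, hg⟩
    rw [Subgroup.orderOf_mk] at hk
    rw [orderOf_eq_one_iff.mp (Nat.eq_one_of_dvd_coprimes (hgp.pow_right k) dvd_rfl hk.dvd)]
    exact one_mem _
  -- the quotient is a group of the same kind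
  set π := QuotientGroup.mk' M
  have hπ : Function.Surjective π := QuotientGroup.mk'_surjective M
  have hlt : Nat.card (G ⧸ M) < n := by
    rw [← hG, card_eq_card_quotient_mul_card_subgroup M]
    exact lt_mul_of_one_lt_right Nat.card_pos ((one_lt_card_iff_ne_bot _).mpr hMne)
  obtain ⟨q, hq, hqM⟩ := ih _ hlt (G ⧸ M) rfl fun r hr hrM Q' => by
    haveI : Fact r.Prime := ⟨hr⟩
    obtain ⟨Q, rfl⟩ := Sylow.mapSurjective_surjective hπ r Q'
    refine le_antisymm ?_ le_normalizer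
    intro y hy
    obtain ⟨g, rfl⟩ := hπ y
    set X := ((Q : Subgroup G).map π).comap π
    have hQX : (Q : Subgroup G) ≤ X := le_comap_map π _
    have hgX : ∀ x ∈ (Q : Subgroup G), g * x * g⁻¹ ∈ X := fun x hx => by
      rw [mem_comap, map_mul, map_mul, map_inv]
      exact (mem_normalizer_iff.mp hy (π x)).mp (mem_map_of_mem π hx)
    have hgQ : ((g • Q : Sylow r G) : Subgroup G) ≤ X := by
      rw [Cfsg.Lib.Transfer.sylow_smul_coe]
      rintro _ ⟨x, hx, rfl⟩
      exact hgX x hx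
    obtain ⟨x, hx⟩ := MulAction.exists_smul_eq X ((g • Q).subtype hgQ) (Q.subtype hQX)
    have hxg : ((x : G) * g) • Q = Q := by
      have h1 := congrArg (fun P : Sylow r X => (P : Subgroup X).map X.subtype) hx
      simp only [Cfsg.Lib.Transfer.sylow_smul_coe, Sylow.coe_subtype] at h1
      rw [map_map, show X.subtype.comp (MulAut.conj x).toMonoidHom =
        (MulAut.conj (x : G)).toMonoidHom.comp X.subtype from MonoidHom.ext fun z => rfl, ← map_map,
        map_subgroupOf_eq_of_le hQX, map_subgroupOf_eq_of_le (by rwa [Cfsg.Lib.Transfer.sylow_smul_coe] at hgQ)] at h1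
      refine Sylow.ext ?_
      rw [Cfsg.Lib.Transfer.sylow_smul_coe]
      refine Eq.trans ?_ h1
      rw [map_map]
      congr 1
      ext z; simp [mul_assoc]
    have hmem : (x : G) * g ∈ (Q : Subgroup G) := by
      rw [← h r hr (hrM.trans (card_quotient_dvd_card M)) Q]
      exact Sylow.smul_eq_iff_mem_normalizer.mp hxg
    have : g ∈ X := by
      have := mul_mem (inv_mem x.2) (hQX hmem)
      rwa [inv_mul_cancel_left] at this
    exact this
  refine ⟨q, hq, ?_⟩
  haveI : Fact q.Prime := ⟨hq⟩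
  have hMq : IsPGroup q M := by
    obtain ⟨e, he⟩ : ∃ e, Nat.card M = q ^ e := by
      refine ⟨_, Nat.eq_prime_pow_of_unique_prime_dvd Nat.card_pos.ne' fun {r} hr hrM => ?_⟩
      by_contra hrq
      haveI : Fact r.Prime := ⟨hr⟩
      obtain ⟨R⟩ := (inferInstance : Nonempty (Sylow r G))
      have hRM : (R : Subgroup G) ≤ M := fun x hx => by
        obtain ⟨i, hi⟩ := IsPGroup.iff_orderOf.mp hqM (π x)
        obtain ⟨j, hj⟩ := IsPGroup.iff_orderOf.mp R.2 ⟨x, hx⟩
        rw [Subgroup.orderOf_mk] at hj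
        exact (QuotientGroup.eq_one_iff x).mp (orderOf_eq_one_iff.mp (Nat.eq_one_of_dvd_coprimes
          (((Nat.coprime_primes hr hq).mpr hrq).pow j i) (hj ▸ orderOf_map_dvd π x) hi.dvd))
      have hfr := Cfsg.Lib.ZJ.sup_normalizer_inf_eq_top M R
      rw [inf_eq_left.mpr hRM, h r hr (hrM.trans (card_subgroup_dvd_card M)) R, sup_eq_left.mpr hRM] at hfr
      exact hM hfr
    exact IsPGroup.of_card he
  intro g
  obtain ⟨i, hi⟩ := hqM (QuotientGroup.mk g)
  rw [← QuotientGroup.mk_pow, QuotientGroup.eq_one_iff] at hi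
  obtain ⟨j, hj⟩ := hMq ⟨g ^ q ^ i, hi⟩
  refine ⟨i + j, ?_⟩
  rw [pow_add, pow_mul]
  exact congrArg Subtype.val hj

end Cfsg.Lib.KInf
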