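import Cfsg.Agent.Components.Functor.Fusion
import Cfsg.Agent.Components.Control.Transfer
import Cfsg.Agent.Components.Control.TransferNormal
import Cfsg.Agent.Transfer.IndexPrimeTo

/-!
Control of transfer by functors, reduced to the sections of characteristic `p`.
-/

set_option linter.style.haveILetI false
set_option linter.unusedSectionVars false

namespace Cfsg.Lib.Functor

open Subgroup
open scoped commutatorElement
open Cfsg.Lib.Control (tgtIn)

universe u

variable {p : ℕ} [Fact p.Prime]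

/-- `𝒲` controls transfer in `G` -/
def TCtrl (p : ℕ) (𝒲 : Set (∀ (Q : Type u) [Group Q], Subgroup Q)) (G : Type u) [Group G] : Prop :=
  ∀ S : Sylow p G, (S : Subgroup G) ⊓ commutator G ≤ tgtIn (ind 𝒲 G) ⊤ (S : Subgroup G)

variable {𝒲 : Set (∀ (Q : Type u) [Group Q], Subgroup Q)}

theorem ind_conj (h𝒲 : ∀ W ∈ 𝒲, Cfsg.IsCharPFunctor.{u} p W) {G : Type u} [Group G] [Finite G] :
    ∀ W ∈ ind 𝒲 G, Cfsg.IsConjugacyFunctor p W := by
  rintro _ ⟨W₀, hW₀, rfl⟩
  exact isConjugacyFunctor_induced (h𝒲 W₀ hW₀)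

/-- the centralizer of `O_p` meets a Sylow subgroup in a non-normal subgroup -/
theorem normalizer_inf_centralizer_ne_top {G : Type u} [Group G] [Finite G] (S : Sylow p G)
    (hN : Cfsg.pPrimeCore p G = ⊥)
    (hcon : ¬ centralizer (Cfsg.pCore p G : Set G) ≤ Cfsg.pCore p G) :
    normalizer (((S : Subgroup G) ⊓ centralizer (Cfsg.pCore p G : Set G) : Subgroup G) : Set G) ≠ ⊤ := by
  set Q := Cfsg.pCore p G
  set C := centralizer (Q : Set G)
  haveI : C.Normal := normal_centralizer
  intro htop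
  haveI : ((S : Subgroup G) ⊓ C).Normal := normalizer_eq_top_iff.mp htop
  have hle : (S : Subgroup G) ⊓ C ≤ Q := Cfsg.Lib.Components.le_pCore (S.2.to_le inf_le_left)
  have hzero : ∀ P : Subgroup C, IsPGroup p P → ∀ y ∈ P, ∀ c : C, c * y = y * c := by
    intro P hP y hy c
    obtain ⟨T, hT⟩ := (hP.map C.subtype).exists_le_sylow
    have hyS : (y : G) ∈ (S : Subgroup G) ⊓ C := by
      obtain ⟨g, hg⟩ := MulAction.exists_smul_eq G T S
      have h1 : g * (y : G) * g⁻¹ ∈ (S : Subgroup G) := by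
        rw [← hg, Cfsg.Lib.Transfer.sylow_smul_coe]
        exact ⟨y, hT (mem_map_of_mem _ hy), rfl⟩
      have h2 : g * (y : G) * g⁻¹ ∈ (S : Subgroup G) ⊓ C := ⟨h1, Normal.conj_mem inferInstance _ y.2 g⟩
      have h3 := Normal.conj_mem (inferInstance : ((S : Subgroup G) ⊓ C).Normal) _ h2 g⁻¹
      simpa [mul_assoc] using h3
    exact Subtype.ext (mem_centralizer_iff.mp c.2 _ (hle hyS)).symm
  obtain ⟨K, hKn, hKc, j, hKj⟩ := Cfsg.Lib.Transfer.hasNormalPComplement_iff.mp
    (Cfsg.Lib.Transfer.hasNormalPComplement_of_frobenius (G := C) (p := p) fun P hP y _ _ q hq =>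
      (hzero P hP q hq y).symm)
  haveI := hKn
  have hKn' : (K.map C.subtype).Normal := ⟨fun x hx g => by
    obtain ⟨y, hy, rfl⟩ := mem_map.mp hx
    refine mem_map.mpr ⟨MulAut.conjNormal g y, ?_, MulAut.conjNormal_apply g y⟩
    rw [Cfsg.Lib.Transfer.mem_iff_coprime_orderOf hKc hKj, MulEquiv.orderOf_eq]
    exact (Cfsg.Lib.Transfer.mem_iff_coprime_orderOf hKc hKj y).mp hy⟩
  have hK : K = ⊥ := by
    have h1 := Cfsg.Lib.Components.le_pPrimeCore (N := K.map C.subtype) (p := p) (by rwa [card_subtype])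
    rw [hN, le_bot_iff, map_eq_bot_iff_of_injective _ C.subtype_injective] at h1
    exact h1
  have hCp : IsPGroup p C := IsPGroup.of_card (n := j) (by rw [← hKj, hK, index_bot])
  exact hcon (Cfsg.Lib.Components.le_pCore hCp)

/-- the image of a Sylow intersection with a normal subgroup of an overgroup -/
theorem map_inf_sylow {G H : Type u} [Group G] [Group H] [Finite G] [Finite H] {f : G →* H} (S : Sylow p G)
    {M X : Subgroup G} (hSM : (S : Subgroup G) ≤ M) (hXM : X ≤ M) (hn : M ≤ normalizer (X : Set G)) :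
    (S : Subgroup G).map f ⊓ X.map f ≤ ((S : Subgroup G) ⊓ X).map f := by
  have hnd : ¬ p ∣ ((S : Subgroup G) ⊓ X).relIndex X := by
    haveI : (X.subgroupOf M).Normal := normal_subgroupOf_of_le_normalizer hn
    obtain ⟨A, hA⟩ := Cfsg.Lib.Transfer.exists_sylow_subgroupOf (S.subtype hSM) (X.subgroupOf M)
    have h := A.not_dvd_index
    rw [hA] at h
    change ¬ p ∣ ((S : Subgroup G).subgroupOf M).relIndex (X.subgroupOf M) at h
    rw [← relIndex_map_map_of_injective _ _ M.subtype_injective, map_subgroupOf_eq_of_le hSM,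
      map_subgroupOf_eq_of_le hXM] at h
    rwa [inf_relIndex_right]
  refine le_of_eq (Cfsg.Lib.Control.eq_of_nd (p := p) (N := X.map f) (map_inf_le _ _ f) inf_le_right
    ((S.2.map f).to_le inf_le_left) fun hd => hnd (hd.trans ?_)).symm
  have h1 := index_map_dvd (H := ((S : Subgroup G) ⊓ X).subgroupOf X) (f.subgroupMap_surjective X)
  refine Nat.dvd_trans ?_ h1
  refine dvd_of_eq ?_
  show (((S : Subgroup G) ⊓ X).map f).relIndex (X.map f) = _
  rw [relIndex, subgroupOf]
  congr 1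
  ext ⟨y, hy⟩
  constructor
  · rintro ⟨x, hx, e⟩
    exact ⟨⟨x, hx.2⟩, hx, Subtype.ext e⟩
  · rintro ⟨x, hx, e⟩
    exact ⟨x, hx, congrArg Subtype.val e⟩

section hom

variable (h𝒲 : ∀ W ∈ 𝒲, Cfsg.IsCharPFunctor.{u} p W)
include h𝒲

theorem map_tgt {G X : Type u} [Group G] [Group X] [Finite X] {f : X →* G} (hf : Function.Injective f)
    {R : Subgroup X} (hR : IsPGroup p R) :
    (tgtIn (ind 𝒲 X) ⊤ R).map f ≤ tgtIn (ind 𝒲 G) f.range (R.map f) := by
  rw [tgtIn, tgtIn, Subgroup.map_iSup]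
  refine iSup_le fun W => ?_
  rw [Subgroup.map_iSup]
  refine iSup_le fun hW => ?_
  obtain ⟨W₀, hW₀, rfl⟩ := hW
  refine le_trans ?_ (le_iSup₂ (f := fun (W : Subgroup G → Subgroup G) (_ : W ∈ ind 𝒲 G) =>
    R.map f ⊓ ⁅f.range ⊓ normalizer ((W (R.map f) : Subgroup G) : Set G),
      f.range ⊓ normalizer ((W (R.map f) : Subgroup G) : Set G)⁆) _ ⟨W₀, hW₀, rfl⟩)
  have hle : (⊤ ⊓ normalizer ((Cfsg.inducedFunctor W₀ R : Subgroup X) : Set X)).map f ≤
      f.range ⊓ normalizer ((Cfsg.inducedFunctor W₀ (R.map f) : Subgroup G) : Set G) := by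
    refine le_inf (map_le_range f _) ?_
    rw [← map_induced (h𝒲 W₀ hW₀) hR hf.injOn]
    exact (map_mono inf_le_right).trans (le_normalizer_map f)
  refine (map_inf_le _ _ f).trans (inf_le_inf_left _ ?_)
  rw [map_commutator]
  exact commutator_mono hle hle

/-- transport along an isomorphism -/
theorem tctrl_congr {G X : Type u} [Group G] [Group X] [Finite G] [Finite X] (e : X ≃* G)
    (h : TCtrl p 𝒲 X) : TCtrl p 𝒲 G := by
  intro S
  let f : X →* G := e.toMonoidHom
  let S' := S.mapSurjective (f := e.symm.toMonoidHom) e.symm.surjective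
  have hS' : (S' : Subgroup X).map f = (S : Subgroup G) := by
    show ((S : Subgroup G).map e.symm.toMonoidHom).map e.toMonoidHom = _
    rw [map_map, show e.toMonoidHom.comp e.symm.toMonoidHom = MonoidHom.id G from
      MonoidHom.ext fun x => e.apply_symm_apply x, Subgroup.map_id]
  have h1 := (map_mono (f := f) (h S')).trans (map_tgt h𝒲 e.injective S'.2)
  rw [map_inf _ _ _ e.injective, hS', _root_.commutator_def, map_commutator,
    map_top_of_surjective f e.surjective] at h1
  rw [commutator_def]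
  exact h1.trans Cfsg.Lib.Control.tgtIn_le_top

/-- transfer in a subgroup, seen inside `G` -/
theorem transfer_in_subgroup {G : Type u} [Group G] [Finite G] {H R : Subgroup G} (hRH : R ≤ H)
    (hR : IsPGroup p R) (hnd : ¬ p ∣ R.relIndex H) (h : TCtrl p 𝒲 H) :
    R ⊓ ⁅H, H⁆ ≤ tgtIn (ind 𝒲 G) H R := by
  let R' : Sylow p H := (hR.comap_subtype (K := H)).toSylow hnd
  have hR' : (R' : Subgroup H).map H.subtype = R := map_subgroupOf_eq_of_le hRH
  have h1 := (map_mono (f := H.subtype) (h R')).trans (map_tgt h𝒲 H.subtype_injective R'.2)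
  rw [map_inf _ _ _ H.subtype_injective, hR', map_subtype_commutator, range_subtype] at h1
  exact h1

/-- the reduction -/
theorem ctrlT_main (n : ℕ) : ∀ (G : Type u) [Group G] [Finite G], Nat.card G = n →
    (∀ (L : Type u) [Group L] [Finite L], IsSection L G →
      centralizer (Cfsg.pCore p L : Set L) ≤ Cfsg.pCore p L →
      (∀ M : Subgroup L, M ≠ ⊤ → TCtrl p 𝒲 M) → ∀ S : Sylow p L,
      Cfsg.pCore p L ⊓ commutator L ≤ tgtIn (ind 𝒲 L) ⊤ (S : Subgroup L)) →
    TCtrl p 𝒲 G := by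
  induction n using Nat.strong_induction_on with
  | _ n ih =>
  intro G _ _ hG hcrit
  have ihsub : ∀ H : Subgroup G, H ≠ ⊤ → TCtrl p 𝒲 H := fun H hH =>
    ih (Nat.card H) (hG ▸ lt_of_le_of_ne (card_le_card_group H)
      (fun h => hH (H.eq_top_of_card_eq h))) H rfl fun L _ _ hL => hcrit L (hL.trans (IsSection.subgroup H))
  have ihquot : ∀ (N : Subgroup G) [N.Normal], N ≠ ⊥ → TCtrl p 𝒲 (G ⧸ N) := fun N _ hN =>
    ih (Nat.card (G ⧸ N)) (by
      rw [← hG, card_eq_card_quotient_mul_card_subgroup N]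
      exact lt_mul_of_one_lt_right Nat.card_pos ((one_lt_card_iff_ne_bot _).mpr hN)) (G ⧸ N) rfl
      fun L _ _ hL => hcrit L (hL.trans (IsSection.quotient N))
  intro S
  set D := tgtIn (ind 𝒲 G) ⊤ (S : Subgroup G) with hD
  set Q := Cfsg.pCore p G
  have hQp : IsPGroup p Q := Cfsg.Lib.Components.isPGroup_pCore p
  have hQS : Q ≤ (S : Subgroup G) := Cfsg.Lib.Thompson.le_sylow_of_normal hQp S
  have hM : ∀ M : Subgroup G, M ≠ ⊤ → (S : Subgroup G) ≤ M → (S : Subgroup G) ⊓ ⁅M, M⁆ ≤ D :=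
    fun M hM hSM => (transfer_in_subgroup h𝒲 hSM S.2 (fun hd => S.not_dvd_index
      (hd.trans (relIndex_dvd_index_of_le hSM))) (ihsub M hM)).trans Cfsg.Lib.Control.tgtIn_le_top
  -- up to a normal subgroup
  have hquot : ∀ (N : Subgroup G) [N.Normal], N ≠ ⊥ →
      (∀ W ∈ 𝒲, ∃ M : Subgroup G, (S : Subgroup G) ≤ M ∧ (S : Subgroup G) ⊓ ⁅M, M⁆ ≤ D ⊔ N ∧
        normalizer ((Cfsg.inducedFunctor W ((S : Subgroup G).map (QuotientGroup.mk' N)) : Subgroup (G ⧸ N)) :
          Set (G ⧸ N)) ≤ M.map (QuotientGroup.mk' N)) →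
      (S : Subgroup G) ⊓ commutator G ≤ D ⊔ N := by
    intro N _ hN hW
    set π := QuotientGroup.mk' N
    have hπ : Function.Surjective π := QuotientGroup.mk'_surjective N
    let S' := S.mapSurjective hπ
    have hS' : (S' : Subgroup (G ⧸ N)) = (S : Subgroup G).map π := rfl
    have h1 : ((S : Subgroup G) ⊓ commutator G).map π ≤ D.map π := by
      refine le_trans (le_trans (map_inf_le _ _ π) ?_) ((ihquot N hN S').trans ?_)
      · rw [hS', commutator_def, _root_.commutator_def, map_commutator, map_top_of_surjective π hπ]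
      · refine iSup₂_le fun W' hW' => ?_
        obtain ⟨W, hW₀, rfl⟩ := hW'
        obtain ⟨M, hSM, hMD, hMN⟩ := hW W hW₀
        refine le_trans (inf_le_inf_left _ (commutator_mono (inf_le_right.trans hMN) (inf_le_right.trans hMN))) ?_
        rw [hS', ← map_commutator]
        refine (map_inf_sylow S hSM (commutator_le_self M)
          (le_normalizer_iff_commutator_le_right.mpr ((commutator_mono le_rfl (commutator_le_self M)).trans le_rfl))).trans ?_
        refine (map_mono hMD).trans ?_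
        rw [Subgroup.map_sup, QuotientGroup.map_mk'_self, sup_bot_eq]
    refine (map_le_iff_le_comap.mp h1).trans (le_of_eq ?_)
    rw [comap_map_eq, QuotientGroup.ker_mk']
  by_cases hQ : Q = ⊥
  · -- no normal `p`-subgroup
    refine Cfsg.Lib.Control.transfer_of_local S (ind 𝒲 G) (ind_conj h𝒲)
      {U | U ≤ (S : Subgroup G) ∧ Cfsg.Lib.Control.Good p (S : Subgroup G) U} (fun U hU => hU.1)
      (fun T hT => ?_) (fun U hU hU1 => transfer_in_subgroup h𝒲 inf_le_right (S.2.to_le inf_le_left) hU.2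
        (ihsub _ fun htop => hU1 ?_))
    · obtain ⟨g, hg, hgood⟩ := Cfsg.Lib.Control.exists_good S hT
      exact ⟨_, ⟨hg, hgood⟩, ⟨g, rfl⟩, hgood⟩
    · haveI : U.Normal := normalizer_eq_top_iff.mp htop
      exact le_bot_iff.mp (hQ ▸ Cfsg.Lib.Components.le_pCore (S.2.to_le hU.1))
  by_cases hN : Cfsg.pPrimeCore p G ≠ ⊥
  · -- a normal `p'`-subgroup
    set N := Cfsg.pPrimeCore p G
    have hNc : (Nat.card N).Coprime p := Cfsg.Lib.Components.coprime_card_pPrimeCore p
    have hinj := Cfsg.Lib.ZJ.injOn_mk hNc S.2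
    have h1 := hquot N hN fun W hW => ⟨normalizer ((Cfsg.inducedFunctor W (S : Subgroup G) : Subgroup G) : Set G),
      le_normalizer.trans (normalizer_le_normalizer_induced (h𝒲 W hW) S.2), le_sup_of_le_left ?_, ?_⟩
    · intro x hx
      have hxS : x ∈ (S : Subgroup G) := hx.1
      obtain ⟨d, hd, m, hm, rfl⟩ := mem_sup_of_normal_right.mp (h1 hx)
      have hdS : d ∈ (S : Subgroup G) := (Cfsg.Lib.Control.tgtIn_le hd).1
      have hmS : m ∈ (S : Subgroup G) := by
        have := mul_mem (inv_mem hdS) hxS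
        rwa [inv_mul_cancel_left] at this
      rw [hinj hmS (one_mem _) ((QuotientGroup.eq_one_iff m).mpr hm |>.trans (map_one _).symm), mul_one]
      exact hd
    · refine le_trans (le_of_eq ?_) (le_iSup₂ (f := fun (W : Subgroup G → Subgroup G) (_ : W ∈ ind 𝒲 G) =>
        (S : Subgroup G) ⊓ ⁅⊤ ⊓ normalizer ((W (S : Subgroup G) : Subgroup G) : Set G),
          ⊤ ⊓ normalizer ((W (S : Subgroup G) : Subgroup G) : Set G)⁆) _ ⟨W, hW, rfl⟩)
      rw [top_inf_eq]
    · rw [← map_induced (h𝒲 W hW) S.2 hinj]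
      intro x hx
      obtain ⟨x, rfl⟩ := QuotientGroup.mk'_surjective N x
      set Z := Cfsg.inducedFunctor W (S : Subgroup G)
      have hZS : Z ≤ (S : Subgroup G) := induced_le _
      obtain ⟨j, hj⟩ := IsPGroup.iff_card.mp (S.2.to_le hZS)
      have hle : Cfsg.Lib.Coprime.conjMap x Z ≤ N ⊔ Z := by
        rintro _ ⟨y, hy, rfl⟩
        have : QuotientGroup.mk' N (x * y * x⁻¹) ∈ Z.map (QuotientGroup.mk' N) := by
          rw [map_mul, map_mul, map_inv]
          exact (mem_normalizer_iff.mp hx _).mp (mem_map_of_mem _ hy)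
        rw [← mem_comap, comap_map_eq, QuotientGroup.ker_mk', sup_comm] at this
        exact this
      obtain ⟨m, hm, hmZ⟩ := Cfsg.Lib.Coprime.exists_conj_eq_of_coprime
        (le_normalizer_of_normal) (by rw [hj]; exact hNc.pow_right j)
        (Or.inr (by haveI := (S.2.to_le hZS).isNilpotent; infer_instance))
        hle (Cfsg.Lib.Coprime.card_conjMap x Z)
      refine ⟨m⁻¹ * x, Cfsg.Lib.Coprime.conjMap_eq_self_iff.mp ?_, ?_⟩
      · rw [← Cfsg.Lib.Coprime.conjMap_mul, hmZ]
        exact Cfsg.Lib.Coprime.conjMap_inv_conjMap _ _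
      · rw [map_mul, map_inv, QuotientGroup.mk'_apply,
          (QuotientGroup.eq_one_iff m).mpr hm, inv_one, one_mul]
  push Not at hN
  -- modulo `Q`
  have hDQ : (S : Subgroup G) ⊓ commutator G ≤ D ⊔ Q := by
    by_cases hSQ : (S : Subgroup G) ≤ Q
    · exact inf_le_left.trans (hSQ.trans le_sup_right)
    refine hquot Q hQ fun W hW => ?_
    set π := QuotientGroup.mk' Q
    have hπ : Function.Surjective π := QuotientGroup.mk'_surjective Q
    let S' := S.mapSurjective hπ
    have hS' : (S' : Subgroup (G ⧸ Q)) = (S : Subgroup G).map π := rfl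
    set Z' := Cfsg.inducedFunctor W (S' : Subgroup (G ⧸ Q))
    have hSM : (S : Subgroup G) ≤ (normalizer (Z' : Set (G ⧸ Q))).comap π := by
      rw [← map_le_iff_le_comap, ← hS']
      exact le_normalizer.trans (normalizer_le_normalizer_induced (h𝒲 W hW) S'.2)
    refine ⟨(normalizer (Z' : Set (G ⧸ Q))).comap π, hSM, le_sup_of_le_left (hM _ ?_ hSM),
      (map_comap_eq_self_of_surjective hπ _).ge⟩
    intro htop
    have hn : normalizer (Z' : Set (G ⧸ Q)) = ⊤ := by
      rw [← map_comap_eq_self_of_surjective hπ (normalizer (Z' : Set (G ⧸ Q))), htop,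
        map_top_of_surjective π hπ]
    haveI : Z'.Normal := normalizer_eq_top_iff.mp hn
    haveI : (Z'.comap π).Normal := inferInstance
    have hSne : (S' : Subgroup (G ⧸ Q)) ≠ ⊥ := fun h => hSQ (by
      rw [hS', Subgroup.map_eq_bot_iff, QuotientGroup.ker_mk'] at h
      exact h)
    have hZS : Z'.comap π ≤ (S : Subgroup G) :=
      (comap_mono (induced_le _)).trans (by rw [hS', comap_map_eq, QuotientGroup.ker_mk', sup_eq_left.mpr hQS])
    refine induced_ne_bot (h𝒲 W hW) S'.2 hSne ?_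
    show Z' = ⊥
    rw [← map_comap_eq_self_of_surjective hπ Z', Subgroup.map_eq_bot_iff, QuotientGroup.ker_mk']
    exact Cfsg.Lib.Components.le_pCore (S.2.to_le hZS)
  suffices hQD : Q ⊓ commutator G ≤ D by
    intro x hx
    obtain ⟨d, hd, q, hq, rfl⟩ := mem_sup_of_normal_right.mp (hDQ hx)
    refine mul_mem hd (hQD ⟨hq, ?_⟩)
    have hdG : d ∈ commutator G := by
      have h := (Cfsg.Lib.Control.tgtIn_le hd).2
      rwa [← commutator_def] at h
    have := mul_mem (inv_mem hdG) hx.2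
    rwa [inv_mul_cancel_left] at this
  by_cases hcon : centralizer (Q : Set G) ≤ Q
  · exact hcrit G (IsSection.refl G) hcon ihsub S
  set C := centralizer (Q : Set G)
  haveI : C.Normal := normal_centralizer
  set N₁ := normalizer (((S : Subgroup G) ⊓ C : Subgroup G) : Set G)
  have hN₁ : N₁ ≠ ⊤ := normalizer_inf_centralizer_ne_top S hN hcon
  have hSN₁ : (S : Subgroup G) ≤ N₁ :=
    Cfsg.Lib.Coprime.le_normalizer_inf le_normalizer le_normalizer_of_normal
  have hfr := Cfsg.Lib.ZJ.sup_normalizer_inf_eq_top C S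
  refine Cfsg.Lib.Control.inf_commutator_le_of_central S ?_ hQS fun q hq g => ?_
  · exact (le_inf (commutator_le_self _) (commutator_mono hSN₁ hSN₁)).trans (hM N₁ hN₁ hSN₁)
  obtain ⟨c, hc, k, hk, rfl⟩ := mem_sup_of_normal_left.mp (hfr.ge (mem_top g))
  have hqk : ⁅q, k⁆ ∈ Q := by
    rw [show ⁅q, k⁆ = q * (k * q⁻¹ * k⁻¹) by simp only [commutatorElement_def]; group]
    exact mul_mem hq (Normal.conj_mem inferInstance _ (inv_mem hq) k)
  have h1 : ⁅q, c * k⁆ = ⁅q, k⁆ := by
    have h2 : q * c = c * q := mem_centralizer_iff.mp hc q hq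
    have h3 : ⁅q, k⁆ * c = c * ⁅q, k⁆ := mem_centralizer_iff.mp hc _ hqk
    calc ⁅q, c * k⁆ = (q * c) * (k * q⁻¹ * k⁻¹ * c⁻¹) := by simp only [commutatorElement_def]; group
      _ = (c * ⁅q, k⁆) * c⁻¹ := by rw [h2]; simp only [commutatorElement_def]; group
      _ = _ := by rw [← h3, mul_inv_cancel_right]
  rw [h1]
  exact hM N₁ hN₁ hSN₁ ⟨hQS hqk, commutator_mem_commutator (hSN₁ (hQS hq)) hk⟩

end hom

end Cfsg.Lib.Functor
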