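import Cfsg.Agent.Components.Functor.Transfer

/-!
Statements about control of transfer in sections.
-/

set_option linter.style.haveILetI false
set_option linter.unusedSectionVars false

namespace Cfsg.Lib.Functor

open Subgroup
open scoped commutatorElement
open Cfsg.Lib.Control (tgtIn)

universe u

variable {p : ℕ} [Fact p.Prime] {𝒲 : Set (∀ (Q : Type u) [Group Q], Subgroup Q)}

theorem mapSurjective_coe_symm {L L' : Type u} [Group L] [Group L'] [Finite L] [Finite L'] (e : L' ≃* L)
    (S : Sylow p L) :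
    ((S.mapSurjective (f := e.symm.toMonoidHom) e.symm.surjective : Sylow p L') : Subgroup L').map e.toMonoidHom =
      (S : Subgroup L) := by
  show ((S : Subgroup L).map e.symm.toMonoidHom).map e.toMonoidHom = _
  rw [map_map, show e.toMonoidHom.comp e.symm.toMonoidHom = MonoidHom.id L from
    MonoidHom.ext fun x => e.apply_symm_apply x, Subgroup.map_id]

/-- the hypothesis of `ctrlT_main` from the sections `K / R` -/
theorem critT_of_sections (h𝒲 : ∀ W ∈ 𝒲, Cfsg.IsCharPFunctor.{u} p W) {G : Type u} [Group G] [Finite G]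
    (h : ∀ (K R : Subgroup G) [(R.subgroupOf K).Normal],
      centralizer (Cfsg.pCore p (K ⧸ R.subgroupOf K) : Set (K ⧸ R.subgroupOf K)) ≤
          Cfsg.pCore p (K ⧸ R.subgroupOf K) →
      (∀ M : Subgroup (K ⧸ R.subgroupOf K), M ≠ ⊤ → TCtrl p 𝒲 M) →
      ∀ S : Sylow p (K ⧸ R.subgroupOf K),
        Cfsg.pCore p (K ⧸ R.subgroupOf K) ⊓ commutator (K ⧸ R.subgroupOf K) ≤
          tgtIn (ind 𝒲 (K ⧸ R.subgroupOf K)) ⊤ (S : Subgroup (K ⧸ R.subgroupOf K))) :
    ∀ (L : Type u) [Group L] [Finite L], IsSection L G →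
      centralizer (Cfsg.pCore p L : Set L) ≤ Cfsg.pCore p L →
      (∀ M : Subgroup L, M ≠ ⊤ → TCtrl p 𝒲 M) → ∀ S : Sylow p L,
      Cfsg.pCore p L ⊓ commutator L ≤ tgtIn (ind 𝒲 L) ⊤ (S : Subgroup L) := by
  intro L _ _ hL hc hM S
  obtain ⟨K, R, hR, ⟨e⟩⟩ := hL.exists_quotient
  haveI := hR
  have h1 := h K R (charP_congr e.symm hc) (fun M hMne => tctrl_congr h𝒲 (e.subgroupMap M).symm (hM _ (fun h0 => hMne (by
      rw [← comap_map_eq_self_of_injective (f := e.toMonoidHom) e.injective M, show M.map e.toMonoidHom = ⊤ from h0, comap_top]))))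
    (S.mapSurjective (f := e.symm.toMonoidHom) e.symm.surjective)
  have h2 := (map_mono (f := e.toMonoidHom) h1).trans
    ((map_tgt h𝒲 (f := e.toMonoidHom) e.injective (Sylow.isPGroup' _)).trans Cfsg.Lib.Control.tgtIn_le_top)
  rw [mapSurjective_coe_symm, map_inf _ _ _ e.injective, _root_.commutator_def, map_commutator,
    map_top_of_surjective e.toMonoidHom e.surjective] at h2
  rw [_root_.commutator_def]
  refine le_trans (inf_le_inf_right _ ?_) h2
  refine le_of_eq ?_
  apply le_antisymm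
  · intro x hx
    exact ⟨e.symm x, Cfsg.Lib.ZJ.map_pCore_le (f := e.symm.toMonoidHom) e.symm.surjective ⟨x, hx, rfl⟩, e.apply_symm_apply x⟩
  · exact Cfsg.Lib.ZJ.map_pCore_le (f := e.toMonoidHom) e.surjective

theorem tctrl_of_family (h𝒲 : ∀ W ∈ 𝒲, Cfsg.IsCharPFunctor.{u} p W) {G : Type u} [Group G] [Finite G]
    (h : Cfsg.FamilyControlsTransferIn p (ind 𝒲 G) ⊤) : TCtrl p 𝒲 G := fun S => by
  have h1 := Cfsg.Lib.Control.le_tgtIn_of_controls (ind_conj h𝒲) h le_top S.2
    (by rw [relIndex_top_right]; exact S.not_dvd_index)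
  rwa [← _root_.commutator_def] at h1

theorem family_of_tctrl {G : Type u} [Group G] [Finite G] (h : TCtrl p 𝒲 G) :
    Cfsg.FamilyControlsTransferIn p (ind 𝒲 G) ⊤ :=
  Cfsg.Lib.Control.familyControls_of_le default (h default)

theorem ind_singleton (W : ∀ (Q : Type u) [Group Q], Subgroup Q) (G : Type u) [Group G] :
    ind ({W} : Set (∀ (Q : Type u) [Group Q], Subgroup Q)) G = {Cfsg.inducedFunctor (G := G) W} :=
  Set.image_singleton

theorem controls_of_tctrl {W : ∀ (Q : Type u) [Group Q], Subgroup Q} {G : Type u} [Group G] [Finite G]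
    (h : TCtrl p {W} G) : Cfsg.ControlsTransferIn p (Cfsg.inducedFunctor (G := G) W) ⊤ :=
  Cfsg.Lib.Control.family_singleton_iff.mp (ind_singleton W G ▸ family_of_tctrl h)

theorem singleton_charP {W : ∀ (Q : Type u) [Group Q], Subgroup Q} (hW : Cfsg.IsCharPFunctor.{u} p W) :
    ∀ W' ∈ ({W} : Set (∀ (Q : Type u) [Group Q], Subgroup Q)), Cfsg.IsCharPFunctor.{u} p W' := by
  intro W' hW'
  rw [Set.mem_singleton_iff.mp hW']
  exact hW

/-- equality form for one functor -/
theorem inf_commutator_eq {W : ∀ (Q : Type u) [Group Q], Subgroup Q} {G : Type u} [Group G] [Finite G]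
    (h : TCtrl p {W} G) (S : Sylow p G) :
    (S : Subgroup G) ⊓ commutator G = (S : Subgroup G) ⊓
      ⁅normalizer ((Cfsg.inducedFunctor W (S : Subgroup G) : Subgroup G) : Set G),
        normalizer ((Cfsg.inducedFunctor W (S : Subgroup G) : Subgroup G) : Set G)⁆ := by
  have h1 := h S
  rw [ind_singleton] at h1
  simp only [tgtIn, Set.mem_singleton_iff, iSup_iSup_eq_left, top_inf_eq] at h1
  refine le_antisymm (le_inf inf_le_left (h1.trans inf_le_right)) (inf_le_inf_left _ ?_)
  rw [_root_.commutator_def]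
  exact commutator_mono le_top le_top

/-- elements of degree `p - 1` outside `O_p` give control of transfer -/
theorem tctrl_of_degree {W : ∀ (Q : Type u) [Group Q], Subgroup Q} (hW : Cfsg.IsCharPFunctor.{u} p W)
    {G : Type u} [Group G] [Finite G]
    (h : ∀ (L : Type u) [Group L] [Finite L], IsSection L G →
      centralizer (Cfsg.pCore p L : Set L) ≤ Cfsg.pCore p L → ∀ T : Sylow p L,
      ¬ (Cfsg.inducedFunctor (G := L) W (T : Subgroup L)).Normal →
      ∃ g : L, g ∈ (T : Subgroup L) ∧ g ∉ Cfsg.pCore p L ∧ ∀ U V : Subgroup L, Cfsg.IsChiefFactor U V →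
        U ≤ Cfsg.pCore p L → Cfsg.iterCommutator U (zpowers g) (p - 1) ≤ V) : TCtrl p {W} G := by
  refine ctrlT_main (singleton_charP hW) _ G rfl fun L _ _ hL hc hMsub S => ?_
  have hQS : Cfsg.pCore p L ≤ (S : Subgroup L) :=
    Cfsg.Lib.Thompson.le_sylow_of_normal (Cfsg.Lib.Components.isPGroup_pCore p) S
  by_cases hn : (Cfsg.inducedFunctor (G := L) W (S : Subgroup L)).Normal
  · rw [ind_singleton]
    simp only [tgtIn, Set.mem_singleton_iff, iSup_iSup_eq_left]
    rw [normalizer_eq_top_iff.mpr hn, top_inf_eq, ← _root_.commutator_def]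
    exact inf_le_inf_right _ hQS
  obtain ⟨g, hgS, hgQ, hdeg⟩ := h L hL hc S hn
  set N := normalizer ((Cfsg.inducedFunctor (G := L) W (S : Subgroup L) : Subgroup L) : Set L)
  have hSN : (S : Subgroup L) ≤ N := le_normalizer.trans (normalizer_le_normalizer_induced hW S.2)
  refine Cfsg.Lib.Control.inf_commutator_le_of_degree S ?_ (fun M hM hSM => ?_) hgS hgQ hdeg
  · rw [ind_singleton]
    simp only [tgtIn, Set.mem_singleton_iff, iSup_iSup_eq_left, top_inf_eq]
    exact le_inf (commutator_le_self _) (commutator_mono hSN hSN)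
  · exact (transfer_in_subgroup (singleton_charP hW) hSM S.2 (fun hd => S.not_dvd_index
      (hd.trans (relIndex_dvd_index_of_le hSM))) (hMsub M hM)).trans Cfsg.Lib.Control.tgtIn_le_top

end Cfsg.Lib.Functor
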