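import Cfsg.Agent.Components.Functor.Fusion
import Cfsg.Agent.Components.Misc.Kieler
import Cfsg.Prelude.Def_Amalgam

/-!
Fusion from a triple factorization of the constrained sections.
-/

set_option autoImplicit false
set_option linter.style.haveILetI false
set_option linter.unusedSectionVars false

namespace Cfsg.Lib.Triple

open Subgroup Cfsg.Lib.Functor
open Cfsg.Lib.Control (img Chain StepIn Agree img_subset_iff img_img)

universe u

variable {p : ℕ} [Fact p.Prime]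

/-- `Ω₁(Z(S))` -/
def omZ {G : Type u} [Group G] (p : ℕ) (S : Subgroup G) : Subgroup G :=
  Cfsg.omegaOne p (S ⊓ centralizer (S : Set G))

theorem omZ_le {G : Type u} [Group G] (S : Subgroup G) : omZ p S ≤ S ⊓ centralizer (S : Set G) :=
  (closure_le _).2 fun _ hx => hx.1

theorem omZ_pow {G : Type u} [Group G] (S : Subgroup G) {x : G} (hx : x ∈ omZ p S) : x ^ p = 1 := by
  induction hx using Subgroup.closure_induction with
  | mem x hx => exact hx.2
  | one => exact one_pow p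
  | mul x y hx hy ha hb =>
    have hc : Commute x y := (mem_centralizer_iff.1 (omZ_le S hx).2 y (omZ_le S hy).1).symm
    rw [hc.mul_pow, ha, hb, one_mul]
  | inv x _ ha => rw [inv_pow, ha, inv_one]

theorem norm_closure {G : Type u} [Group G] {K : Subgroup G} {S : Set G}
    (h : ∀ k ∈ K, ∀ x ∈ S, k * x * k⁻¹ ∈ closure S) : K ≤ normalizer (closure S : Set G) := by
  have key : ∀ k ∈ K, ∀ x ∈ closure S, k * x * k⁻¹ ∈ closure S := fun k hk x hx =>
    (closure_le ((closure S).comap ((MulAut.conj k : G ≃* G) : G →* G))).2 (h k hk) hx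
  intro k hk
  rw [mem_normalizer_iff]
  intro x
  refine ⟨key k hk x, fun hx => ?_⟩
  have := key k⁻¹ (inv_mem hk) _ hx
  simpa [mul_assoc] using this

theorem self_le_norm_pCoreOf {G : Type u} [Group G] (p : ℕ) (N : Subgroup G) :
    N ≤ normalizer (Cfsg.pCoreOf p N : Set G) := by
  refine (normal_subgroupOf_iff_le_normalizer (map_subtype_le _)).1 ?_
  show (((Cfsg.pCore p N).map N.subtype).comap N.subtype).Normal
  rw [comap_map_eq_self_of_injective N.subtype_injective]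
  infer_instance

theorem le_pCoreOf {G : Type u} [Group G] [Finite G] {A N : Subgroup G} (hAN : A ≤ N) (hA : IsPGroup p A)
    (hn : N ≤ normalizer (A : Set G)) : A ≤ Cfsg.pCoreOf p N := by
  haveI : (A.subgroupOf N).Normal := normal_subgroupOf_of_le_normalizer hn
  rw [← map_subgroupOf_eq_of_le hAN]
  exact Subgroup.map_mono (Cfsg.Lib.Components.le_pCore (hA.of_equiv (subgroupOfEquivOfLe hAN).symm))

section main

variable {G : Type u} [Group G] [Finite G] {W : ∀ (Q : Type u) [Group Q], Subgroup Q}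

theorem le_normalizer_induced (hW : Cfsg.IsCharPFunctor.{u} p W) {T : Subgroup G} (hT : IsPGroup p T) :
    normalizer (T : Set G) ≤ normalizer ((Cfsg.inducedFunctor W T : Subgroup G) : Set G) := fun x hx => by
  rw [← Cfsg.Lib.Transfer.map_conj_eq_self_iff] at hx ⊢
  rw [← (isConjugacyFunctor_induced hW T hT).2.2 x, hx]

/-- the factorization of a subgroup whose core contains `Ω₁Z(S)` -/
theorem local_factor (hW : Cfsg.IsCharPFunctor.{u} p W) (S : Sylow p G)
    (hfac : ∀ (K R : Subgroup G) [(R.subgroupOf K).Normal],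
      centralizer (Cfsg.pCore p (K ⧸ R.subgroupOf K) : Set (K ⧸ R.subgroupOf K)) ≤
          Cfsg.pCore p (K ⧸ R.subgroupOf K) → ∀ (T : Sylow p (K ⧸ R.subgroupOf K)) (x : K ⧸ R.subgroupOf K),
        ∃ a ∈ centralizer (omZ p (T : Subgroup (K ⧸ R.subgroupOf K)) : Set (K ⧸ R.subgroupOf K)),
        ∃ b ∈ normalizer ((Cfsg.inducedFunctor W (T : Subgroup (K ⧸ R.subgroupOf K)) :
          Subgroup (K ⧸ R.subgroupOf K)) : Set (K ⧸ R.subgroupOf K)), x = a * b) :
    ∀ N : Subgroup G, (S : Subgroup G) ≤ N → omZ p (S : Subgroup G) ≤ Cfsg.pCoreOf p N → ∀ x ∈ N,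
      ∃ a ∈ N ⊓ centralizer (omZ p (S : Subgroup G) : Set G),
        ∃ b ∈ N ⊓ normalizer ((Cfsg.inducedFunctor W (S : Subgroup G) : Subgroup G) : Set G), x = a * b := by
  set Z := omZ p (S : Subgroup G) with hZdef
  set W₀ := Cfsg.inducedFunctor W (S : Subgroup G) with hW₀
  have hSW : (S : Subgroup G) ≤ normalizer (W₀ : Set G) := le_normalizer.trans (le_normalizer_induced hW S.2)
  intro N
  induction hm : Nat.card N using Nat.strong_induction_on generalizing N with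
  | _ m ih =>
  intro hSN hZQ x hx
  set Q := Cfsg.pCoreOf p N with hQdef
  have hQN : Q ≤ N := map_subtype_le _
  have hQp : IsPGroup p Q := (Cfsg.Lib.Components.isPGroup_pCore p).map _
  have hNQ : N ≤ normalizer (Q : Set G) := self_le_norm_pCoreOf p N
  set SN : Sylow p N := S.subtype hSN
  have hSNc : ∀ z : N, z ∈ (SN : Subgroup N) ↔ (z : G) ∈ (S : Subgroup G) := fun z => Iff.rfl
  have hQS : Q ≤ (S : Subgroup G) := by
    rintro _ ⟨z, hz, rfl⟩
    exact (hSNc z).1 (Cfsg.Lib.Thompson.le_sylow_of_normal (Cfsg.Lib.Components.isPGroup_pCore p) SN hz)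
  set C := N ⊓ centralizer (Q : Set G) with hC
  have hNC : N ≤ normalizer (C : Set G) :=
    Cfsg.Lib.Coprime.le_normalizer_inf le_normalizer
      (hNQ.trans (Cfsg.Lib.Thompson.normalizer_le_normalizer_centralizer Q))
  have hCZ : C ≤ centralizer (Z : Set G) := inf_le_right.trans (centralizer_le hZQ)
  set S₀ := (S : Subgroup G) ⊓ C with hS₀
  by_cases hcent : S₀ ≤ Q
  swap
  · -- Frattini argument
    set N' := N ⊓ normalizer (S₀ : Set G)
    have hSN' : (S : Subgroup G) ≤ N' :=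
      le_inf hSN (Cfsg.Lib.Coprime.le_normalizer_inf le_normalizer (hSN.trans hNC))
    have hne : Nat.card N' < m := by
      rw [← hm]
      refine lt_of_le_of_ne (card_le_of_le inf_le_left) fun e => hcent ?_
      have := eq_of_le_of_card_ge (inf_le_left : N' ≤ N) e.ge
      exact le_pCoreOf (inf_le_left.trans hSN) (S.2.to_le inf_le_left) (this.ge.trans inf_le_right)
    haveI : (C.subgroupOf N).Normal := normal_subgroupOf_of_le_normalizer hNC
    obtain ⟨QC, hQC⟩ := Cfsg.Lib.Kieler.exists_sylow_of_subnormal SN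
      (inferInstance : (C.subgroupOf N).Normal).isSubnormal
    have hQC' : (QC : Subgroup (C.subgroupOf N)).map (C.subgroupOf N).subtype = S₀.subgroupOf N := by
      rw [hQC, subgroupOf_map_subtype]
      exact Subgroup.ext fun z => ⟨fun h => ⟨(hSNc z).1 h.1, h.2⟩, fun h => ⟨(hSNc z).2 h.1, h.2⟩⟩
    have hfr := Sylow.normalizer_sup_eq_top (N := C.subgroupOf N) QC
    rw [hQC', sup_comm] at hfr
    obtain ⟨c, hc, b, hb, hcb⟩ := mem_sup_of_normal_left.1 (hfr.ge (mem_top (⟨x, hx⟩ : N)))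
    have hS₀N : S₀ ≤ N := inf_le_left.trans hSN
    have hbN' : (b : G) ∈ N' := by
      refine ⟨b.2, mem_normalizer_iff.2 fun z => ⟨fun hz => ?_, fun hz => ?_⟩⟩
      · exact ((mem_normalizer_iff.1 hb ⟨z, hS₀N hz⟩).1 (mem_subgroupOf.2 hz) : _)
      · have hzN : z ∈ N := by
          have := mul_mem (mul_mem (inv_mem b.2) (hS₀N hz)) b.2
          simpa [mul_assoc] using this
        exact mem_subgroupOf.1 ((mem_normalizer_iff.1 hb ⟨z, hzN⟩).2 (mem_subgroupOf.2 hz))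
    have hZ' : Z ≤ Cfsg.pCoreOf p N' :=
      hZQ.trans (le_pCoreOf (hQS.trans hSN') hQp (inf_le_left.trans hNQ))
    obtain ⟨a, ha, b', hb', hab⟩ := ih _ hne N' rfl hSN' hZ' _ hbN'
    refine ⟨(c : G) * a, ⟨mul_mem c.2 ha.1.1, mul_mem (hCZ hc) ha.2⟩, b', ⟨hb'.1.1, hb'.2⟩, ?_⟩
    have e : (c : G) * b = x := congrArg Subtype.val hcb
    rw [← e, hab, mul_assoc]
  -- the `p'`-elements of `C`
  set R := closure {y : G | y ∈ C ∧ (orderOf y).Coprime p} with hR
  have hRC : R ≤ C := (closure_le _).2 fun y hy => hy.1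
  have hRN : R ≤ N := hRC.trans inf_le_left
  have hNR : N ≤ normalizer (R : Set G) := norm_closure fun k hk y hy => subset_closure
    ⟨(mem_normalizer_iff.1 (hNC hk) y).1 hy.1, by
      rw [show k * y * k⁻¹ = (MulAut.conj k : G ≃* G) y from rfl, MulEquiv.orderOf_eq]; exact hy.2⟩
  set Z₀ := S₀.subgroupOf C with hZ₀
  have hZ₀c : ∀ z ∈ Z₀, ∀ c : C, z * c = c * z := fun z hz c =>
    Subtype.ext (mem_centralizer_iff.1 c.2.2 (z : G) (hcent (mem_subgroupOf.1 hz)))
  haveI hZ₀n : Z₀.Normal := ⟨fun z hz c => by rw [← hZ₀c z hz c, mul_inv_cancel_right]; exact hz⟩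
  have hZ₀p : IsPGroup p Z₀ := (S.2.to_le inf_le_left).of_equiv (subgroupOfEquivOfLe (inf_le_right : S₀ ≤ C)).symm
  have hidx : ¬ p ∣ Z₀.index := by
    haveI : (C.subgroupOf N).Normal := normal_subgroupOf_of_le_normalizer hNC
    obtain ⟨QC, hQC⟩ := Cfsg.Lib.Kieler.exists_sylow_of_subnormal SN
      (inferInstance : (C.subgroupOf N).Normal).isSubnormal
    intro hd
    refine QC.not_dvd_index (dvd_trans hd (dvd_of_eq ?_))
    have e : Z₀ = (QC : Subgroup (C.subgroupOf N)).map (subgroupOfEquivOfLe (inf_le_left : C ≤ N)).toMonoidHom := by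
      ext z
      rw [mem_map_equiv, hQC, mem_subgroupOf, mem_subgroupOf]
      exact ⟨fun h => h.1, fun h => ⟨h, z.2⟩⟩
    rw [e]
    exact index_map_equiv _ (subgroupOfEquivOfLe (inf_le_left : C ≤ N))
  have hcop : (Nat.card Z₀).Coprime Z₀.index := by
    obtain ⟨k, hk⟩ := IsPGroup.iff_card.1 hZ₀p
    rw [hk]
    exact ((Fact.out : p.Prime).coprime_iff_not_dvd.2 hidx).pow_left k
  obtain ⟨M, hM⟩ := exists_right_complement'_of_coprime hcop
  have hMcard : Nat.card M = Z₀.index := hM.symm.index_eq_card.symm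
  have hRM : ∀ y : C, (orderOf (y : G)).Coprime p → y ∈ M := by
    intro y hy
    obtain ⟨⟨z, n⟩, hzn⟩ := hM.2 y
    have e : (z : C) * n = y := hzn
    have hcm : Commute (z : C) (n : C) := hZ₀c z z.2 n
    obtain ⟨i, hi⟩ := hZ₀p z
    have hz1 : (z : C) = 1 := by
      refine orderOf_eq_one_iff.1 (Nat.eq_one_of_dvd_coprimes (a := p ^ i) (b := orderOf y * Z₀.index) ?_
        (orderOf_dvd_of_pow_eq_one (congrArg Subtype.val hi)) ?_)
      · refine Nat.Coprime.pow_left i (Nat.Coprime.mul_right ?_ ((Fact.out : p.Prime).coprime_iff_not_dvd.2 hidx))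
        rw [← orderOf_coe]; exact hy.symm
      · refine orderOf_dvd_of_pow_eq_one ?_
        have hz : (z : C) = y * (n : C)⁻¹ := by rw [← e, mul_inv_cancel_right]
        have hcy : Commute y (n : C)⁻¹ := by rw [← e]; exact (hcm.mul_left (Commute.refl _)).inv_right
        rw [hz, hcy.mul_pow, pow_mul, pow_orderOf_eq_one, one_pow, one_mul, inv_pow, inv_eq_one,
          mul_comm, pow_mul]
        have : (n : C) ^ Z₀.index = 1 := by
          rw [← hMcard]
          exact congrArg Subtype.val (pow_card_eq_one' (x := n))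
        rw [this, one_pow]
    rw [hz1, one_mul] at e
    exact e ▸ n.2
  have hRM' : R ≤ M.map C.subtype := (closure_le _).2 fun y hy => ⟨⟨y, hy.1⟩, hRM ⟨y, hy.1⟩ hy.2, rfl⟩
  have hRcop : (Nat.card R).Coprime p := by
    refine Nat.Coprime.coprime_dvd_left (card_dvd_of_le hRM') ?_
    rw [card_map_of_injective C.subtype_injective, hMcard]
    exact ((Fact.out : p.Prime).coprime_iff_not_dvd.2 hidx).symm
  have hone : ∀ y ∈ R, (∃ A : Subgroup G, IsPGroup p A ∧ y ∈ A) → y = 1 := by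
    rintro y hy ⟨A, hA, hyA⟩
    obtain ⟨i, hi⟩ := hA ⟨y, hyA⟩
    exact orderOf_eq_one_iff.1 (Nat.eq_one_of_dvd_coprimes ((hRcop.pow_right i).symm)
      (orderOf_dvd_of_pow_eq_one (congrArg Subtype.val hi)) (orderOf_dvd_natCard R hy))
  have hCR : ∀ y ∈ C, ∃ z ∈ S₀, ∃ r ∈ R, y = z * r := by
    intro y hy
    obtain ⟨⟨z, n⟩, hzn⟩ := hM.2 ⟨y, hy⟩
    refine ⟨((z : C) : G), z.2, ((n : C) : G), subset_closure ⟨(n : C).2, ?_⟩, (congrArg Subtype.val hzn).symm⟩
    have h1 : orderOf ((n : C) : G) ∣ Z₀.index := by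
      rw [← hMcard, orderOf_coe]; exact orderOf_dvd_natCard M n.2
    exact (((Fact.out : p.Prime).coprime_iff_not_dvd.2 hidx).symm).coprime_dvd_left h1
  -- the quotient
  haveI hRn : (R.subgroupOf N).Normal := normal_subgroupOf_of_le_normalizer hNR
  set q := QuotientGroup.mk' (R.subgroupOf N)
  have hq : ∀ y : N, q y = 1 ↔ (y : G) ∈ R := fun y => (QuotientGroup.eq_one_iff y).trans mem_subgroupOf
  have hqinj : ∀ A : Subgroup G, IsPGroup p A → Set.InjOn q (A.subgroupOf N : Set N) := by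
    intro A hA u hu v hv huv
    have h1 : q (u⁻¹ * v) = 1 := by rw [map_mul, map_inv, huv, inv_mul_cancel]
    have := hone _ ((hq _).1 h1) ⟨A, hA, mul_mem (inv_mem hu) hv⟩
    exact inv_mul_eq_one.1 (Subtype.ext this)
  have hQbar : (Q.subgroupOf N).map q ≤ Cfsg.pCore p (N ⧸ R.subgroupOf N) := by
    haveI : (Q.subgroupOf N).Normal := normal_subgroupOf_of_le_normalizer hNQ
    haveI := (inferInstance : (Q.subgroupOf N).Normal).map q (QuotientGroup.mk'_surjective _)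
    exact Cfsg.Lib.Components.le_pCore ((hQp.of_equiv (subgroupOfEquivOfLe hQN).symm).map q)
  have hfix : ∀ (y : N) (v : G) (hv : v ∈ Q), q y * q ⟨v, hQN hv⟩ = q ⟨v, hQN hv⟩ * q y →
      (y : G) * v = v * y := by
    intro y v hv h
    have h1 : q (y * ⟨v, hQN hv⟩ * y⁻¹ * (⟨v, hQN hv⟩ : N)⁻¹) = 1 := by
      rw [map_mul, map_mul, map_mul, map_inv, map_inv, h, mul_inv_cancel_right, mul_inv_cancel]
    have h2 : (y : G) * v * (y : G)⁻¹ * v⁻¹ = 1 := hone _ ((hq _).1 h1)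
      ⟨Q, hQp, mul_mem ((mem_normalizer_iff.1 (hNQ y.2) v).1 hv) (inv_mem hv)⟩
    calc (y : G) * v = (y : G) * v * (y : G)⁻¹ * v⁻¹ * v * y := by group
      _ = v * y := by rw [h2, one_mul]
  have hcons : centralizer (Cfsg.pCore p (N ⧸ R.subgroupOf N) : Set (N ⧸ R.subgroupOf N)) ≤
      Cfsg.pCore p (N ⧸ R.subgroupOf N) := by
    intro y hy
    obtain ⟨y, rfl⟩ := QuotientGroup.mk'_surjective _ y
    have hyC : (y : G) ∈ C := ⟨y.2, mem_centralizer_iff.2 fun v hv => (hfix y v hv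
      (mem_centralizer_iff.1 hy _ (hQbar (mem_map_of_mem q (mem_subgroupOf.2 hv)))).symm).symm⟩
    obtain ⟨z, hz, r, hr, hzr⟩ := hCR _ hyC
    refine hQbar ⟨⟨z, hQN (hcent hz)⟩, hcent hz, ?_⟩
    have e : y = ⟨z, hQN (hcent hz)⟩ * ⟨r, hRN hr⟩ := Subtype.ext hzr
    rw [e, map_mul, (hq ⟨r, hRN hr⟩).2 hr, mul_one]
  set T := SN.mapSurjective (QuotientGroup.mk'_surjective (R.subgroupOf N)) with hT
  have hTc : (T : Subgroup (N ⧸ R.subgroupOf N)) = (SN : Subgroup N).map q := rfl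
  obtain ⟨a', ha', b', hb', hab⟩ := hfac N R hcons T (q ⟨x, hx⟩)
  obtain ⟨a, rfl⟩ := QuotientGroup.mk'_surjective _ a'
  obtain ⟨b, rfl⟩ := QuotientGroup.mk'_surjective _ b'
  have haZ : (a : G) ∈ centralizer (Z : Set G) := by
    refine mem_centralizer_iff.2 fun z hz => (hfix a z (hZQ hz) ?_).symm
    refine (mem_centralizer_iff.1 ha' _ (subset_closure ⟨⟨?_, ?_⟩, ?_⟩)).symm
    · exact mem_map_of_mem q ((hSNc _).2 (omZ_le _ hz).1)
    · refine mem_centralizer_iff.2 ?_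
      rintro _ ⟨s, hs, rfl⟩
      rw [← map_mul, ← map_mul]
      exact congrArg q (Subtype.ext (mem_centralizer_iff.1 (omZ_le _ hz).2 _ ((hSNc s).1 hs)))
    · rw [← map_pow]
      exact (hq _).2 (by
        show z ^ p ∈ R
        rw [omZ_pow _ hz]; exact one_mem R)
  -- `b` normalizes `W₀` modulo `R`
  have hW₀S : W₀ ≤ (S : Subgroup G) := induced_le _
  have hW₀p : IsPGroup p W₀ := S.2.to_le hW₀S
  have hWN : Cfsg.inducedFunctor W (SN : Subgroup N) = W₀.subgroupOf N := by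
    have h := map_induced hW SN.2 (f := N.subtype) N.subtype_injective.injOn
    have e : (SN : Subgroup N).map N.subtype = (S : Subgroup G) := map_subgroupOf_eq_of_le hSN
    rw [e] at h
    rw [hW₀, ← h, subgroupOf, comap_map_eq_self_of_injective N.subtype_injective]
  have hWbar : Cfsg.inducedFunctor W (T : Subgroup (N ⧸ R.subgroupOf N)) = (W₀.subgroupOf N).map q := by
    rw [← hWN, hTc, map_induced hW SN.2 (hqinj _ S.2)]
  rw [hWbar] at hb'
  set M₀ := R ⊔ W₀ with hM₀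
  have hW₀R : W₀ ≤ normalizer (R : Set G) := (hW₀S.trans hSN).trans hNR
  have hbM : W₀.map (MulAut.conj (b : G)).toMonoidHom ≤ M₀ := by
    rintro _ ⟨w, hw, rfl⟩
    obtain ⟨w', hw', e⟩ := (mem_normalizer_iff.1 hb' (q ⟨w, hSN (hW₀S hw)⟩)).1 (mem_map_of_mem q hw)
    have h1 : q (b * ⟨w, hSN (hW₀S hw)⟩ * b⁻¹ * w'⁻¹) = 1 := by
      rw [map_mul, map_mul, map_mul, map_inv, map_inv, e, mul_inv_cancel]
    have h2 := mul_mem_sup ((hq _).1 h1) (show (w' : G) ∈ W₀ from hw')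
    simp only [Subgroup.coe_mul, Subgroup.coe_inv, inv_mul_cancel_right] at h2
    exact h2
  have hW₀i : ¬ p ∣ (W₀.subgroupOf M₀).index := by
    have hc := Cfsg.Lib.Coprime.card_sup_mul_card_inf hW₀R
    have hinf : R ⊓ W₀ = ⊥ := (Subgroup.eq_bot_iff_forall _).2 fun y hy => hone y hy.1 ⟨W₀, hW₀p, hy.2⟩
    rw [hinf, card_bot, mul_one] at hc
    have h := card_mul_index (W₀.subgroupOf M₀)
    rw [Nat.card_congr (subgroupOfEquivOfLe (le_sup_right : W₀ ≤ M₀)).toEquiv, hc, mul_comm] at h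
    have : (W₀.subgroupOf M₀).index = Nat.card R := Nat.eq_of_mul_eq_mul_right Nat.card_pos h
    rw [this]
    exact fun hd => (Fact.out : p.Prime).not_dvd_one (hRcop ▸ Nat.dvd_gcd hd dvd_rfl)
  let PW : Sylow p M₀ := ((hW₀p.of_equiv (subgroupOfEquivOfLe (le_sup_right : W₀ ≤ M₀)).symm)).toSylow hW₀i
  obtain ⟨P', hP'⟩ := ((hW₀p.map (MulAut.conj (b : G)).toMonoidHom).comap_subtype (K := M₀)).exists_le_sylow
  obtain ⟨mm, hmm⟩ := MulAction.exists_smul_eq M₀ P' PW
  set bb := (mm : G) * b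
  have hbb : bb ∈ normalizer (W₀ : Set G) := by
    rw [← Cfsg.Lib.Transfer.map_conj_eq_self_iff]
    refine eq_of_le_of_card_ge ?_ (Cfsg.Lib.Transfer.card_map_conj _ bb).ge
    rintro _ ⟨w, hw, rfl⟩
    have hx' : (b : G) * w * (b : G)⁻¹ ∈ M₀ := hbM ⟨w, hw, rfl⟩
    have h5 : mm * ⟨(b : G) * w * (b : G)⁻¹, hx'⟩ * mm⁻¹ ∈ (PW : Subgroup M₀) := by
      rw [← hmm]
      exact Cfsg.Lib.Transfer.mem_conj_sylow_iff.mpr (hP' ⟨w, hw, rfl⟩)
    have h6 : (mm : G) * ((b : G) * w * (b : G)⁻¹) * (mm : G)⁻¹ ∈ W₀ := mem_subgroupOf.mp h5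
    convert h6 using 1
    simp [bb, mul_assoc]
  have hM₀N : M₀ ≤ N := sup_le hRN (hW₀S.trans hSN)
  have hM₀Z : M₀ ≤ centralizer (Z : Set G) := sup_le (hRC.trans hCZ) fun w hw =>
    mem_centralizer_iff.2 fun z hz => (mem_centralizer_iff.1 (omZ_le _ hz).2 w (hW₀S hw)).symm
  have hr0 : ((a : G) * b)⁻¹ * x ∈ R := by
    have h1 : q ((a * b)⁻¹ * ⟨x, hx⟩) = 1 := by rw [map_mul, map_inv, map_mul, ← hab, inv_mul_cancel]
    exact (hq _).1 h1
  have hbbN : bb ∈ N := mul_mem (hM₀N mm.2) b.2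
  set r₁ := bb * (((a : G) * b)⁻¹ * x) * bb⁻¹
  have hr₁ : r₁ ∈ R := (mem_normalizer_iff.1 (hNR hbbN) _).1 hr0
  refine ⟨(a : G) * (mm : G)⁻¹ * r₁, mem_inf.2 ⟨mul_mem (mul_mem a.2 (inv_mem (hM₀N mm.2))) (hRN hr₁),
    mul_mem (mul_mem haZ (inv_mem (hM₀Z mm.2))) (hCZ (hRC hr₁))⟩, bb, ⟨hbbN, hbb⟩, ?_⟩
  simp only [r₁, bb]
  group

end main

/-- a factorization by two normalizers gives control by the pair -/
theorem ctrlAll_of_factor {G : Type u} [Group G] [Finite G] {W₁ W₂ : ∀ (Q : Type u) [Group Q], Subgroup Q}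
    (hW₁ : Cfsg.IsCharPFunctor.{u} p W₁) (hW₂ : Cfsg.IsCharPFunctor.{u} p W₂)
    (h : ∀ (S : Sylow p G) (x : G),
      ∃ a ∈ normalizer ((Cfsg.inducedFunctor W₁ (S : Subgroup G) : Subgroup G) : Set G),
      ∃ b ∈ normalizer ((Cfsg.inducedFunctor W₂ (S : Subgroup G) : Subgroup G) : Set G), x = a * b) :
    CtrlAll p {W₁, W₂} G := by
  intro S A g hA hgA
  obtain ⟨a, ha, b, hb, rfl⟩ := h S g
  set N₁ := normalizer ((Cfsg.inducedFunctor W₁ (S : Subgroup G) : Subgroup G) : Set G)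
  set N₂ := normalizer ((Cfsg.inducedFunctor W₂ (S : Subgroup G) : Subgroup G) : Set G)
  set M := N₁ ⊓ N₂
  have hS1 : (S : Subgroup G) ≤ N₁ := le_normalizer.trans (le_normalizer_induced hW₁ S.2)
  have hS2 : (S : Subgroup G) ≤ N₂ := le_normalizer.trans (le_normalizer_induced hW₂ S.2)
  set X := (closure A).map (MulAut.conj b).toMonoidHom
  have hXM : X ≤ M := by
    rintro _ ⟨u, hu, rfl⟩
    have huS : u ∈ (S : Subgroup G) := (closure_le _).mpr hA hu
    refine mem_inf.2 ⟨?_, mul_mem (mul_mem hb (hS2 huS)) (inv_mem hb)⟩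
    have h1 : (closure A).map (MulAut.conj (a * b)).toMonoidHom ≤ (S : Subgroup G) := by
      rw [← Cfsg.Lib.Control.closure_img]; exact (closure_le _).mpr hgA
    have h2 := mul_mem (mul_mem (inv_mem ha) (hS1 (h1 ⟨u, hu, rfl⟩))) ha
    show b * u * b⁻¹ ∈ N₁
    simpa [mul_assoc] using h2
  obtain ⟨T, hT⟩ := (((S.2.to_le ((closure_le _).mpr hA)).map _).comap_subtype (K := M)
    : IsPGroup p (X.subgroupOf M)).exists_le_sylow
  obtain ⟨m, hm⟩ := MulAction.exists_smul_eq M T (S.subtype (le_inf hS1 hS2))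
  have hmX : ∀ u ∈ A, ((m : G) * b) * u * ((m : G) * b)⁻¹ ∈ (S : Subgroup G) := fun u hu => by
    have hx : b * u * b⁻¹ ∈ X := ⟨u, subset_closure hu, rfl⟩
    have h5 : m * ⟨b * u * b⁻¹, hXM hx⟩ * m⁻¹ ∈ (S.subtype (le_inf hS1 hS2) : Subgroup M) := by
      rw [← hm]
      exact Cfsg.Lib.Transfer.mem_conj_sylow_iff.mpr (hT hx)
    rw [Sylow.coe_subtype, mem_subgroupOf] at h5
    simpa [mul_assoc] using h5
  have hmA := img_subset_iff.mpr hmX
  have c₁ : Chain (StepIn (ind ({W₁, W₂} : Set _) G) ⊤ (S : Subgroup G)) A ((m : G) * b) :=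
    Chain.single ⟨⟨_, ⟨W₂, Set.mem_insert_of_mem _ rfl, rfl⟩, mem_top _, mul_mem m.2.2 hb⟩, hA, hmA⟩
  have e : (a * (m : G)⁻¹) * ((m : G) * b) = a * b := by group
  have c₂ := Chain.mul (x := a * (m : G)⁻¹) c₁
    ⟨⟨_, ⟨W₁, Set.mem_insert _ _, rfl⟩, mem_top _, (show a * (m : G)⁻¹ ∈ N₁ from mul_mem ha (inv_mem (mem_inf.1 m.2).1))⟩, hmA,
      by rw [img_img, e]; exact hgA⟩
  exact ⟨_, c₂, fun u _ => by rw [e]⟩

end Cfsg.Lib.Triple
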